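import Cfsg.Agent.Lib.Spor.PSLFourThree.Loc
import Cfsg.Agent.Lib.Classical.LinBasic

/-!
Generators of `SL₂(3)` and its actions on abelian groups of order `3` and `9`.
-/

set_option autoImplicit false
set_option linter.unusedSectionVars false

namespace Cfsg.Agent.Spor.PSLFourThree

local notation "SL2" => Matrix.SpecialLinearGroup (Fin 2) (ZMod 3)

/-- The transvection `[[1,1],[0,1]]`. -/
def x2 : SL2 := ⟨!![1, 1; 0, 1], by decide⟩

/-- The element `[[0,1],[-1,0]]` of order four. -/
def i2 : SL2 := ⟨!![0, 1; -1, 0], by decide⟩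

theorem x2_cube : x2 ^ 3 = 1 := by decide +kernel

theorem i2_sq : i2 * i2 = -1 := by decide +kernel

theorem rel_x2_i2 : x2 * (i2 * x2 * i2⁻¹) * x2 = i2 := by decide +kernel

theorem transvections_gen : ∀ c : ZMod 3,
    (⟨!![1, c; 0, 1], by revert c; decide⟩ : SL2) = x2 ^ c.val ∧
      (⟨!![1, 0; c, 1], by revert c; decide⟩ : SL2) = i2 * x2 ^ (-c).val * i2⁻¹ := by decide +kernel

theorem cube_sub_one : ∀ a : ZMod 3, a * (a * a) - 1 = 0 → a = 1 := by decide

theorem closure_gen : Subgroup.closure ({x2, i2} : Set SL2) = ⊤ := by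
  refine eq_top_iff.2 ((Cfsg.Agent.Classical.sl_closure_transvections (F := ZMod 3) (ι := Fin 2)).ge.trans
    ((Subgroup.closure_le _).2 ?_))
  have hx : x2 ∈ Subgroup.closure ({x2, i2} : Set SL2) := Subgroup.subset_closure (Or.inl rfl)
  have hi : i2 ∈ Subgroup.closure ({x2, i2} : Set SL2) := Subgroup.subset_closure (Or.inr rfl)
  rintro _ ⟨i, j, hij, c, rfl⟩
  fin_cases i <;> fin_cases j <;> first | exact absurd rfl hij | skip
  · have h : Matrix.SpecialLinearGroup.transvection hij c = x2 ^ c.val :=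
      (Subtype.ext (by clear hx hi; revert hij c; decide +kernel)).trans (transvections_gen c).1
    rw [h]; exact pow_mem hx _
  · have h : Matrix.SpecialLinearGroup.transvection hij c = i2 * x2 ^ (-c).val * i2⁻¹ :=
      (Subtype.ext (by clear hx hi; revert hij c; decide +kernel)).trans (transvections_gen c).2
    rw [h]; exact mul_mem (mul_mem hi (pow_mem hx _)) (inv_mem hi)

theorem gen_induction {p : SL2 → Prop} (hx : p x2) (hi : p i2) (h1 : p 1)
    (hm : ∀ a b, p a → p b → p (a * b)) (hinv : ∀ a, p a → p a⁻¹) (g : SL2) : p g := by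
  have h : g ∈ Subgroup.closure ({x2, i2} : Set SL2) := closure_gen ▸ Subgroup.mem_top g
  induction h using Subgroup.closure_induction with
  | mem a ha =>
    rcases ha with rfl | rfl
    · exact hx
    · exact hi
  | one => exact h1
  | mul a b _ _ ha hb => exact hm a b ha hb
  | inv a _ ha => exact hinv a ha

theorem ij_cases : (i2 * (x2 * i2 * x2⁻¹) = x2 * x2 * i2 * (x2 * x2)⁻¹ ∨
      i2 * (x2 * i2 * x2⁻¹) = -1 * (x2 * x2 * i2 * (x2 * x2)⁻¹)) ∧
    (i2 * (x2 * x2 * i2 * (x2 * x2)⁻¹) = x2 * i2 * x2⁻¹ ∨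
      i2 * (x2 * x2 * i2 * (x2 * x2)⁻¹) = -1 * (x2 * i2 * x2⁻¹)) := by decide +kernel

variable {M : Type*} [CommGroup M] [Finite M] (f : SL2 →* MulAut M)

theorem act_mul (g h : SL2) (m : M) : f (g * h) m = f g (f h m) := by rw [map_mul]; rfl

theorem act_one (m : M) : f 1 m = m := by rw [map_one]; rfl

theorem act_inv {g : SL2} {m : M} (h : f g m = m) : f g⁻¹ m = m := by
  conv_lhs => rw [← h, ← act_mul f, inv_mul_cancel, act_one f]

theorem act_x2_pow_three (m : M) : f x2 (f x2 (f x2 m)) = m := by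
  rw [← act_mul f, ← act_mul f, ← pow_two, ← pow_succ, x2_cube, act_one f]

theorem fixed_all {m : M} (hx : f x2 m = m) (hi : f i2 m = m) (g : SL2) : f g m = m := by
  refine gen_induction (p := fun g => f g m = m) hx hi (act_one f m) (fun a b ha hb => ?_)
    (fun a ha => act_inv f ha) g
  rw [act_mul f, hb, ha]

theorem trivial_of_card_three (h : Nat.card M = 3) (g : SL2) (m : M) : f g m = m := by
  haveI : Fact (Nat.Prime 3) := ⟨Nat.prime_three⟩
  have h3 : ∀ g : SL2, g ^ 3 = 1 → ∀ m : M, f g m = m := by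
    intro g hg m
    by_cases hm : m = 1
    · rw [hm, map_one]
    obtain ⟨k, hk⟩ := (mem_zpowers_of_prime_card h hm : f g m ∈ Subgroup.zpowers m)
    have e : f g (f g (f g m)) = m := by
      rw [← act_mul f, ← act_mul f, ← pow_two, ← pow_succ, hg, act_one f]
    have hk' : f g m = m ^ k := hk.symm
    rw [hk', map_zpow, hk', ← zpow_mul, map_zpow, hk', ← zpow_mul] at e
    have hord : orderOf m = 3 := orderOf_eq_prime (by rw [← h]; exact pow_card_eq_one') hm
    have e2 : (3 : ℤ) ∣ k * (k * k) - 1 := by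
      rw [show ((3 : ℤ)) = ((3 : ℕ) : ℤ) from rfl, ← hord]
      refine orderOf_dvd_iff_zpow_eq_one.2 ?_
      rw [zpow_sub, zpow_one, e, mul_inv_cancel]
    have key : ((k : ZMod 3)) = 1 := by
      have hz : (((k * (k * k) - 1 : ℤ)) : ZMod 3) = 0 := (ZMod.intCast_zmod_eq_zero_iff_dvd _ 3).2 e2
      push_cast at hz
      exact cube_sub_one _ hz
    rw [hk']
    have e3 : (3 : ℤ) ∣ k - 1 := (ZMod.intCast_zmod_eq_zero_iff_dvd _ 3).1 (by push_cast; rw [key]; ring)
    rw [show ((3 : ℤ)) = ((3 : ℕ) : ℤ) from rfl, ← hord, orderOf_dvd_iff_zpow_eq_one, zpow_sub, zpow_one, mul_inv_eq_one] at e3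
    exact e3
  refine fixed_all f (h3 x2 x2_cube m) ?_ g
  rw [← rel_x2_i2, act_mul f, act_mul f, h3 x2 x2_cube m, h3 (i2 * x2 * i2⁻¹) (by
    rw [conj_pow, x2_cube, mul_one, mul_inv_cancel]) m, h3 x2 x2_cube m]

/-- `SL₂(3)` on a nontrivial irreducible module of order `9`: the centre inverts. -/
theorem neg_one_inverts_of_card_nine (h9 : Nat.card M = 9) (hexp : ∀ m : M, m ^ 3 = 1)
    (hirr : ∀ B : Subgroup M, (∀ g, ∀ b ∈ B, f g b ∈ B) → B = ⊥ ∨ B = ⊤)
    (hnt : ∃ g m, f g m ≠ m) (m : M) : f (-1) m = m⁻¹ := by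
  classical
  haveI : Fact (Nat.Prime 3) := ⟨Nat.prime_three⟩
  obtain ⟨g0, m0, hg0⟩ := hnt
  let t : SL2 := -1
  have htc : ∀ g : SL2, t * g = g * t := fun g => by
    show (-1 : SL2) * g = g * -1
    exact Subtype.ext (by simp)
  let B : Subgroup M :=
    { carrier := {m | f t m = m}
      one_mem' := map_one _
      mul_mem' := fun {a b} ha hb => by
        show f t (a * b) = a * b
        rw [map_mul, ha, hb]
      inv_mem' := fun {a} ha => by
        show f t a⁻¹ = a⁻¹
        rw [map_inv, ha] }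
  have hB : ∀ g, ∀ b ∈ B, f g b ∈ B := fun g b hb => by
    show f t (f g b) = f g b
    rw [← act_mul f, htc, act_mul f, (show f t b = b from hb)]
  rcases hirr B hB with hB' | hB'
  · have hm : m * f t m ∈ B := by
      show f t (m * f t m) = m * f t m
      rw [map_mul, ← act_mul f, show t * t = 1 from by
        show (-1 : SL2) * -1 = 1
        decide +kernel, act_one f, mul_comm]
    rw [hB', Subgroup.mem_bot] at hm
    exact eq_inv_of_mul_eq_one_right hm
  exfalso
  have ht : ∀ m, f t m = m := fun m => (show m ∈ B by rw [hB']; trivial)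
  let E : Subgroup M :=
    { carrier := {m | f x2 m = m}
      one_mem' := map_one _
      mul_mem' := fun {a b} ha hb => by
        show f x2 (a * b) = a * b
        rw [map_mul, ha, hb]
      inv_mem' := fun {a} ha => by
        show f x2 a⁻¹ = a⁻¹
        rw [map_inv, ha] }
  let d : M → M := fun m => f x2 m * m⁻¹
  have hd3 : ∀ m, d (d (d m)) = 1 := fun m => by
    simp only [d, map_mul, map_inv, act_x2_pow_three f]
    have e1 := hexp (f x2 m)
    have e2 := hexp (f x2 (f x2 m))
    calc _ = m * (f x2 (f x2 m))⁻¹ * ((f x2 (f x2 m))⁻¹ * (f x2 m)) * (((f x2 (f x2 m))⁻¹ * f x2 m)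
          * (f x2 m * m⁻¹)) := by
          simp only [mul_inv_rev, inv_inv]; ac_rfl
      _ = (f x2 m ^ 3) * (f x2 (f x2 m) ^ 3)⁻¹ := by
          simp only [pow_succ, pow_zero, one_mul, mul_inv_rev]
          rw [show m * (f x2 (f x2 m))⁻¹ * ((f x2 (f x2 m))⁻¹ * f x2 m) *
            ((f x2 (f x2 m))⁻¹ * f x2 m * (f x2 m * m⁻¹)) = m * m⁻¹ * (f x2 m * f x2 m * f x2 m *
              ((f x2 (f x2 m))⁻¹ * ((f x2 (f x2 m))⁻¹ * (f x2 (f x2 m))⁻¹))) by ac_rfl, mul_inv_cancel, one_mul]
      _ = 1 := by rw [e1, e2, inv_one, mul_one]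
  have hdE : ∀ m, d m = 1 ↔ m ∈ E := fun m => mul_inv_eq_one
  have hEne : E ≠ ⊥ := by
    intro hE
    have inj : ∀ m, d m = 1 → m = 1 := fun m hm => by
      have := (hdE m).1 hm
      rwa [hE, Subgroup.mem_bot] at this
    have htop : ∀ m : M, m = 1 := fun m => inj _ (inj _ (inj _ (hd3 m)))
    exact hg0 ((htop _).trans (htop _).symm)
  by_cases hEtop : E = ⊤
  · have hx : ∀ m, f x2 m = m := fun m => (show m ∈ E by rw [hEtop]; trivial)
    have hi : ∀ m, f i2 m = m := fun m => by
      have hc : ∀ y, f (i2 * x2 * i2⁻¹) y = y := fun y => by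
        rw [act_mul f, act_mul f, hx, ← act_mul f, mul_inv_cancel, act_one f]
      rw [← rel_x2_i2, act_mul f, act_mul f, hx, hc, hx]
    exact hg0 (fixed_all f (hx m0) (hi m0) g0)
  have hEcard : Nat.card E = 3 := by
    have hdvd : Nat.card E ∣ 3 ^ 2 := by
      rw [show (3 : ℕ) ^ 2 = 9 from rfl, ← h9]
      exact Subgroup.card_subgroup_dvd_card E
    obtain ⟨k, hk, hk'⟩ := (Nat.dvd_prime_pow Nat.prime_three).1 hdvd
    interval_cases k
    · exact absurd (Subgroup.eq_bot_of_card_eq E hk') hEne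
    · exact hk'
    · exact absurd (Subgroup.eq_top_of_card_eq E (by rw [hk', h9]; norm_num)) hEtop
  -- the second difference vanishes
  have hdd : ∀ m, d (d m) = 1 := by
    intro m
    by_contra h
    have hdm : d m ∉ E := fun h' => h ((hdE _).2 h')
    have hm : m ∉ E := fun h' => h (by rw [(hdE m).2 h']; simp [d])
    have hidx : E.index = 3 := by
      have := E.card_mul_index
      rw [hEcard, h9] at this
      omega
    haveI : E.Normal := inferInstance
    have hq : Nat.card (M ⧸ E) = 3 := hidx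
    have hm' : (QuotientGroup.mk m : M ⧸ E) ≠ 1 := fun e => hm ((QuotientGroup.eq_one_iff m).1 e)
    obtain ⟨k, hk⟩ := (mem_zpowers_of_prime_card hq hm' : (QuotientGroup.mk (d m) : M ⧸ E) ∈ Subgroup.zpowers _)
    have hmem : m ^ (-k) * d m ∈ E := by
      rw [← QuotientGroup.eq_one_iff, QuotientGroup.mk_mul, QuotientGroup.mk_zpow, zpow_neg]
      exact inv_mul_eq_one.2 hk
    have e1 : d (m ^ (-k) * d m) = 1 := (hdE _).2 hmem
    have e2 : d (d m) = d m ^ k := by
      have e : d (m ^ (-k) * d m) = d m ^ (-k) * d (d m) := by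
        simp only [d, map_mul, map_zpow, mul_zpow, inv_zpow, mul_inv_rev]
        ac_rfl
      rw [e, zpow_neg, inv_mul_eq_one] at e1
      exact e1.symm
    have e3 := hd3 m
    have e4' : ∀ y, d (y ^ k) = d y ^ k := fun y => by simp only [d, map_zpow, mul_zpow, inv_zpow]
    have e4 := e4' (d m)
    rw [e2, e4, e2, ← zpow_mul] at e3
    apply h
    rw [e2]
    have hord : orderOf (d m) = 3 := orderOf_eq_prime (hexp _) fun e => hdm (e ▸ E.one_mem)
    rw [← orderOf_dvd_iff_zpow_eq_one, hord] at e3 ⊢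
    exact (Int.Prime.dvd_mul' Nat.prime_three (by simpa using e3)).elim id id
  obtain ⟨v, hv⟩ : ∃ v : E, v ≠ 1 :=
    haveI : Nontrivial E := Finite.one_lt_card_iff_nontrivial.1 (by omega)
    exists_ne 1
  have hxv : f x2 (v : M) = v := v.2
  set g := f i2 (v : M) with hg
  set g' := f x2 g with hg'
  set g'' := f x2 g' with hg''
  have hsum : g * g' * g'' = 1 := by
    have e1 : d (d g) = 1 := hdd g
    simp only [d, map_mul, map_inv] at e1
    rw [← hg', ← hg''] at e1
    have e2 := hexp g'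
    calc g * g' * g'' = g' ^ 3 * (g'' * g'⁻¹ * (g' * g⁻¹)⁻¹) := by
          simp only [pow_succ, pow_zero, one_mul, mul_inv_rev, inv_inv]
          rw [show g' * g' * g' * (g'' * g'⁻¹ * (g * g'⁻¹)) =
            g * g' * g'' * ((g' * g'⁻¹) * (g' * g'⁻¹)) by ac_rfl, mul_inv_cancel, mul_one, mul_one]
      _ = 1 := by rw [e2, one_mul]; exact e1
  have hJ : g' = f (x2 * i2 * x2⁻¹) (v : M) := by
    rw [act_mul f, act_mul f, act_inv f hxv]
  have hK : g'' = f (x2 * x2 * i2 * (x2 * x2)⁻¹) (v : M) := by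
    rw [mul_inv_rev, act_mul f, act_mul f, act_mul f, act_mul f, act_inv f hxv, act_inv f hxv]
  have hI1 : f i2 g = v := by rw [hg, ← act_mul f, i2_sq]; exact ht _
  have hI2 : f i2 g' = g'' := by
    rw [hJ, ← act_mul f, hK]
    rcases ij_cases.1 with e | e
    · rw [e]
    · rw [e, act_mul f]; exact ht _
  have hI3 : f i2 g'' = g' := by
    rw [hK, ← act_mul f, hJ]
    rcases ij_cases.2 with e | e
    · rw [e]
    · rw [e, act_mul f]; exact ht _
  have hiv : f i2 (v : M) = v := by
    have e : f i2 ((v : M) * (g * g' * g'')) = (v : M) * (g * g' * g'') := by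
      rw [map_mul, map_mul, map_mul, hI1, hI2, hI3, ← hg]
      ac_rfl
    rwa [hsum, mul_one] at e
  have hvne : (v : M) ≠ 1 := fun h => hv (Subtype.ext h)
  let F : Subgroup M :=
    { carrier := {m | ∀ h, f h m = m}
      one_mem' := fun h => map_one _
      mul_mem' := fun {a b} ha hb h => by rw [map_mul, ha h, hb h]
      inv_mem' := fun {a} ha h => by rw [map_inv, ha h] }
  have hF : ∀ h, ∀ b ∈ F, f h b ∈ F := fun h b hb => by rw [hb h]; exact hb
  have hvF : (v : M) ∈ F := fixed_all f hxv hiv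
  rcases hirr F hF with h | h
  · exact hvne (Subgroup.mem_bot.1 (h ▸ hvF))
  · exact hg0 ((show m0 ∈ F by rw [h]; trivial) g0)

end Cfsg.Agent.Spor.PSLFourThree
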