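import Cfsg.Agent.Lib.Spor.PSLFourThree.LocFrame
import Cfsg.Agent.Lib.Spor.PSLFourThree.LocModule

/-!
The two natural submodules of `Q/Z`: the elementary abelian normal subgroups of order `27` of `C`.
-/

set_option autoImplicit false
set_option linter.unusedSectionVars false
set_option maxHeartbeats 1600000

namespace Cfsg.Agent.Spor.PSLFourThree

local notation "SL2" => Matrix.SpecialLinearGroup (Fin 2) (ZMod 3)

theorem exists_conj_x2 : ∀ X : SL2, X ^ 3 = 1 → X ≠ 1 → ∃ P : SL2, X = P * x2 * P⁻¹ ∨ X = P * x2⁻¹ * P⁻¹ := by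
  decide +kernel

theorem rel_x2_i2' : x2⁻¹ * (i2⁻¹ * x2⁻¹ * i2⁻¹⁻¹) * x2⁻¹ = i2⁻¹ ∧ i2⁻¹ * i2⁻¹ = -1 ∧ (-1 : SL2) * -1 = 1 := by
  decide +kernel

theorem normal_avoids_center : ∀ x : SL2, x ≠ 1 → ∃ g : SL2,
    x = -1 ∨ x * x = -1 ∨ x * x * x = -1 ∨ x⁻¹ * (g * x * g⁻¹) * (x⁻¹ * (g * x * g⁻¹)) = -1 := by
  decide +kernel

/-- The partner of an element of order three in a standard pair of generators. -/
theorem exists_partner {X : SL2} (h3 : X ^ 3 = 1) (h1 : X ≠ 1) :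
    ∃ I : SL2, I * I = -1 ∧ X * (I * X * I⁻¹) * X = I ∧
      ∀ p : SL2 → Prop, p X → p I → p 1 → (∀ a b, p a → p b → p (a * b)) → (∀ a, p a → p a⁻¹) → ∀ g, p g := by
  obtain ⟨P, hP⟩ := exists_conj_x2 X h3 h1
  have key : ∀ x i : SL2, X = P * x * P⁻¹ → i * i = -1 → x * (i * x * i⁻¹) * x = i →
      (∀ p : SL2 → Prop, p x → p i → p 1 → (∀ a b, p a → p b → p (a * b)) → (∀ a, p a → p a⁻¹) → ∀ g, p g) →
      ∃ I : SL2, I * I = -1 ∧ X * (I * X * I⁻¹) * X = I ∧
      ∀ p : SL2 → Prop, p X → p I → p 1 → (∀ a b, p a → p b → p (a * b)) → (∀ a, p a → p a⁻¹) → ∀ g, p g := by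
    intro x i hX hi hrel hgen
    refine ⟨P * i * P⁻¹, ?_, ?_, fun p pX pI p1 pm pi g => ?_⟩
    · rw [show P * i * P⁻¹ * (P * i * P⁻¹) = P * (i * i) * P⁻¹ by group, hi]
      exact Subtype.ext (by simp)
    · rw [hX]
      calc _ = P * (x * (i * x * i⁻¹) * x) * P⁻¹ := by group
        _ = P * i * P⁻¹ := by rw [hrel]
    · have := hgen (fun g => p (P * g * P⁻¹)) (hX ▸ pX) pI (by simpa using p1)
        (fun a b ha hb => by
          rw [show P * (a * b) * P⁻¹ = P * a * P⁻¹ * (P * b * P⁻¹) by group]; exact pm _ _ ha hb)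
        (fun a ha => by
          rw [show P * a⁻¹ * P⁻¹ = (P * a * P⁻¹)⁻¹ by group]; exact pi _ ha) (P⁻¹ * g * P)
      simpa [mul_assoc] using this
  rcases hP with h | h
  · exact key x2 i2 h i2_sq rel_x2_i2 fun p px pi p1 pm pn g => gen_induction px pi p1 pm pn g
  · refine key x2⁻¹ i2⁻¹ h rel_x2_i2'.2.1 rel_x2_i2'.1 fun p px pi p1 pm pn g => ?_
    exact gen_induction (inv_inv x2 ▸ pn _ px) (inv_inv i2 ▸ pn _ pi) p1 pm pn g

theorem pair_card {V : Type*} [CommGroup V] [Finite V] (hexp : ∀ v : V, v ^ 3 = 1) {v w : V} (hv : v ≠ 1)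
    (hw : w ∉ Subgroup.zpowers v) : Nat.card (Subgroup.zpowers v ⊔ Subgroup.zpowers w : Subgroup V) = 9 := by
  haveI : Fact (Nat.Prime 3) := ⟨Nat.prime_three⟩
  have hw1 : w ≠ 1 := fun h => hw (h ▸ one_mem _)
  have hdis : Disjoint (Subgroup.zpowers v) (Subgroup.zpowers w) := by
    rw [disjoint_iff]
    by_contra h
    obtain ⟨⟨x, hxv, hxw⟩, hx1⟩ := Subgroup.ne_bot_iff_exists_ne_one.1 h
    refine hw ?_
    have h3 : Nat.card (Subgroup.zpowers w) = 3 := by
      rw [Nat.card_zpowers, orderOf_eq_prime (hexp w) hw1]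
    have hgen := zpowers_eq_top_of_prime_card h3 (g := (⟨x, hxw⟩ : Subgroup.zpowers w))
      (fun e => hx1 (Subtype.ext (congrArg Subtype.val e :)))
    obtain ⟨j, hj⟩ : (⟨w, Subgroup.mem_zpowers w⟩ : Subgroup.zpowers w) ∈ Subgroup.zpowers _ :=
      hgen.symm ▸ Subgroup.mem_top _
    have := congrArg Subtype.val hj
    push_cast at this
    exact this ▸ Subgroup.zpow_mem _ hxv j
  let μ : Subgroup.zpowers v × Subgroup.zpowers w →* V :=
    (Subgroup.zpowers v).subtype.coprod (Subgroup.zpowers w).subtype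
  have hinj : Function.Injective μ := fun p q h => by
    have h' : (p.1 : V) * p.2 = q.1 * q.2 := h
    exact Subgroup.mul_injective_of_disjoint hdis (a₁ := p) (a₂ := q) h'
  have hr : μ.range = Subgroup.zpowers v ⊔ Subgroup.zpowers w := by
    rw [MonoidHom.range_eq_map, ← Subgroup.top_prod_top]
    ext x
    rw [Subgroup.mem_sup, Subgroup.mem_map]
    constructor
    · rintro ⟨p, -, rfl⟩; exact ⟨p.1, p.1.2, p.2, p.2.2, rfl⟩
    · rintro ⟨a, ha, b, hb, rfl⟩; exact ⟨(⟨a, ha⟩, ⟨b, hb⟩), ⟨trivial, trivial⟩, rfl⟩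
  rw [← hr, ← Nat.card_congr (MonoidHom.ofInjective hinj).toEquiv, Nat.card_prod, Nat.card_zpowers,
    Nat.card_zpowers, orderOf_eq_prime (hexp v) hv, orderOf_eq_prime (hexp w) hw1]

theorem comm_id {M : Type*} [CommGroup M] (a b c : M) (h : c ^ 3 = 1) :
    (a * b⁻¹)⁻¹ * (a * c⁻¹ * (b * c)⁻¹) = c := by
  have h2 : c⁻¹ * c⁻¹ = c := by
    rw [← mul_inv_rev, inv_eq_iff_mul_eq_one, mul_assoc, ← pow_two, ← pow_succ', h]
  calc (a * b⁻¹)⁻¹ * (a * c⁻¹ * (b * c)⁻¹) = (a⁻¹ * a) * (b * b⁻¹) * (c⁻¹ * c⁻¹) := by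
        simp only [mul_inv_rev, inv_inv]; ac_rfl
    _ = c := by rw [inv_mul_cancel, mul_inv_cancel, one_mul, one_mul, h2]

namespace Loc

variable {G : Type*} [Group G] [Finite G] (T : Loc G)

/-- A normal subgroup of `C` of order `27` that is commutative. -/
structure IsNatural (N : Subgroup G) : Prop where
  z_mem : T.toPre.Z ≤ N
  le_Q : N ≤ T.Q
  card : Nat.card N = 27
  comm : ∀ a ∈ N, ∀ b ∈ N, a * b = b * a
  norm : T.C ≤ Subgroup.normalizer (N : Set G)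

/-- A lift to `Q`. -/
noncomputable def lift (v : T.V) : T.Q := Classical.choose (T.bar_surj v)

theorem bar_lift (v : T.V) : T.bar (T.lift v) = v := Classical.choose_spec (T.bar_surj v)

/-- The commutator form. -/
noncomputable def om (v w : T.V) : G := com (T.lift v : G) (T.lift w)

theorem om_bar (x x' : T.Q) : T.om (T.bar x) (T.bar x') = com (x : G) x' := by
  have key : ∀ a b : T.Q, T.bar a = T.bar b → ∀ c : T.Q, com (a : G) c = com (b : G) c := by
    intro a b h c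
    have hz := T.bar_eq.1 h
    calc com (a : G) c = com (a : G) c * com ((a : G)⁻¹ * b) c := by
          rw [show com ((a : G)⁻¹ * b) (c : G) = 1 from by
            rw [Pre.com_inv, T.com_Z_right c.2 hz, inv_one], mul_one]
      _ = com (b : G) c := by rw [← T.com_mul_left a.2 (T.Z_le hz) c.2, mul_inv_cancel_left]
  rw [om, key _ x (T.bar_lift _) (T.lift _), Pre.com_inv, key _ x' (T.bar_lift _) x, ← Pre.com_inv]

theorem om_mem (v w : T.V) : T.om v w ∈ T.toPre.Z := T.com_mem' (T.lift v).2 (T.lift w).2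

theorem om_mul_left (v v' w : T.V) : T.om (v * v') w = T.om v w * T.om v' w := by
  obtain ⟨x, rfl⟩ := T.bar_surj v
  obtain ⟨x', rfl⟩ := T.bar_surj v'
  obtain ⟨t, rfl⟩ := T.bar_surj w
  rw [← Pre.bar_mul, om_bar, om_bar, om_bar]
  exact T.com_mul_left x.2 x'.2 t.2

theorem om_symm (v w : T.V) : T.om w v = (T.om v w)⁻¹ := Pre.com_inv

theorem om_mul_right (v w w' : T.V) : T.om v (w * w') = T.om v w * T.om v w' := by
  rw [om_symm, om_mul_left, mul_inv_rev, ← om_symm, ← om_symm]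
  exact T.Z_central (T.Q_le_C (T.Z_le (T.om_mem _ _))) (T.om_mem _ _)

theorem om_self (v : T.V) : T.om v v = 1 := Pre.com_self

theorem om_one (v : T.V) : T.om v 1 = 1 := by
  have h := T.om_mul_right v 1 1
  rw [mul_one] at h
  exact left_eq_mul.1 h

theorem om_inv_right (v w : T.V) : T.om v w⁻¹ = (T.om v w)⁻¹ :=
  eq_inv_of_mul_eq_one_left (by rw [← om_mul_right, inv_mul_cancel, om_one])

theorem om_act (g : SL2) (v w : T.V) : T.om (T.act g v) (T.act g w) = T.om v w := by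
  obtain ⟨c, rfl⟩ := T.ρsurj g
  obtain ⟨x, rfl⟩ := T.bar_surj v
  obtain ⟨t, rfl⟩ := T.bar_surj w
  rw [T.act_bar, T.act_bar, om_bar, om_bar]
  rw [← Pre.com_conj, T.conj_Z c.2 (T.com_mem' x.2 t.2)]

/-- Preimage in `G` of a subgroup of `Q/Z`. -/
def pre (W : Subgroup T.V) : Subgroup G := (W.comap (QuotientGroup.mk' _)).map T.Q.subtype

theorem pre_le (W : Subgroup T.V) : T.pre W ≤ T.Q := Subgroup.map_subtype_le _

theorem mem_pre {W : Subgroup T.V} (x : T.Q) : (x : G) ∈ T.pre W ↔ T.bar x ∈ W :=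
  ⟨fun ⟨a, ha, e⟩ => Subtype.ext e ▸ ha, fun h => ⟨x, h, rfl⟩⟩

theorem Z_le_pre (W : Subgroup T.V) : T.toPre.Z ≤ T.pre W := fun x hx => by
  refine (T.mem_pre ⟨x, T.Z_le hx⟩).2 ?_
  rw [(T.bar_eq_one (a := ⟨x, T.Z_le hx⟩)).2 hx]
  exact one_mem _

theorem card_pre (W : Subgroup T.V) : Nat.card (T.pre W) = Nat.card W * 3 := by
  rw [pre, Subgroup.card_map_of_injective T.Q.subtype_injective]
  have hle : T.toPre.Z.subgroupOf T.Q ≤ W.comap (QuotientGroup.mk' _) := fun x hx => by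
    show QuotientGroup.mk' _ x ∈ W
    rw [show QuotientGroup.mk' (T.toPre.Z.subgroupOf T.Q) x = 1 from (QuotientGroup.eq_one_iff x).2 hx]
    exact one_mem _
  have h := Subgroup.card_eq_card_quotient_mul_card_subgroup ((T.toPre.Z.subgroupOf T.Q).subgroupOf
    (W.comap (QuotientGroup.mk' _)))
  rw [Nat.card_congr (Subgroup.subgroupOfEquivOfLe hle).toEquiv,
    Nat.card_congr (Subgroup.subgroupOfEquivOfLe T.Z_le).toEquiv, T.card_Z] at h
  rw [h]
  congr 1
  have h2 := Subgroup.relIndex_ker (f := QuotientGroup.mk' (T.toPre.Z.subgroupOf T.Q))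
    (K := W.comap (QuotientGroup.mk' _))
  rw [QuotientGroup.ker_mk', Subgroup.map_comap_eq_self_of_surjective (QuotientGroup.mk'_surjective _)] at h2
  exact h2

/-- The image in `Q/Z` of a subgroup. -/
def img (N : Subgroup G) : Subgroup T.V := (N.subgroupOf T.Q).map (QuotientGroup.mk' _)

theorem bar_mem_img {N : Subgroup G} (hz : T.toPre.Z ≤ N) (x : T.Q) : T.bar x ∈ T.img N ↔ (x : G) ∈ N := by
  constructor
  · rintro ⟨t, ht, e⟩
    have h := T.bar_eq.1 e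
    rw [SetLike.mem_coe, Subgroup.mem_subgroupOf] at ht
    simpa using mul_mem ht (hz h)
  · exact fun h => ⟨x, Subgroup.mem_subgroupOf.2 h, rfl⟩

theorem pre_img {N : Subgroup G} (hz : T.toPre.Z ≤ N) (hN : N ≤ T.Q) : T.pre (T.img N) = N := by
  ext x
  exact ⟨fun hx => (T.bar_mem_img hz ⟨x, T.pre_le _ hx⟩).1 ((T.mem_pre _).1 hx),
    fun hx => (T.mem_pre ⟨x, hN hx⟩).2 ((T.bar_mem_img hz _).2 hx)⟩

theorem norm_pre {W : Subgroup T.V} (h : ∀ g, ∀ v ∈ W, T.act g v ∈ W) :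
    T.C ≤ Subgroup.normalizer (T.pre W : Set G) := fun c hc =>
  Subgroup.mem_normalizer_fintype fun x hx => by
    have hxQ := T.pre_le W hx
    refine (T.mem_pre ⟨_, T.conj_Q hc hxQ⟩).2 ?_
    have := h (T.ρ ⟨c, hc⟩) _ ((T.mem_pre ⟨x, hxQ⟩).1 hx)
    rwa [T.act_bar] at this

theorem IsNatural.act_mem {N : Subgroup G} (hN : T.IsNatural N) (g : SL2) (v : T.V) (hv : v ∈ T.img N) :
    T.act g v ∈ T.img N := by
  obtain ⟨c, rfl⟩ := T.ρsurj g
  obtain ⟨x, rfl⟩ := T.bar_surj v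
  rw [T.act_bar, T.bar_mem_img hN.z_mem]
  exact (Subgroup.mem_normalizer_iff.1 (hN.norm c.2) _).1 ((T.bar_mem_img hN.z_mem x).1 hv)

theorem IsNatural.card_img {N : Subgroup G} (hN : T.IsNatural N) : Nat.card (T.img N) = 9 := by
  have h := T.card_pre (T.img N)
  rw [T.pre_img hN.z_mem hN.le_Q, hN.card] at h
  omega

/-- The centraliser of a natural subgroup is itself. -/
theorem IsNatural.cent {N : Subgroup G} (hN : T.IsNatural N) :
    Subgroup.centralizer (N : Set G) = N := by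
  classical
  refine le_antisymm (fun c hc => ?_)
    (fun a ha => Subgroup.mem_centralizer_iff.2 fun b hb => hN.comm b hb a ha)
  rw [Subgroup.mem_centralizer_iff] at hc
  have hcC : c ∈ T.C := T.mem_C.2 (hc T.z (hN.z_mem T.z_mem)).symm
  have hfix : ∀ v ∈ T.img N, T.act (T.ρ ⟨c, hcC⟩) v = v := by
    intro v hv
    obtain ⟨x, rfl⟩ := T.bar_surj v
    rw [T.act_bar]
    refine congrArg T.bar (Subtype.ext ?_)
    show c * x * c⁻¹ = x
    rw [← hc x ((T.bar_mem_img hN.z_mem x).1 hv), mul_inv_cancel_right]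
  have hmm : ∀ (g h : SL2) v, T.act (g * h) v = T.act g (T.act h v) := fun g h v => by rw [map_mul]; rfl
  let K : Subgroup SL2 :=
    { carrier := {g | ∀ v ∈ T.img N, T.act g v = v}
      one_mem' := fun v _ => by rw [map_one]; rfl
      mul_mem' := fun {a b} ha hb v hv => by rw [hmm, hb v hv, ha v hv]
      inv_mem' := fun {a} ha v hv => by
        conv_lhs => rw [← ha v hv]
        rw [← hmm, inv_mul_cancel, map_one]; rfl }
  have hKn : ∀ g x, x ∈ K → g * x * g⁻¹ ∈ K := fun g x hx v hv => by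
    rw [hmm, hmm, hx _ (IsNatural.act_mem T hN g⁻¹ v hv), ← hmm, mul_inv_cancel, map_one]; rfl
  have hneg : (-1 : SL2) ∉ K := by
    intro h
    have hsub : T.img N ≤ ⊥ := fun v hv => by
      have e := h v hv
      rw [T.inverts v] at e
      have h2 : v * v = 1 := by
        conv_lhs => lhs; rw [← e]
        exact inv_mul_cancel v
      have h3 := T.V_cube v
      rw [pow_succ, pow_two, h2, one_mul] at h3
      exact h3
    have := Subgroup.card_le_of_le hsub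
    rw [IsNatural.card_img T hN, Subgroup.card_bot] at this
    omega
  have hx : T.ρ ⟨c, hcC⟩ = 1 := by
    by_contra hne
    have hxK : T.ρ ⟨c, hcC⟩ ∈ K := hfix
    obtain ⟨g, h | h | h | h⟩ := normal_avoids_center _ hne
    · exact hneg (h ▸ hxK)
    · exact hneg (h ▸ mul_mem hxK hxK)
    · exact hneg (h ▸ mul_mem (mul_mem hxK hxK) hxK)
    · have := mul_mem (inv_mem hxK) (hKn g _ hxK)
      exact hneg (h ▸ mul_mem this this)
  have hcQ : c ∈ T.Q := (T.ρker _).1 hx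
  set A : Subgroup G := Subgroup.closure ((N : Set G) ∪ {c}) with hA
  have hNA : N ≤ A := fun a ha => Subgroup.subset_closure (Or.inl ha)
  have hAQ : A ≤ T.Q := (Subgroup.closure_le _).2 (Set.union_subset hN.le_Q (Set.singleton_subset_iff.2 hcQ))
  have hgen : ∀ a ∈ (N : Set G) ∪ {c}, ∀ b ∈ (N : Set G) ∪ {c}, a * b = b * a := by
    rintro a (ha | rfl) b (hb | rfl)
    · exact hN.comm a ha b hb
    · exact hc a ha
    · exact (hc b hb).symm
    · rfl
  have hcard : Nat.card A ≤ 27 := T.comm_card_le A hAQ fun a ha b hb => by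
    have := Subgroup.closure_induction₂ (p := fun x y _ _ => x * y = y * x)
      (fun x y hx hy => hgen x hx y hy) (by simp) (by simp)
      (fun x y z _ _ _ h1 h2 => by rw [mul_assoc, h2, ← mul_assoc, h1, mul_assoc])
      (fun x y z _ _ _ h1 h2 => by rw [← mul_assoc, h1, mul_assoc, h2, mul_assoc])
      (fun x y _ _ h => (Commute.inv_left (h : Commute x y)).eq)
      (fun x y _ _ h => (Commute.inv_right (h : Commute x y)).eq) ha hb
    exact this
  rw [Subgroup.eq_of_le_of_card_ge hNA (by rw [hN.card]; exact hcard)]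
  exact Subgroup.subset_closure (Or.inr rfl)

theorem natural_Qc {g : G} (hg : T.IsPair g) (F : T.Frame g) :
    T.IsNatural (T.Q ⊓ T.Qc g) ∧ ∃ D' : Subgroup G, T.IsNatural D' ∧
      (T.Q ⊓ T.Qc g) ⊓ D' = T.toPre.Z ∧ (T.Q ⊓ T.Qc g) ⊔ D' = T.Q ∧
      ∀ N, T.IsNatural N → N = T.Q ⊓ T.Qc g ∨ N = D' := by
  classical
  haveI : Fact (Nat.Prime 3) := ⟨Nat.prime_three⟩
  obtain ⟨hz, -, hcD, hab, hDH⟩ := T.basic hg
  have hZD : T.toPre.Z ≤ T.Q ⊓ T.Qc g := T.Z_le_P.trans (T.P_le hg)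
  have haQ : F.a ∈ T.Q := (T.mem_Hy.1 F.a_mem).1
  have ha1Q : com F.b F.q ∈ T.Q := (T.mem_Hy.1 F.a1_mem).1
  let Y : T.V := T.bar ⟨g * T.z * g⁻¹, hg.1⟩
  let Dd : T.V := T.bar ⟨F.d, F.d_mem.1⟩
  let A : T.V := T.bar ⟨F.a, haQ⟩
  let Qq : T.V := T.bar ⟨F.q, F.q_mem⟩
  let X : SL2 := T.ρ ⟨F.b, F.b_C⟩
  have hmm : ∀ (g h : SL2) v, T.act (g * h) v = T.act g (T.act h v) := fun g h v => by rw [map_mul]; rfl
  have hone : ∀ v, T.act 1 v = v := fun v => by rw [map_one]; rfl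
  have hXbar : ∀ (x : G) (hx : x ∈ T.Q), T.act X (T.bar ⟨x, hx⟩) =
      T.bar ⟨F.b * x * F.b⁻¹, T.conj_Q F.b_C hx⟩ := fun x hx => T.act_bar _ _
  have hX3 : X ^ 3 = 1 := by
    rw [← map_pow, T.ρker]
    show F.b ^ 3 ∈ T.Q
    have h := T.exp _ (T.mem_Qc.1 F.b_mem)
    have e : F.b ^ 3 = g * (g⁻¹ * F.b * g) ^ 3 * g⁻¹ := by rw [← conj_pow]; group
    rw [e, h]; simpa using one_mem T.Q
  have hX1 : X ≠ 1 := fun h => F.b_not ((T.ρker _).1 h)
  obtain ⟨I, hI, hrel, hgen⟩ := exists_partner hX3 hX1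
  -- the difference map
  let δ : T.V →* T.V := MonoidHom.mk' (fun v => T.act X v * v⁻¹) fun v w => by
    rw [map_mul, mul_inv_rev]; ac_rfl
  have hδ : ∀ v, δ v = T.act X v * v⁻¹ := fun v => rfl
  have hfixY : T.act X Y = Y := by
    rw [hXbar]; refine congrArg T.bar (Subtype.ext ?_)
    show F.b * _ * F.b⁻¹ = _
    rw [T.Qc_comm_y F.b_mem, mul_inv_cancel_right]
  have hfixA : T.act X A = A := by
    rw [hXbar]; refine congrArg T.bar (Subtype.ext ?_)
    show F.b * F.a * F.b⁻¹ = F.a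
    rw [F.b_a, mul_inv_cancel_right]
  have hA1 : δ Qq = T.bar ⟨com F.b F.q, ha1Q⟩ := by
    rw [hδ, hXbar, ← Pre.bar_inv, ← Pre.bar_mul]
    rfl
  have hCd : δ Dd ∈ Subgroup.zpowers Y ∧ δ Dd ≠ 1 := by
    obtain ⟨j, hj⟩ := Subgroup.mem_zpowers_iff.1 F.b_d
    have e : δ Dd = T.bar ⟨com F.b F.d, hj ▸ zpow_mem hg.1 j⟩ := by
      rw [hδ, hXbar, ← Pre.bar_inv, ← Pre.bar_mul]
      rfl
    constructor
    · refine ⟨j, ?_⟩
      rw [e]
      show (T.bar _) ^ j = _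
      refine (QuotientGroup.mk_zpow _ _ j).symm.trans (congrArg T.bar (Subtype.ext ?_))
      exact (by push_cast; exact hj)
    · rw [e]
      intro h
      exact F.b_d_ne (T.y_notMem_pow hg (T.bar_eq_one.1 h) F.b_d)
  have hY1 : Y ≠ 1 := fun h => hg.2 (T.bar_eq_one.1 h)
  have hord : ∀ v : T.V, v ≠ 1 → orderOf v = 3 := fun v hv => orderOf_eq_prime (T.V_cube v) hv
  have hpow : ∀ {v w : T.V}, w ∈ Subgroup.zpowers v → v ≠ 1 → w = 1 ∨ w = v ∨ w = v⁻¹ := by
    intro v w hw hv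
    obtain ⟨n, hn, rfl⟩ := mem_zpowers_iff_mem_range_orderOf.1 hw |> Finset.mem_image.1 |>
      fun ⟨n, hn, e⟩ => (⟨n, Finset.mem_range.1 hn, e.symm⟩ : ∃ n, n < orderOf v ∧ w = v ^ n)
    rw [hord v hv] at hn
    interval_cases n
    · exact Or.inl (pow_zero v)
    · exact Or.inr (Or.inl (pow_one v))
    · exact Or.inr (Or.inr (eq_inv_of_mul_eq_one_left (by rw [← pow_succ]; exact T.V_cube v)))
  have hAY : A ∉ Subgroup.zpowers Y := by
    intro h
    refine F.a_not ?_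
    have hYD : Subgroup.zpowers Y ≤ T.img (T.Q ⊓ T.Qc g) :=
      Subgroup.zpowers_le.2 ((T.bar_mem_img hZD _).2 ⟨hg.1, T.y_mem_Qc⟩)
    exact ((T.bar_mem_img hZD _).1 (hYD h)).2
  set L : Subgroup T.V := Subgroup.zpowers Y ⊔ Subgroup.zpowers A with hL
  have hLcard : Nat.card L = 9 := pair_card T.V_cube hY1 hAY
  have hA1Y : δ Qq ∉ Subgroup.zpowers Y := by
    intro h
    refine F.a1_not ?_
    rw [hA1] at h
    have hYD : Subgroup.zpowers Y ≤ T.img (T.Q ⊓ T.Qc g) :=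
      Subgroup.zpowers_le.2 ((T.bar_mem_img hZD _).2 ⟨hg.1, T.y_mem_Qc⟩)
    exact ((T.bar_mem_img hZD _).1 (hYD h)).2
  have hker : δ.ker = L := by
    refine (Subgroup.eq_of_le_of_card_ge (sup_le (Subgroup.zpowers_le.2 ?_) (Subgroup.zpowers_le.2 ?_)) ?_).symm
    · rw [MonoidHom.mem_ker, hδ, hfixY, mul_inv_cancel]
    · rw [MonoidHom.mem_ker, hδ, hfixA, mul_inv_cancel]
    · have h1 := pair_card T.V_cube hY1 hA1Y
      have h2 : Subgroup.zpowers Y ⊔ Subgroup.zpowers (δ Qq) ≤ δ.range := by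
        refine sup_le (Subgroup.zpowers_le.2 ?_) (Subgroup.zpowers_le.2 ⟨_, rfl⟩)
        rcases hpow hCd.1 hY1 with e | e | e
        · exact absurd e hCd.2
        · exact ⟨Dd, e⟩
        · exact inv_inv Y ▸ inv_mem ⟨Dd, e⟩
      have h3 := Subgroup.card_le_of_le h2
      have h4 := δ.ker.card_eq_card_quotient_mul_card_subgroup
      rw [T.card_V, Nat.card_congr (QuotientGroup.quotientKerEquivRange δ).toEquiv] at h4
      rw [hLcard]
      rw [h1] at h3
      nlinarith [Nat.card_pos (α := δ.ker)]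
  have hmemL : ∀ v, v ∈ L ↔ T.act X v = v := fun v => by
    rw [← hker, MonoidHom.mem_ker, hδ, mul_inv_eq_one]
  have hYL : Y ∈ L := Subgroup.mem_sup_left (Subgroup.mem_zpowers Y)
  have hAL : A ∈ L := Subgroup.mem_sup_right (Subgroup.mem_zpowers A)
  have hrange : δ.range ≤ L := by
    have hrcard : Nat.card δ.range = 9 := by
      have h4 := δ.ker.card_eq_card_quotient_mul_card_subgroup
      rw [T.card_V, Nat.card_congr (QuotientGroup.quotientKerEquivRange δ).toEquiv, hker, hLcard] at h4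
      omega
    have h2 : Subgroup.zpowers Y ⊔ Subgroup.zpowers (δ Qq) ≤ δ.range := by
      refine sup_le (Subgroup.zpowers_le.2 ?_) (Subgroup.zpowers_le.2 ⟨_, rfl⟩)
      rcases hpow hCd.1 hY1 with e | e | e
      · exact absurd e hCd.2
      · exact ⟨Dd, e⟩
      · exact inv_inv Y ▸ inv_mem ⟨Dd, e⟩
    rw [← Subgroup.eq_of_le_of_card_ge h2 (by rw [hrcard, pair_card T.V_cube hY1 hA1Y])]
    refine sup_le (Subgroup.zpowers_le.2 hYL) (Subgroup.zpowers_le.2 ((hmemL _).2 ?_))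
    rw [hA1, hXbar]
    refine congrArg T.bar (Subtype.ext ?_)
    show F.b * com F.b F.q * F.b⁻¹ = com F.b F.q
    rw [F.b_a1, mul_inv_cancel_right]
  have hneg : ∀ v, T.act I (T.act I v) = v⁻¹ := fun v => by rw [← hmm, hI]; exact T.inverts v
  have hIinv : ∀ v, T.act I⁻¹ v = (T.act I v)⁻¹ := fun v => by
    have : T.act I⁻¹ (T.act I (T.act I v)) = T.act I v := by rw [← hmm, inv_mul_cancel, hone]
    rw [hneg, map_inv] at this
    rw [← this, inv_inv]
  -- the shift relation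
  have shift : ∀ v ∈ L, T.act X (T.act I v) = v⁻¹ * T.act I v := by
    intro v hv
    have hXv := (hmemL v).1 hv
    set v' := T.act I v with hv'
    set Xv := T.act X v' * v'⁻¹ with hXv'
    have hXvL : T.act X Xv = Xv := (hmemL _).1 (hrange ⟨v', rfl⟩)
    have hXv'' : T.act X v' = Xv * v' := by rw [hXv', inv_mul_cancel_right]
    have h1 : T.act X (T.act I (T.act X (T.act I⁻¹ (T.act X v)))) = v' := by
      rw [← hmm, ← hmm, ← hmm, ← hmm, hv']
      exact congrArg (fun g => T.act g v) (((by group :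
        X * (I * (X * (I⁻¹ * X))) = X * (I * X * I⁻¹) * X)).trans hrel |> fun e => by
          first
          | exact e
          | (calc _ = X * (I * X * I⁻¹) * X := by group
                _ = I := hrel))
    rw [hXv, hIinv, map_inv, map_inv, map_inv, ← hv', hXv''] at h1
    have h2 : T.act I (Xv * v') = v'⁻¹ * Xv := by
      have h3 : T.act X (T.act I (Xv * v')) = v'⁻¹ := by rw [← inv_inv (T.act X _), h1]
      have hm : T.act X (v'⁻¹ * Xv) = v'⁻¹ := by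
        rw [map_mul, map_inv, hXv'', hXvL, mul_inv_rev, inv_mul_cancel_right]
      exact (T.act X).injective (h3.trans hm.symm)
    rw [map_mul, hneg] at h2
    have h4 : T.act I Xv = v'⁻¹ * Xv * v := by rw [← h2, inv_mul_cancel_right]
    have h5 := congrArg (T.act I) h4
    rw [hneg, map_mul, map_mul, map_inv, hneg, h4, inv_inv, ← hv'] at h5
    have e3 := T.V_cube Xv
    have e4 := T.V_cube v
    simp only [pow_succ, pow_zero, one_mul] at e3 e4
    have h6 : Xv * Xv * (v * v) = 1 := by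
      calc Xv * Xv * (v * v) = (v * (v'⁻¹ * Xv * v) * v') * Xv * (v' * v'⁻¹) := by
            rw [mul_inv_cancel, mul_one]
            calc Xv * Xv * (v * v) = v * v * Xv * Xv * 1 := by rw [mul_one]; ac_rfl
              _ = v * v * Xv * Xv * (v'⁻¹ * v') := by rw [inv_mul_cancel]
              _ = _ := by ac_rfl
        _ = Xv⁻¹ * Xv * (v' * v'⁻¹) := by rw [h5]
        _ = 1 := by rw [inv_mul_cancel, mul_inv_cancel, one_mul]
    have h7 : Xv = v⁻¹ := by
      refine eq_inv_of_mul_eq_one_left ?_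
      have : (Xv * Xv * (v * v)) * (Xv * Xv * (v * v)) = 1 := by rw [h6, one_mul]
      calc Xv * v = Xv * v * ((Xv * Xv * Xv) * (v * v * v)) := by rw [e3, e4, one_mul, mul_one]
        _ = (Xv * Xv * (v * v)) * (Xv * Xv * (v * v)) := by ac_rfl
        _ = 1 := this
    rw [hXv'', h7]
  -- the subgroup generated by the orbit of a fixed vector
  let W : T.V → Subgroup T.V := fun v => Subgroup.zpowers v ⊔ Subgroup.zpowers (T.act I v)
  have hvW : ∀ v, v ∈ W v ∧ T.act I v ∈ W v := fun v =>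
    ⟨Subgroup.mem_sup_left (Subgroup.mem_zpowers _), Subgroup.mem_sup_right (Subgroup.mem_zpowers _)⟩
  have hWinv : ∀ v ∈ L, ∀ g, ∀ w ∈ W v, T.act g w ∈ W v := by
    intro v hv
    have hfin : ∀ g, (∀ w ∈ W v, T.act g w ∈ W v) → ∀ n : ℕ, ∀ w ∈ W v, T.act (g ^ n) w ∈ W v := by
      intro g hg n
      induction n with
      | zero => intro w hw; rwa [pow_zero, hone]
      | succ n ih => intro w hw; rw [pow_succ', hmm]; exact hg _ (ih w hw)
    have hmap : ∀ g, T.act g v ∈ W v → T.act g (T.act I v) ∈ W v → ∀ w ∈ W v, T.act g w ∈ W v := by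
      intro g h1 h2 w hw
      have : W v ≤ (W v).comap (T.act g).toMonoidHom :=
        sup_le (Subgroup.zpowers_le.2 h1) (Subgroup.zpowers_le.2 h2)
      exact this hw
    refine hgen _ ?_ ?_ ?_ (fun a b ha hb w hw => by rw [hmm]; exact ha _ (hb w hw)) fun a ha => ?_
    · refine hmap X ?_ ?_
      · rw [(hmemL v).1 hv]; exact (hvW v).1
      · rw [shift v hv]; exact mul_mem (inv_mem (hvW v).1) (hvW v).2
    · refine hmap I (hvW v).2 ?_
      rw [hneg]; exact inv_mem (hvW v).1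
    · intro w hw; rwa [hone]
    · have e : a⁻¹ = a ^ (orderOf a - 1) := by
        refine inv_eq_of_mul_eq_one_right ?_
        rw [← pow_succ', Nat.sub_add_cancel (orderOf_pos a), pow_orderOf_eq_one]
      exact e ▸ hfin a ha _
  have hWcap : ∀ v ∈ L, ∀ w ∈ W v, w ∈ L → w ∈ Subgroup.zpowers v := by
    intro v hv w hw hwL
    obtain ⟨x, hx, t, ⟨n, rfl⟩, rfl⟩ := Subgroup.mem_sup.1 hw
    have hxL : x ∈ L := Subgroup.zpowers_le.2 hv hx
    have ht : (T.act I v) ^ n ∈ L := by simpa using mul_mem (inv_mem hxL) hwL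
    rw [hmemL, map_zpow, shift v hv, mul_zpow, mul_eq_right] at ht
    refine mul_mem hx ?_
    have : (T.act I v) ^ n = 1 := by
      rw [← map_zpow, show v ^ n = 1 by rwa [inv_zpow, inv_eq_one] at ht, map_one]
    simpa [this] using one_mem _
  have hWcard : ∀ v ∈ L, v ≠ 1 → Nat.card (W v) = 9 := by
    intro v hv hv1
    refine pair_card T.V_cube hv1 fun h => hv1 ?_
    have := shift v hv
    rw [(hmemL _).1 (Subgroup.zpowers_le.2 hv h), right_eq_mul, inv_eq_one] at this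
    exact this
  have hWmin : ∀ (S : Subgroup T.V), (∀ g, ∀ w ∈ S, T.act g w ∈ S) → ∀ v ∈ S, W v ≤ S := fun S hS v hv =>
    sup_le (Subgroup.zpowers_le.2 hv) (Subgroup.zpowers_le.2 (hS I v hv))
  -- the flip on Q/Z
  have huN : F.u ∈ Subgroup.normalizer (T.Q : Set G) := IsFlip.norm T F.hu
  have huZ : ∀ x ∈ T.toPre.Z, F.u * x * F.u⁻¹ ∈ T.toPre.Z := by
    intro x hx
    obtain ⟨i, rfl⟩ := Subgroup.mem_zpowers_iff.1 hx
    rw [← conj_zpow, F.hu.inv_z]
    exact zpow_mem (inv_mem T.z_mem) i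
  have huQ : ∀ x ∈ T.Q, F.u * x * F.u⁻¹ ∈ T.Q := fun x hx => (Subgroup.mem_normalizer_iff.1 huN x).1 hx
  let υ : T.V →* T.V := QuotientGroup.map _ _
    (MonoidHom.mk' (fun x : T.Q => (⟨F.u * x * F.u⁻¹, huQ _ x.2⟩ : T.Q))
      fun x t => Subtype.ext (by push_cast; group))
    (fun x hx => by
      rw [Subgroup.mem_subgroupOf] at hx
      show (⟨F.u * x * F.u⁻¹, huQ _ x.2⟩ : T.Q) ∈ T.toPre.Z.subgroupOf T.Q
      rw [Subgroup.mem_subgroupOf]
      exact huZ _ hx)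
  have hυbar : ∀ (x : G) (hx : x ∈ T.Q), υ (T.bar ⟨x, hx⟩) = T.bar ⟨F.u * x * F.u⁻¹, huQ x hx⟩ :=
    fun x hx => rfl
  have hυυ : ∀ v, υ (υ v) = v := fun v => by
    obtain ⟨⟨x, hx⟩, rfl⟩ := T.bar_surj v
    rw [hυbar, hυbar]
    refine congrArg T.bar (Subtype.ext ?_)
    show F.u * (F.u * x * F.u⁻¹) * F.u⁻¹ = x
    rw [show F.u * (F.u * x * F.u⁻¹) * F.u⁻¹ = F.u * F.u * x * (F.u * F.u)⁻¹ by group, F.hu.sq]; group
  have hυact : ∀ g, ∃ g', ∀ v, T.act g (υ v) = υ (T.act g' v) := by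
    intro γ
    obtain ⟨c, rfl⟩ := T.ρsurj γ
    have hc' : F.u⁻¹ * c * F.u ∈ T.C := by
      refine T.mem_C.2 ?_
      have h0 : Commute (c : G) T.z := T.mem_C.1 c.2
      have h1 : Commute (c : G) T.z⁻¹ := h0.inv_right
      have hz' : F.u * T.z = T.z⁻¹ * F.u := by
        conv_rhs => rw [← F.hu.inv_z]
        group
      calc F.u⁻¹ * c * F.u * T.z = F.u⁻¹ * c * (F.u * T.z) := by group
        _ = F.u⁻¹ * (c * T.z⁻¹) * F.u := by rw [hz']; group
        _ = F.u⁻¹ * (T.z⁻¹ * c) * F.u := by rw [h1.eq]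
        _ = F.u⁻¹ * T.z⁻¹ * F.u * (F.u⁻¹ * c * F.u) := by group
        _ = T.z * (F.u⁻¹ * c * F.u) := by
          congr 1
          rw [← F.hu.inv_z]; group
    refine ⟨T.ρ ⟨_, hc'⟩, fun v => ?_⟩
    obtain ⟨⟨x, hx⟩, rfl⟩ := T.bar_surj v
    rw [hυbar, T.act_bar, T.act_bar, hυbar]
    exact congrArg T.bar (Subtype.ext (by show (c : G) * _ * (c : G)⁻¹ = _; group))
  have hυY : υ Y = Y⁻¹ := by
    rw [hυbar, ← Pre.bar_inv]
    exact congrArg T.bar (Subtype.ext F.hu.inv_y)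
  have hυA : υ A = A⁻¹ := by
    rw [hυbar, ← Pre.bar_inv]
    exact congrArg T.bar (Subtype.ext F.a_inv)
  have hυL : ∀ v ∈ L, υ v = v⁻¹ := by
    intro v hv
    obtain ⟨x, ⟨i, rfl⟩, t, ⟨j, rfl⟩, rfl⟩ := Subgroup.mem_sup.1 hv
    simp only [map_mul, map_zpow, hυY, hυA, inv_zpow, mul_inv_rev]
    ac_rfl
  have hυD : υ Dd * Dd⁻¹ ∈ Subgroup.zpowers Y := by
    rw [hυbar, ← Pre.bar_inv, ← Pre.bar_mul]
    have h := F.hu.on_D _ F.d_mem
    have hP : T.P g ≤ T.pre (Subgroup.zpowers Y) :=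
      sup_le (T.Z_le_pre _) (Subgroup.zpowers_le.2 ((T.mem_pre ⟨_, hg.1⟩).2 (Subgroup.mem_zpowers _)))
    exact (T.mem_pre _).1 (hP h)
  -- the subgroup of D
  have hY'D : T.act I Y ∈ Subgroup.zpowers Y ⊔ Subgroup.zpowers Dd := by
    set S := W Y with hS
    have hSυ : ∀ g, ∀ w ∈ S.map υ, T.act g w ∈ S.map υ := by
      rintro γ _ ⟨w, hw, rfl⟩
      obtain ⟨γ', hγ'⟩ := hυact γ
      exact ⟨_, hWinv Y hYL γ' w hw, (hγ' w).symm⟩
    have hYυ : Y ∈ S.map υ := ⟨Y⁻¹, inv_mem (hvW Y).1, by rw [map_inv, hυY, inv_inv]⟩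
    have hυS : υ (T.act I Y) ∈ S := by
      obtain ⟨w, hw, hwe⟩ := hWmin _ hSυ Y hYυ (hvW Y).2
      rw [← hwe, hυυ]
      exact hw
    have hshift := shift Y hYL
    obtain ⟨e, he, ℓ, hℓ, hsplit⟩ : ∃ e ∈ Subgroup.zpowers Dd, ∃ ℓ ∈ L, T.act I Y = e * ℓ := by
      have hδY' : δ (T.act I Y) = Y⁻¹ := by rw [hδ, hshift, mul_inv_cancel_right]
      rcases hpow hCd.1 hY1 with h | h | h
      · exact absurd h hCd.2
      · refine ⟨Dd⁻¹, inv_mem (Subgroup.mem_zpowers _), Dd * T.act I Y, ?_, by rw [inv_mul_cancel_left]⟩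
        rw [← hker, MonoidHom.mem_ker, map_mul, h, hδY', mul_inv_cancel]
      · refine ⟨Dd, Subgroup.mem_zpowers _, Dd⁻¹ * T.act I Y, ?_, by rw [mul_inv_cancel_left]⟩
        rw [← hker, MonoidHom.mem_ker, map_mul, map_inv, h, hδY', inv_inv, mul_inv_cancel]
    have he' : υ e * e⁻¹ ∈ Subgroup.zpowers Y := by
      obtain ⟨n, rfl⟩ := Subgroup.mem_zpowers_iff.1 he
      rw [map_zpow, ← inv_zpow, ← mul_zpow]
      exact zpow_mem hυD n
    have hℓS : ℓ ∈ S := by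
      have h1 : υ (T.act I Y) * (T.act I Y)⁻¹ ∈ S := mul_mem hυS (inv_mem (hvW Y).2)
      have hY2 : Subgroup.zpowers Y ≤ S := le_sup_left
      rw [hsplit, map_mul, hυL ℓ hℓ] at h1
      have h2 := mul_mem (inv_mem (hY2 he')) h1
      have h4 := comm_id (υ e) e ℓ (T.V_cube ℓ)
      rwa [h4] at h2
    rw [hsplit]
    exact mul_mem (Subgroup.mem_sup_right he) (Subgroup.mem_sup_left (hWcap Y hYL ℓ hℓS hℓ))
  have hWY : W Y = T.img (T.Q ⊓ T.Qc g) := by
    have hle : W Y ≤ T.img (T.Q ⊓ T.Qc g) := by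
      have h1 : Subgroup.zpowers Y ⊔ Subgroup.zpowers Dd ≤ T.img (T.Q ⊓ T.Qc g) := sup_le
        (Subgroup.zpowers_le.2 ((T.bar_mem_img hZD _).2 ⟨hg.1, T.y_mem_Qc⟩))
        (Subgroup.zpowers_le.2 ((T.bar_mem_img hZD _).2 F.d_mem))
      exact sup_le (le_sup_left.trans h1) (Subgroup.zpowers_le.2 (h1 hY'D))
    refine Subgroup.eq_of_le_of_card_ge hle ?_
    have h := T.card_pre (T.img (T.Q ⊓ T.Qc g))
    rw [T.pre_img hZD inf_le_left, hcD] at h
    rw [hWcard Y hYL hY1]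
    omega
  have hnat : T.IsNatural (T.Q ⊓ T.Qc g) := ⟨hZD, inf_le_left, hcD, hab, by
    rw [← T.pre_img hZD inf_le_left, ← hWY]
    exact T.norm_pre (hWinv Y hYL)⟩
  refine ⟨hnat, ?_⟩
  -- the second natural subgroup
  set A' := T.act I A with hA'
  set Y' := T.act I Y with hY'
  have hYY' : T.om Y Y' = 1 := by
    obtain ⟨x, hx⟩ := T.bar_surj Y'
    have hxD : (x : G) ∈ T.Q ⊓ T.Qc g := (T.bar_mem_img hZD x).1 (hx ▸ hWY ▸ (hvW Y).2)
    rw [← hx, om_bar]
    exact Pre.com_eq_one_iff.2 (hab _ ⟨hg.1, T.y_mem_Qc⟩ _ hxD)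
  have hεne : T.om A Y' ≠ 1 := by
    intro h
    have hle : W Y ≤ (MonoidHom.mk' (fun w => (⟨T.om A w, T.om_mem A w⟩ : T.toPre.Z))
        (fun w w' => Subtype.ext (T.om_mul_right A w w'))).ker := by
      refine sup_le (Subgroup.zpowers_le.2 ?_) (Subgroup.zpowers_le.2 (Subtype.ext h))
      refine Subtype.ext ?_
      show T.om A Y = 1
      rw [om_bar]
      exact (T.mem_Hy.1 F.a_mem).2
    refine F.a_not (T.cent_D hg haQ fun e he => Pre.com_eq_one_iff.1 ?_).2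
    have := congrArg Subtype.val (MonoidHom.mem_ker.1 (hle (hWY ▸ (T.bar_mem_img hZD ⟨e, he.1⟩).2 he)))
    exact (T.om_bar ⟨F.a, haQ⟩ ⟨e, he.1⟩).symm.trans this
  have hcross : T.om Y A' = T.om A Y' := by
    have := T.om_act I Y A'
    rw [← hY', hA', hneg, om_inv_right, ← om_symm] at this
    rw [hA']
    exact this.symm
  have hform : ∀ n : ℤ, T.om (A * Y ^ n) (T.act I (A * Y ^ n)) = T.om A A' * (T.om A Y' * T.om A Y') ^ n := by
    intro n
    have hz1 : ∀ (v w : T.V) (k : ℤ), T.om v (w ^ k) = T.om v w ^ k := fun v w k =>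
      map_zpow (MonoidHom.mk' (fun w => T.om v w) (T.om_mul_right v)) w k
    have hz2 : ∀ (v w : T.V) (k : ℤ), T.om (v ^ k) w = T.om v w ^ k := fun v w k =>
      map_zpow (MonoidHom.mk' (fun v => T.om v w) (fun a b => T.om_mul_left a b w)) v k
    rw [map_mul, map_zpow, ← hA', ← hY', om_mul_left, om_mul_right, om_mul_right, hz1, hz2, hz2, hz1,
      hcross, hYY', one_zpow, one_zpow, mul_one, Commute.mul_zpow (Commute.refl _), mul_assoc]
  haveI hZcy : Fact (Nat.card T.toPre.Z = 3) := ⟨T.card_Z⟩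
  set ε := T.om A Y' * T.om A Y' with hεdef
  have hεZ : ε ∈ T.toPre.Z := mul_mem (T.om_mem _ _) (T.om_mem _ _)
  have hε1 : ε ≠ 1 := by
    intro h
    have h3 := T.cube_iff (T.Z_le (T.om_mem A Y'))
    rw [show T.om A Y' * T.om A Y' = ε from rfl, h, one_mul] at h3
    exact hεne h3
  have hsolve : ∀ x ∈ T.toPre.Z, ∃ n : ℤ, x * ε ^ n = 1 := by
    intro x hx
    have hgen := zpowers_eq_top_of_prime_card T.card_Z (g := (⟨ε, hεZ⟩ : T.toPre.Z))
      (fun h => hε1 (congrArg Subtype.val h))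
    obtain ⟨j, hj⟩ : (⟨x, hx⟩ : T.toPre.Z) ∈ Subgroup.zpowers _ := hgen.symm ▸ Subgroup.mem_top _
    have := congrArg Subtype.val hj
    push_cast at this
    exact ⟨-j, by rw [← this, ← zpow_add, add_neg_cancel, zpow_zero]⟩
  obtain ⟨n, hn⟩ := hsolve _ (T.om_mem A A')
  set v := A * Y ^ n with hv
  have hvL : v ∈ L := mul_mem hAL (zpow_mem hYL n)
  have hvY : v ∉ Subgroup.zpowers Y := fun h => hAY (by
    have := mul_mem h (inv_mem (Subgroup.zpow_mem_zpowers Y n))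
    simpa [hv] using this)
  have hv1 : v ≠ 1 := fun h => hvY (h ▸ one_mem _)
  have hiso : T.om v (T.act I v) = 1 := by rw [hv, hform]; exact hn
  refine ⟨T.pre (W v), ⟨T.Z_le_pre _, T.pre_le _, ?_, ?_, T.norm_pre (hWinv v hvL)⟩, ?_, ?_, ?_⟩
  · rw [card_pre, hWcard v hvL hv1]
  · intro x hx t ht
    refine Pre.com_eq_one_iff.1 ?_
    rw [← T.om_bar ⟨x, T.pre_le _ hx⟩ ⟨t, T.pre_le _ ht⟩]
    have hx' := (T.mem_pre ⟨x, T.pre_le _ hx⟩).1 hx
    have ht' := (T.mem_pre ⟨t, T.pre_le _ ht⟩).1 ht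
    have hR : ∀ p ∈ W v, ∀ r, T.om v r = 1 → T.om (T.act I v) r = 1 → T.om p r = 1 := by
      intro p hp r h1 h2
      have hle : W v ≤ (MonoidHom.mk' (fun w => (⟨T.om w r, T.om_mem w r⟩ : T.toPre.Z))
          (fun w w' => Subtype.ext (T.om_mul_left w w' r))).ker :=
        sup_le (Subgroup.zpowers_le.2 (Subtype.ext h1)) (Subgroup.zpowers_le.2 (Subtype.ext h2))
      exact congrArg Subtype.val (MonoidHom.mem_ker.1 (hle hp))
    refine hR _ hx' _ ?_ ?_
    · rw [om_symm, hR _ ht' _ (T.om_self v) (by rw [om_symm, hiso, inv_one]), inv_one]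
    · rw [om_symm, hR _ ht' _ hiso (T.om_self _), inv_one]
  · refine le_antisymm (fun x hx => ?_) (le_inf hZD (T.Z_le_pre _))
    obtain ⟨hx1, hx2⟩ := Subgroup.mem_inf.1 hx
    have h1 : T.bar ⟨x, hx1.1⟩ ∈ W Y := hWY ▸ (T.bar_mem_img hZD ⟨x, hx1.1⟩).2 hx1
    have h2 : T.bar ⟨x, hx1.1⟩ ∈ W v := (T.mem_pre ⟨x, hx1.1⟩).1 hx2
    refine (T.bar_eq_one (a := ⟨x, hx1.1⟩)).1 ?_
    by_contra hne
    set w := T.bar ⟨x, hx1.1⟩
    obtain ⟨f, hf, hfL, hf1⟩ : ∃ f ∈ W Y ⊓ W v, f ∈ L ∧ f ≠ 1 := by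
      by_cases h : δ w = 1
      · exact ⟨w, ⟨h1, h2⟩, hker ▸ MonoidHom.mem_ker.2 h, hne⟩
      · exact ⟨δ w, Subgroup.mem_inf.2 ⟨by rw [hδ]; exact mul_mem (hWinv Y hYL X w h1) (inv_mem h1),
          by rw [hδ]; exact mul_mem (hWinv v hvL X w h2) (inv_mem h2)⟩, hrange ⟨w, rfl⟩, h⟩
    have hfY := hWcap Y hYL f hf.1 hfL
    have hfv := hWcap v hvL f hf.2 hfL
    rcases hpow hfv hv1 with e | e | e
    · exact hf1 e
    · exact hvY (e ▸ hfY)
    · exact hvY (inv_inv v ▸ inv_mem (e ▸ hfY))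
  · refine le_antisymm (sup_le inf_le_left (T.pre_le _)) fun x hx => ?_
    have htop : W Y ⊔ W v = ⊤ := by
      refine Subgroup.eq_top_of_le_card _ ?_
      have hle : W Y ⊔ L ≤ W Y ⊔ W v := by
        refine sup_le le_sup_left (sup_le (le_sup_of_le_left (Subgroup.zpowers_le.2 (hvW Y).1))
          (Subgroup.zpowers_le.2 ?_))
        have : A = v * (Y ^ n)⁻¹ := by simp [hv]
        rw [this]
        exact mul_mem (Subgroup.mem_sup_right (hvW v).1)
          (Subgroup.mem_sup_left (inv_mem (zpow_mem (hvW Y).1 n)))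
      set H := W Y ⊔ W v with hH
      have h9 : Nat.card (W v) = 9 := hWcard v hvL hv1
      let μ : W Y × W v →* H := MonoidHom.mk'
        (fun p => ⟨(p.1 : T.V) * p.2, mul_mem (Subgroup.mem_sup_left p.1.2) (Subgroup.mem_sup_right p.2.2)⟩)
        fun p r => Subtype.ext (by push_cast; simp only [Prod.fst_mul, Prod.snd_mul, Subgroup.coe_mul]; ac_rfl)
      have hμ : Function.Injective μ := by
        rw [← MonoidHom.ker_eq_bot_iff, eq_bot_iff]
        rintro ⟨p, r⟩ hpr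
        have e : (p : T.V) * r = 1 := congrArg Subtype.val hpr
        have hpv : (p : T.V) ∈ W v := by rw [eq_inv_of_mul_eq_one_left e]; exact inv_mem r.2
        have hp1 : (p : T.V) = 1 := by
          by_contra hne
          obtain ⟨f, hf, hfL, hf1⟩ : ∃ f ∈ W Y ⊓ W v, f ∈ L ∧ f ≠ 1 := by
            by_cases h : δ (p : T.V) = 1
            · exact ⟨p, ⟨p.2, hpv⟩, hker ▸ MonoidHom.mem_ker.2 h, hne⟩
            · exact ⟨δ p, Subgroup.mem_inf.2 ⟨by rw [hδ]; exact mul_mem (hWinv Y hYL X _ p.2) (inv_mem p.2),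
                by rw [hδ]; exact mul_mem (hWinv v hvL X _ hpv) (inv_mem hpv)⟩, hrange ⟨_, rfl⟩, h⟩
          have hfY := hWcap Y hYL f hf.1 hfL
          rcases hpow (hWcap v hvL f hf.2 hfL) hv1 with e | e | e
          · exact hf1 e
          · exact hvY (e ▸ hfY)
          · exact hvY (inv_inv v ▸ inv_mem (e ▸ hfY))
        rw [hp1, one_mul] at e
        exact Prod.ext (Subtype.ext hp1) (Subtype.ext e)
      have := Nat.card_le_card_of_injective μ hμ
      rw [Nat.card_prod, hWcard Y hYL hY1, h9] at this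
      rw [T.card_V]
      omega
    have hxb : T.bar ⟨x, hx⟩ ∈ W Y ⊔ W v := htop ▸ Subgroup.mem_top _
    have hsup : W Y ⊔ W v ≤ T.img ((T.Q ⊓ T.Qc g) ⊔ T.pre (W v)) := by
      have hzle : T.toPre.Z ≤ (T.Q ⊓ T.Qc g) ⊔ T.pre (W v) := hZD.trans le_sup_left
      refine sup_le (hWY.le.trans (Subgroup.map_mono (Subgroup.comap_mono le_sup_left))) fun w hw => ?_
      obtain ⟨t, rfl⟩ := T.bar_surj w
      exact (T.bar_mem_img hzle t).2 (Subgroup.mem_sup_right ((T.mem_pre t).2 hw))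
    exact (T.bar_mem_img (hZD.trans le_sup_left) ⟨x, hx⟩).1 (hsup hxb)
  · intro N hN
    have hinv := fun γ w hw => IsNatural.act_mem T hN γ w hw
    have hc9 := IsNatural.card_img T hN
    obtain ⟨f, hfN, hfL, hf1⟩ : ∃ f ∈ T.img N, f ∈ L ∧ f ≠ 1 := by
      obtain ⟨w, hw⟩ : ∃ w : T.img N, w ≠ 1 :=
        haveI : Nontrivial (T.img N) := Finite.one_lt_card_iff_nontrivial.1 (by omega)
        exists_ne 1
      have hw1 : (w : T.V) ≠ 1 := fun h => hw (Subtype.ext h)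
      by_cases h : δ (w : T.V) = 1
      · exact ⟨w, w.2, hker ▸ MonoidHom.mem_ker.2 h, hw1⟩
      · exact ⟨δ w, by rw [hδ]; exact mul_mem (hinv X _ w.2) (inv_mem w.2), hrange ⟨_, rfl⟩, h⟩
    have hWf : W f = T.img N :=
      Subgroup.eq_of_le_of_card_ge (hWmin _ hinv f hfN) (by rw [hc9, hWcard f hfL hf1])
    have conc : ∀ w ∈ L, w ≠ 1 → f ∈ Subgroup.zpowers w → T.img N = W w := by
      intro w hwL hw1 hfw
      rw [← hWf]
      refine Subgroup.eq_of_le_of_card_ge (hWmin _ (hWinv w hwL) f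
        ((Subgroup.zpowers_le.2 (hvW w).1) hfw)) ?_
      rw [hWcard w hwL hw1, hWcard f hfL hf1]
    obtain ⟨x, hx, t, ht, hxt⟩ := Subgroup.mem_sup.1 hfL
    rcases hpow ht (fun h => hAY (h ▸ one_mem _)) with e | e | e
    · left
      rw [e, mul_one] at hxt
      rw [← T.pre_img hN.z_mem hN.le_Q, conc Y hYL hY1 (hxt ▸ hx), hWY, T.pre_img hZD inf_le_left]
    all_goals
      right
      obtain ⟨m, hm, hfm⟩ : ∃ m : ℤ, A * Y ^ m ∈ T.img N ∧ f ∈ Subgroup.zpowers (A * Y ^ m) := by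
        obtain ⟨i, rfl⟩ := Subgroup.mem_zpowers_iff.1 hx
        first
        | exact ⟨i, by rw [mul_comm A, ← e, hxt]; exact hfN,
            by rw [mul_comm A, ← e, hxt]; exact Subgroup.mem_zpowers f⟩
        | refine ⟨-i, ?_, ?_⟩ <;> rw [show A * Y ^ (-i) = f⁻¹ by
            rw [← hxt, e, mul_inv_rev, inv_inv, zpow_neg]]
          · exact inv_mem hfN
          · exact ⟨-1, by simp⟩
      obtain ⟨x', hx'⟩ := T.bar_surj (A * Y ^ m)
      have hxN : (x' : G) ∈ N := (T.bar_mem_img hN.z_mem x').1 (hx' ▸ hm)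
      obtain ⟨t', ht'⟩ := T.bar_surj (T.act I (A * Y ^ m))
      have htN : (t' : G) ∈ N := (T.bar_mem_img hN.z_mem t').1 (ht' ▸ hinv I _ hm)
      have hiso' : T.om (A * Y ^ m) (T.act I (A * Y ^ m)) = 1 := by
        rw [← ht', ← hx', om_bar]
        exact Pre.com_eq_one_iff.2 (hN.comm _ hxN _ htN)
      rw [hform] at hiso'
      have hεmn : ε ^ m = ε ^ n := by
        have := hiso'.trans hn.symm
        exact mul_left_cancel this
      have hmn : Y ^ m = Y ^ n := by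
        have hoε : orderOf ε = 3 := orderOf_eq_prime (T.exp ε (T.Z_le hεZ)) hε1
        rw [zpow_eq_zpow_iff_modEq, hord Y hY1]
        rw [zpow_eq_zpow_iff_modEq, hoε] at hεmn
        exact hεmn
      rw [hmn, ← hv] at hfm
      rw [← T.pre_img hN.z_mem hN.le_Q, conc v hvL hv1 hfm]

/-- The two natural subgroups determined by a conjugate of `z` in `Q \ Z`. -/
theorem exists_naturals {g : G} (hg : T.IsPair g) :
    ∃ D D' : Subgroup G, T.IsNatural D ∧ T.IsNatural D' ∧ D ⊓ D' = T.toPre.Z ∧ D ⊔ D' = T.Q ∧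
      D = T.Q ⊓ T.Qc g ∧ g * T.z * g⁻¹ ∈ D ∧ ∀ N, T.IsNatural N → N = D ∨ N = D' := by
  obtain ⟨F⟩ := T.exists_frame hg
  obtain ⟨hD, D', hD', h1, h2, h3⟩ := T.natural_Qc hg F
  exact ⟨_, D', hD, hD', h1, h2, rfl, ⟨hg.1, T.y_mem_Qc⟩, h3⟩

/-- A conjugate of `z` in `Q` outside `Z` determines a natural subgroup containing it. -/
theorem natural_of_pair {g : G} (hg : T.IsPair g) :
    T.IsNatural (T.Q ⊓ T.Qc g) ∧ g * T.z * g⁻¹ ∈ T.Q ⊓ T.Qc g := by
  obtain ⟨F⟩ := T.exists_frame hg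
  exact ⟨(T.natural_Qc hg F).1, hg.1, T.y_mem_Qc⟩

/-- Every conjugate of `z` in `Q` lies in one of the two natural subgroups. -/
theorem conj_mem_natural {D D' : Subgroup G} (hD : T.IsNatural D)
    (hall : ∀ N, T.IsNatural N → N = D ∨ N = D') {h : G} (hh : h * T.z * h⁻¹ ∈ T.Q) :
    h * T.z * h⁻¹ ∈ D ∨ h * T.z * h⁻¹ ∈ D' := by
  by_cases hz : h * T.z * h⁻¹ ∈ T.toPre.Z
  · exact Or.inl (hD.z_mem hz)
  obtain ⟨hN, hy⟩ := T.natural_of_pair (g := h) ⟨hh, hz⟩
  rcases hall _ hN with e | e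
  · exact Or.inl (e ▸ hy)
  · exact Or.inr (e ▸ hy)

end Loc

end Cfsg.Agent.Spor.PSLFourThree
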