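import Cfsg.Agent.Lib.Spor.PSLFourThree.BModel.Data

/-!
The centraliser of a unipotent element of type `2 + 2` in `PSL₄(3)`.
-/

set_option autoImplicit false
set_option linter.unusedSectionVars false
set_option maxRecDepth 100000

namespace Cfsg.Agent.Spor.PSLFourThree

open Cfsg.Agent.Solv.Special Cfsg.Agent.Solv.Special.W648 JCase BModel

/-- The unipotent element of type `2 + 2`. -/
def bMat : SLF := ⟨!![1, 0, 1, 0; 0, 1, 0, 1; 0, 0, 1, 0; 0, 0, 0, 1], by decide +kernel⟩

/-- Its image. -/
def bP : PSLF := pr bMat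

namespace BModel

/-- Block upper triangular matrices with equal diagonal blocks. -/
def big (A B : M2) : M4 :=
  !![A 0 0, A 0 1, B 0 0, B 0 1;
     A 1 0, A 1 1, B 1 0, B 1 1;
     0, 0, A 0 0, A 0 1;
     0, 0, A 1 0, A 1 1]

theorem big_mul (A B C D : M2) : big A B * big C D = big (A * C) (A * D + B * C) := by
  ext i j
  fin_cases i <;> fin_cases j <;>
    simp [big, Matrix.mul_apply, Fin.sum_univ_succ, Matrix.add_apply] <;> ring

theorem det_big (A B : M2) : (big A B).det = A.det * A.det := by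
  simp [big, Matrix.det_succ_row_zero, Fin.sum_univ_succ, Fin.succAbove, Matrix.det_fin_two]
  ring

theorem big_neg (A B : M2) : big (-A) (-B) = -big A B := by
  ext i j
  fin_cases i <;> fin_cases j <;> simp [big]

theorem big_one : big 1 0 = 1 := by decide +kernel

theorem big_inj {A B C D : M2} (h : big A B = big C D) : A = C ∧ B = D := by
  have e : ∀ i j, big A B i j = big C D i j := fun i j => by rw [h]
  have hA : ∀ i j, A i j = C i j := by
    intro i j
    fin_cases i <;> fin_cases j
    exacts [e 0 0, e 0 1, e 1 0, e 1 1]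
  have hB : ∀ i j, B i j = D i j := by
    intro i j
    fin_cases i <;> fin_cases j
    exacts [e 0 2, e 0 3, e 1 2, e 1 3]
  exact ⟨Matrix.ext hA, Matrix.ext hB⟩

theorem sq_one_of_ne : ∀ r : ZMod 3, r ≠ 0 → r * r = 1 := by decide

/-- The element with given blocks. -/
def bigS (A B : M2) (h : A.det ≠ 0) : SLF := ⟨big A B, by rw [det_big]; exact sq_one_of_ne _ h⟩

theorem coe_bigS (A B : M2) (h : A.det ≠ 0) : ((bigS A B h : SLF) : M4) = big A B := rfl

theorem det_A (m : M648) : (atab (sgOf m)).det ≠ 0 := atab_det _ (sgOf_even m)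

/-- The lift of an element of the model. -/
def lift (m : M648) : SLF := bigS (atab (sgOf m)) (fr (vOf m) * atab (sgOf m)) (det_A m)

theorem coe_lift (m : M648) : ((lift m : SLF) : M4) = big (atab (sgOf m)) (fr (vOf m) * atab (sgOf m)) := rfl

theorem lift_mul (g h : M648) : pr (lift (g * h)) = pr (lift g) * pr (lift h) := by
  rw [← map_mul, pr_eq_iff, Matrix.SpecialLinearGroup.coe_mul, coe_lift, coe_lift, coe_lift, big_mul,
    sgOf_mul, vOf_mul, fr_add]
  have hc := atab_conj _ (sgOf_even g) (vOf h)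
  have e : atab (sgOf g) * (fr (vOf h) * atab (sgOf h)) + fr (vOf g) * atab (sgOf g) * atab (sgOf h) =
      (fr (vOf g) + fr (actv (sgOf g) (vOf h))) * (atab (sgOf g) * atab (sgOf h)) := by
    rw [add_mul, add_comm, ← mul_assoc (atab (sgOf g)), hc, mul_assoc, mul_assoc]
  rcases atab_mul _ (sgOf_even g) _ (sgOf_even h) with q | q
  · left
    rw [q, e]
  · right
    rw [q, e, ← big_neg, mul_neg]

theorem coe_bMat : (bMat : M4) = big 1 1 := by decide +kernel

theorem b_pow : ∀ k : Fin 3, ((bMat ^ (k : ℕ) : SLF) : M4) = big 1 (((k : ℕ) : ZMod 3) • (1 : M2)) := by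
  intro k
  have e2 : big 1 1 * big 1 1 = big 1 ((2 : ZMod 3) • (1 : M2)) := by decide +kernel
  fin_cases k
  · show ((bMat ^ 0 : SLF) : M4) = _
    rw [pow_zero, Matrix.SpecialLinearGroup.coe_one, ← big_one]
    simp
  · show ((bMat ^ 1 : SLF) : M4) = _
    rw [pow_one, coe_bMat]
    simp
  · show ((bMat ^ 2 : SLF) : M4) = _
    rw [pow_two, Matrix.SpecialLinearGroup.coe_mul, coe_bMat, e2]
    rfl

end BModel

/-- The embedding of `3³ : S₄`. -/
def psiB : M648 →* PSLF where
  toFun m := pr (lift m)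
  map_one' := by
    rw [← map_one pr, pr_eq_iff, coe_lift, Matrix.SpecialLinearGroup.coe_one]
    exact Or.inl (by decide +kernel)
  map_mul' := lift_mul

theorem psiB_apply (m : M648) : psiB m = pr (lift m) := rfl

theorem psiB_inj : Function.Injective psiB := by
  refine (injective_iff_map_eq_one psiB).2 fun m hm => ?_
  rw [psiB_apply, ← map_one pr, pr_eq_iff, coe_lift, Matrix.SpecialLinearGroup.coe_one, ← big_one, ← big_neg,
    neg_zero] at hm
  have hA : ∀ B : M2, B * 1 = 0 → B = 0 := fun B h => by rwa [mul_one] at h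
  rcases hm with h | h <;> obtain ⟨h1, h2⟩ := big_inj h
  · exact kernel_data m (Or.inl h1) (by rwa [h1, mul_one] at h2)
  · exact kernel_data m (Or.inr h1) (by rwa [h1, mul_neg, mul_one, neg_eq_zero] at h2)

theorem psiB_comm (m : M648) : psiB m * bP = bP * psiB m := by
  rw [psiB_apply, bP, ← map_mul, ← map_mul]
  congr 1
  apply Subtype.ext
  rw [Matrix.SpecialLinearGroup.coe_mul, Matrix.SpecialLinearGroup.coe_mul, coe_lift, coe_bMat, big_mul, big_mul]
  congr 1
  · rw [one_mul, mul_one]
  · simp [add_comm]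

theorem bP_cube : bP ^ 3 = 1 := by
  rw [bP, ← map_pow, ← map_one pr]
  refine congrArg pr (Subtype.ext ?_)
  rw [pow_succ, pow_two, Matrix.SpecialLinearGroup.coe_mul, Matrix.SpecialLinearGroup.coe_mul, coe_bMat, Matrix.SpecialLinearGroup.coe_one]
  decide +kernel

theorem bP_ne_one : bP ≠ 1 := by
  rw [bP, ← map_one pr, Ne, pr_eq_iff]
  decide +kernel

theorem not_pow_mem (k : Fin 3) (hk : k ≠ 0) : bP ^ (k : ℕ) ∉ psiB.range := by
  rintro ⟨m, hm⟩
  rw [psiB_apply, bP, ← map_pow, pr_eq_iff, coe_lift, b_pow] at hm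
  obtain ⟨n1, n2⟩ := not_scalar (vOf m)
  rcases hm with h | h
  · obtain ⟨h1, h2⟩ := big_inj h
    rw [h1, mul_one] at h2
    fin_cases k
    · exact hk rfl
    · exact n1 (by simpa using h2)
    · exact n2 (by rw [h2]; simp [two_smul, ← Nat.cast_smul_eq_nsmul (ZMod 3)])
  · rw [← big_neg] at h
    obtain ⟨h1, h2⟩ := big_inj h
    rw [h1, mul_neg, mul_one, neg_inj] at h2
    fin_cases k
    · exact hk rfl
    · exact n1 (by simpa using h2)
    · exact n2 (by rw [h2]; simp [two_smul, ← Nat.cast_smul_eq_nsmul (ZMod 3)])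

theorem bP_not : bP ∉ psiB.range ∧ bP ^ 2 ∉ psiB.range :=
  ⟨by simpa using not_pow_mem 1 (by decide), not_pow_mem 2 (by decide)⟩

/-- The centraliser of the unipotent element. -/
theorem cent_bP (x : PSLF) (hx : x * bP = bP * x) : ∃ m : M648, ∃ k : Fin 3, x = psiB m * bP ^ (k : ℕ) := by
  obtain ⟨g, rfl⟩ : ∃ g : SLF, pr g = x := QuotientGroup.mk_surjective x
  rw [bP, ← map_mul, ← map_mul, pr_eq_iff, Matrix.SpecialLinearGroup.coe_mul,
    Matrix.SpecialLinearGroup.coe_mul, coe_bMat] at hx
  set A : M2 := !![(g : M4) 0 0, (g : M4) 0 1; (g : M4) 1 0, (g : M4) 1 1] with hA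
  set B : M2 := !![(g : M4) 0 2, (g : M4) 0 3; (g : M4) 1 2, (g : M4) 1 3] with hB
  rcases hx with h | h
  swap
  · exfalso
    have e : ∀ i j, ((g : M4) * big 1 1) i j = (-(big 1 1 * (g : M4))) i j := fun i j => by rw [h]
    have e00 := e 0 0
    have e10 := e 1 0
    have e20 := e 2 0
    have e30 := e 3 0
    simp [big, Matrix.mul_apply, Matrix.vecMul, dotProduct, Fin.sum_univ_succ] at e00 e10 e20 e30
    have k2 : ∀ r : ZMod 3, r = -r → r = 0 := by decide
    have z2 := k2 _ e20
    have z3 := k2 _ e30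
    have z0 := k2 ((g : M4) 0 0) (by linear_combination e00 - z2)
    have z1 := k2 ((g : M4) 1 0) (by linear_combination e10 - z3)
    have hd := Matrix.det_eq_zero_of_column_eq_zero (A := (g : M4)) 0 (fun i => by
      fin_cases i
      exacts [z0, z1, z2, z3])
    rw [g.2] at hd
    exact one_ne_zero hd
  have hg : (g : M4) = big A B := by
    have e : ∀ i j, ((g : M4) * big 1 1) i j = (big 1 1 * (g : M4)) i j := fun i j => by rw [h]
    have e00 := e 0 0
    have e01 := e 0 1
    have e10 := e 1 0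
    have e11 := e 1 1
    have e02 := e 0 2
    have e03 := e 0 3
    have e12 := e 1 2
    have e13 := e 1 3
    simp [big, Matrix.mul_apply, Fin.sum_univ_succ] at e00 e01 e10 e11 e02 e03 e12 e13
    ext i j
    fin_cases i <;> fin_cases j <;> simp [big, hA, hB] <;>
      first
        | rfl
        | linear_combination e00
        | linear_combination -e00
        | linear_combination e01
        | linear_combination -e01
        | linear_combination e10
        | linear_combination -e10
        | linear_combination e11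
        | linear_combination -e11
        | linear_combination e02
        | linear_combination -e02
        | linear_combination e03
        | linear_combination -e03
        | linear_combination e12
        | linear_combination -e12
        | linear_combination e13
        | linear_combination -e13
  have hAd : A.det ≠ 0 := by
    intro h0
    have := g.2
    rw [hg, det_big, h0, mul_zero] at this
    exact zero_ne_one this
  obtain ⟨s, hs, hAs⟩ := atab_cover A hAd
  have hu : IsUnit (atab s).det := isUnit_iff_ne_zero.2 (atab_det s hs)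
  obtain ⟨B', hB'⟩ : ∃ B' : M2, (g : M4) = big (atab s) B' ∨ (g : M4) = -big (atab s) B' := by
    rcases hAs with q | q
    · exact ⟨B, Or.inl (by rw [hg, q])⟩
    · exact ⟨-B, Or.inr (by rw [← big_neg, neg_neg, ← q, hg])⟩
  obtain ⟨v, k, hY⟩ := frame_cover (B' * (atab s)⁻¹)
  obtain ⟨m, hm1, hm2⟩ := data_surj s hs v
  refine ⟨m, k, ?_⟩
  rw [psiB_apply, bP, ← map_pow, ← map_mul, pr_eq_iff, Matrix.SpecialLinearGroup.coe_mul, coe_lift, hm1, hm2,
    b_pow, big_mul, mul_one, mul_one, Matrix.mul_smul, mul_one]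
  have e : ((k : ℕ) : ZMod 3) • atab s + fr v * atab s = B' := by
    calc _ = (fr v + ((k : ℕ) : ZMod 3) • (1 : M2)) * atab s := by
          rw [add_mul, smul_mul_assoc, one_mul, add_comm]
      _ = B' := by rw [← hY, mul_assoc, Matrix.nonsing_inv_mul _ hu, mul_one]
  rw [e]
  exact hB'

namespace BModel

/-- A transvection inside the centraliser is conjugate to the standard one. -/
theorem conj_z (Y : M2) (hd : (1 : M2).det ≠ 0) {u u' w w' : Fin 2 → ZMod 3} (h1 : Y.mulVec u = w)
    (h2 : Y.mulVec u' = 0) (h3 : w 0 * w' 1 - w 1 * w' 0 ≠ 0) (h4 : u 0 * u' 1 - u 1 * u' 0 ≠ 0) :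
    IsConj zP (pr (bigS 1 Y hd)) := by
  set P : M4 := !![w 0, 0, w' 0, 0; w 1, 0, w' 1, 0; 0, u 0, 0, u' 0; 0, u 1, 0, u' 1] with hP
  have hdet : P.det = -((w 0 * w' 1 - w 1 * w' 0) * (u 0 * u' 1 - u 1 * u' 0)) := by
    simp [hP, Matrix.det_succ_row_zero, Fin.sum_univ_succ, Fin.succAbove]
    ring
  have hu : IsUnit P := by
    rw [Matrix.isUnit_iff_isUnit_det, hdet, isUnit_iff_ne_zero, neg_ne_zero]
    exact mul_ne_zero h3 h4
  have a0 := congrFun h1 0
  have a1 := congrFun h1 1
  have b0 := congrFun h2 0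
  have b1 := congrFun h2 1
  simp [Matrix.mulVec, dotProduct, Fin.sum_univ_two] at a0 a1 b0 b1
  have e : ((bigS 1 Y hd : SLF) : M4) * P = P * (zMat : M4) := by
    rw [coe_bigS]
    ext i j
    fin_cases i <;> fin_cases j <;>
      simp [hP, big, zMat, Matrix.mul_apply, Fin.sum_univ_succ] <;>
      first
        | linear_combination a0
        | linear_combination a1
        | linear_combination b0
        | linear_combination b1
  obtain ⟨Q, hQ⟩ := exists_conj (U := !![1, 0, 0, 0; 0, 1, 0, 0; 0, 0, -1, 0; 0, 0, 0, 1]) hu e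
    (by decide +kernel) (by decide +kernel)
  exact isConj_iff.2 ⟨pr Q, by rw [zP, ← map_inv, ← map_mul, ← map_mul, hQ]⟩

theorem det_one2 : (1 : M2).det ≠ 0 := by rw [Matrix.det_one]; exact one_ne_zero

theorem f1_sq : ((lift f1 : SLF) : M4) * (lift f1 : SLF) = -1 := by decide +kernel

theorem e1_sq : ((lift e1 : SLF) : M4) * (lift e1 : SLF) = 1 ∧ ((lift e1 : SLF) : M4) ≠ 1 ∧
    ((lift e1 : SLF) : M4) ≠ -1 := by decide +kernel

end BModel

/-- Some translate of a non-elliptic element is a transvection. -/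
theorem ne_lift (m : M648) (hm : XB.NE m) : ∃ k : Fin 3, IsConj zP (psiB m * bP ^ (k : ℕ)) := by
  obtain ⟨hA, k, u, u', w, w', h1, h2, h3, h4⟩ := ne_rank m hm
  refine ⟨k, ?_⟩
  have e : psiB m * bP ^ (k : ℕ) = pr (bigS 1 (fr (vOf m) + ((k : ℕ) : ZMod 3) • (1 : M2)) det_one2) := by
    rw [psiB_apply, bP, ← map_pow, ← map_mul]
    refine congrArg pr ?_
    apply Subtype.ext
    rw [Matrix.SpecialLinearGroup.coe_mul, coe_lift, b_pow, big_mul, coe_bigS, hA]
    simp [add_comm]
  rw [e]
  exact conj_z _ det_one2 h1 h2 h3 h4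

theorem psiB_f1 : IsConj jP (psiB f1) := by
  obtain ⟨Q, hQ⟩ := conj_j f1_sq
  exact isConj_iff.2 ⟨pr Q, by rw [psiB_apply, jP, ← map_inv, ← map_mul, ← map_mul, hQ]⟩

theorem psiB_e1 : IsConj sP (psiB e1) := by
  obtain ⟨h, h1, h2⟩ := e1_sq
  refine isConj_sP h ?_
  rw [← map_one pr, Ne, pr_eq_iff, Matrix.SpecialLinearGroup.coe_one]
  exact fun q => q.elim h1 h2

theorem not_conj_zP_bP : ¬ IsConj zP bP := by
  intro h
  obtain ⟨x, hx⟩ := isConj_iff.1 h
  obtain ⟨Q, rfl⟩ : ∃ Q : SLF, pr Q = x := QuotientGroup.mk_surjective x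
  rw [mul_inv_eq_iff_eq_mul, zP, bP, ← map_mul, ← map_mul, pr_eq_iff, Matrix.SpecialLinearGroup.coe_mul,
    Matrix.SpecialLinearGroup.coe_mul] at hx
  rcases hx with q | q
  · have e : ∀ i j, ((Q : M4) * (zMat : M4)) i j = ((bMat : M4) * (Q : M4)) i j := fun i j => by rw [q]
    have e00 := e 0 0
    have e02 := e 0 2
    have e03 := e 0 3
    have e10 := e 1 0
    have e12 := e 1 2
    have e13 := e 1 3
    simp [zMat, bMat, Matrix.mul_apply, Fin.sum_univ_succ] at e00 e02 e03 e10 e12 e13
    have hdet : (Q : M4).det = 1 := Q.2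
    clear q e
    generalize (Q : M4) = M at e00 e02 e03 e10 e12 e13 hdet
    have hd : M.det = 0 := by
      simp [Matrix.det_succ_row_zero, Fin.sum_univ_succ, Fin.succAbove, e00, e02, e03, e10, e12, e13]
    exact one_ne_zero (hdet.symm.trans hd)
  · have e : Matrix.trace ((Q : M4) * (zMat : M4) * ((Q⁻¹ : SLF) : M4)) =
        Matrix.trace (-((bMat : M4) * (Q : M4)) * ((Q⁻¹ : SLF) : M4)) := by rw [q]
    have hi : ((Q⁻¹ : SLF) : M4) * (Q : M4) = 1 := by
      rw [← Matrix.SpecialLinearGroup.coe_mul, inv_mul_cancel, Matrix.SpecialLinearGroup.coe_one]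
    have hi' : (Q : M4) * ((Q⁻¹ : SLF) : M4) = 1 := by
      rw [← Matrix.SpecialLinearGroup.coe_mul, mul_inv_cancel, Matrix.SpecialLinearGroup.coe_one]
    rw [Matrix.trace_mul_cycle, hi, one_mul, neg_mul, mul_assoc, hi', mul_one] at e
    revert e
    decide +kernel

namespace BModel

/-- The diagonal reflection. -/
def dMat : M4 := !![-1, 0, 0, 0; 0, 1, 0, 0; 0, 0, 1, 0; 0, 0, 0, 1]

theorem dMat_sq : dMat * dMat = 1 := by decide +kernel

theorem det_d (g : SLF) : (dMat * (g : M4) * dMat).det = 1 := by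
  rw [Matrix.det_mul, Matrix.det_mul, g.2, mul_one, ← Matrix.det_mul, dMat_sq, Matrix.det_one]

/-- Conjugation by the reflection. -/
def flipS (g : SLF) : SLF := ⟨dMat * (g : M4) * dMat, det_d g⟩

theorem coe_flipS (g : SLF) : ((flipS g : SLF) : M4) = dMat * (g : M4) * dMat := rfl

theorem flipS_flipS (g : SLF) : flipS (flipS g) = g := by
  apply Subtype.ext
  rw [coe_flipS, coe_flipS, ← mul_assoc, ← mul_assoc, dMat_sq, one_mul, mul_assoc, dMat_sq, mul_one]

theorem flipS_mul (g h : SLF) : flipS (g * h) = flipS g * flipS h := by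
  apply Subtype.ext
  rw [Matrix.SpecialLinearGroup.coe_mul, coe_flipS, coe_flipS, coe_flipS, Matrix.SpecialLinearGroup.coe_mul,
    mul_assoc (dMat * (g : M4)) dMat, ← mul_assoc dMat (dMat * (h : M4)), ← mul_assoc dMat dMat, dMat_sq, one_mul]
  simp only [mul_assoc]

/-- The automorphism of the special linear group. -/
def flipE : SLF ≃* SLF where
  toFun := flipS
  invFun := flipS
  left_inv := flipS_flipS
  right_inv := flipS_flipS
  map_mul' := flipS_mul

theorem flipE_center : (Subgroup.center SLF).map flipE.toMonoidHom = Subgroup.center SLF := by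
  have hchar : (Subgroup.center SLF).Characteristic := inferInstance
  exact Subgroup.characteristic_iff_map_eq.1 hchar flipE

end BModel

/-- The outer automorphism given by the reflection. -/
noncomputable def flip : PSLF ≃* PSLF :=
  QuotientGroup.congr (Subgroup.center SLF) (Subgroup.center SLF) flipE flipE_center

theorem flip_pr (g : SLF) : flip (pr g) = pr (flipS g) := rfl

theorem flip_sP : flip sP = sP := by
  rw [sP, flip_pr, pr_eq_iff, coe_flipS]
  exact Or.inl (by decide +kernel)

theorem flip_zP : IsConj zP (flip zP) := by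
  obtain ⟨Q, hQ⟩ := exists_conj (g := flipS zMat) (x := zMat) (P := !![-1, 0, 0, 0; 0, 1, 0, 0; 0, 0, -1, 0; 0, 0, 0, 1])
    (U := !![1, 0, 0, 0; 0, 1, 0, 0; 0, 0, -1, 0; 0, 0, 0, 1])
    (by rw [Matrix.isUnit_iff_isUnit_det, isUnit_iff_ne_zero]; decide +kernel)
    (by rw [coe_flipS]; decide +kernel) (by decide +kernel) (by decide +kernel)
  exact isConj_iff.2 ⟨pr Q, by rw [zP, flip_pr, ← map_inv, ← map_mul, ← map_mul, hQ]⟩

end Cfsg.Agent.Spor.PSLFourThree
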