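import Cfsg.Agent.Lib.Spor.PSLFourThree.XB.Index
import Cfsg.Agent.Lib.Spor.SymNine.Plane

/-!
# A group containing `3³ : S₄` with strong non-elliptic elements is that subgroup
-/

set_option autoImplicit false
set_option linter.unusedSectionVars false
set_option linter.style.haveILetI false
set_option maxRecDepth 100000

namespace Cfsg.Agent.Spor.PSLFourThree

open Cfsg Cfsg.Agent.Solv.Special Cfsg.Agent.Solv.Special.W648 XB

universe u

namespace XB

theorem sq_rot : ∀ m : M648, pp m = 1 → W648.rot (m * m) := by decide +kernel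

theorem jC_ne : NE jC ∧ W648.rot jC := by decide +kernel

theorem ell_rep : ∀ c : M648, W648.rot c → c ≠ 1 → ¬ NE c → ∀ a : M648, W648.rot a →
    a ≠ 1 → a ≠ c → a ≠ c * c → NE a ∨ NE (a * c) ∨ NE (a * c * c) := by decide +kernel

theorem ell_cent : ∀ c : M648, W648.rot c → c ≠ 1 → ¬ NE c → ∀ m : M648, pp m = 1 →
    (∀ a : Fin 3, ∃ k : Fin 3, m * ![gA, gB * gA * gB⁻¹, gB * gB * gA * gB⁻¹ * gB⁻¹] a * m⁻¹ =
      ![gA, gB * gA * gB⁻¹, gB * gB * gA * gB⁻¹ * gB⁻¹] a * c ^ (k : ℕ)) → W648.rot m := by decide +kernel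

theorem gens_rot : ∀ a : Fin 3, W648.rot (![gA, gB * gA * gB⁻¹, gB * gB * gA * gB⁻¹ * gB⁻¹] a) := by decide +kernel

end XB

namespace XbCfg

variable {X : Type u} [Group X] [Finite X] (w : XbCfg X)

/-- The normal subgroup of order 27. -/
def rotSub : Subgroup M648 where
  carrier := {m | W648.rot m}
  one_mem' := W648.rot_one
  mul_mem' := fun {a b} ha hb => (W648.rot_mul a ha b hb).1
  inv_mem' := fun {a} ha => (W648.rot_inv a ha).1

theorem mem_rotSub {m : M648} : m ∈ rotSub ↔ W648.rot m := Iff.rfl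

/-- The centraliser of an element of the normal subgroup. -/
theorem cent_le {c : M648} (hc : W648.rot c) (hc1 : c ≠ 1) :
    Subgroup.centralizer ({w.φ c} : Set X) ≤ w.M := by
  classical
  haveI : Fact (Nat.Prime 3) := ⟨Nat.prime_three⟩
  haveI := Fintype.ofFinite X
  by_cases hne : NE c
  · intro g hg
    refine w.strong c hne g ?_
    rw [Subgroup.mem_centralizer_singleton_iff.1 hg, mul_inv_cancel_right]
    exact w.mem c
  obtain ⟨N, hN, hNm⟩ := w.exists_normal
  set A : Subgroup X := rotSub.map w.φ with hA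
  have hAN : A ≤ N := by
    rintro _ ⟨m, hm, rfl⟩
    exact (hNm m).2 hm.1
  have hAc : A ≤ Subgroup.centralizer ({w.φ c} : Set X) := by
    rintro _ ⟨m, hm, rfl⟩
    exact w.cent_iff.2 (W648.rot_mul m hm c hc).2
  set L : Subgroup X := N ⊓ Subgroup.centralizer ({w.φ c} : Set X) with hL
  have hcc : Commute c c := Commute.refl c
  have hcL : w.φ c ∈ L := ⟨(hNm c).2 hc.1, w.cent_iff.2 rfl⟩
  set Z : Subgroup L := Subgroup.zpowers ⟨w.φ c, hcL⟩ with hZ
  haveI : Z.Normal := ⟨fun z hz g => by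
    obtain ⟨k, rfl⟩ := Subgroup.mem_zpowers_iff.1 hz
    have hgc : g * ⟨w.φ c, hcL⟩ * g⁻¹ = ⟨w.φ c, hcL⟩ :=
      Subtype.ext (mul_inv_eq_iff_eq_mul.2 (Subgroup.mem_centralizer_singleton_iff.1 g.2.2))
    rw [← conj_zpow, hgc]
    exact zpow_mem (Subgroup.mem_zpowers _) k⟩
  let π : L →* L ⧸ Z := QuotientGroup.mk' Z
  let ι : rotSub →* L :=
    (w.φ.comp rotSub.subtype).codRestrict L fun m => ⟨hAN ⟨m, m.2, rfl⟩, hAc ⟨m, m.2, rfl⟩⟩
  set E : Subgroup (L ⧸ Z) := (π.comp ι).range with hE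
  have hker : ∀ {x : L}, π x = 1 → ∃ k : Fin 3, (x : X) = w.φ (c ^ (k : ℕ)) := by
    intro x hx
    obtain ⟨k, rfl⟩ := Subgroup.mem_zpowers_iff.1 ((QuotientGroup.eq_one_iff x).1 hx)
    have hc3 : c * c * c = 1 := (W648.rot_inv c hc).2
    have h3 : ((⟨w.φ c, hcL⟩ : L) ^ (3 : ℤ)) = 1 := Subtype.ext (by
      rw [Subgroup.coe_zpow, zpow_ofNat, pow_succ, pow_two, ← map_mul, ← map_mul, hc3, map_one]; rfl)
    refine ⟨⟨(k % 3).toNat, by omega⟩, ?_⟩
    conv_lhs => rw [← Int.emod_add_mul_ediv k 3, zpow_add, zpow_mul, h3, one_zpow, mul_one,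
      ← Int.toNat_of_nonneg (Int.emod_nonneg k (by norm_num : (3 : ℤ) ≠ 0)), zpow_natCast]
    rw [map_pow, SubgroupClass.coe_pow]
  have hM : ∀ {x : L} {a : M648}, W648.rot a → NE a → ∀ b : M648,
      (x : X) * w.φ a * (x : X)⁻¹ = w.φ b → ∃ m : M648, pp m = 1 ∧ w.φ m = x := by
    intro x a _ ha b hb
    obtain ⟨m, hm⟩ := w.strong a ha (x : X) (hb ▸ w.mem b)
    exact ⟨m, (hNm m).1 (hm ▸ x.2.1), hm⟩
  have hpre : ∀ {x : L} {a b : rotSub}, π x * π (ι a) * (π x)⁻¹ = π (ι b) →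
      ∃ k : Fin 3, (x : X) * w.φ (a : M648) * (x : X)⁻¹ = w.φ ((b : M648) * c ^ (k : ℕ)) := by
    intro x a b h
    rw [← map_inv, ← map_mul, ← map_mul] at h
    obtain ⟨k, hk⟩ := hker (x := (ι b)⁻¹ * (x * ι a * x⁻¹)) (by rw [map_mul, map_inv, h, inv_mul_cancel])
    refine ⟨k, ?_⟩
    rw [map_mul, ← hk]
    show _ = w.φ (b : M648) * ((w.φ (b : M648))⁻¹ * ((x : X) * w.φ (a : M648) * (x : X)⁻¹))
    rw [mul_inv_cancel_left]
  have hnorm : ∀ {x : L}, π x ∈ Subgroup.normalizer (E : Set (L ⧸ Z)) →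
      ∃ m : M648, pp m = 1 ∧ w.φ m = x := by
    intro x hx
    obtain ⟨b, hb⟩ := (Subgroup.mem_normalizer_iff.1 hx (π (ι ⟨jC, jC_ne.2⟩))).1 ⟨_, rfl⟩
    obtain ⟨k, hk⟩ := hpre (b := b) hb.symm
    exact hM jC_ne.2 jC_ne.1 _ hk
  have htop : Subgroup.normalizer (E : Set (L ⧸ Z)) = ⊤ := by
    refine SymNine.plane_normal E ?_ ?_ ?_ ?_ ?_ ?_
    · have hk : Nat.card (π.comp ι).ker = 3 := by
        have e : (π.comp ι).ker = Subgroup.zpowers (⟨c, hc⟩ : rotSub) := by
          ext a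
          constructor
          · intro ha
            obtain ⟨k, hk⟩ := hker (x := ι a) ha
            rw [show a = (⟨c, hc⟩ : rotSub) ^ (k : ℕ) from Subtype.ext (w.inj (hk.trans (by simp)))]
            exact pow_mem (Subgroup.mem_zpowers _) _
          · intro ha
            refine (Subgroup.zpowers_le.2 ?_) ha
            exact MonoidHom.mem_ker.2 ((QuotientGroup.eq_one_iff _).2
              (Subgroup.mem_zpowers_iff.2 ⟨1, zpow_one _⟩))
        rw [e, Nat.card_zpowers]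
        refine orderOf_eq_prime ?_ fun h => hc1 (congrArg Subtype.val h)
        exact Subtype.ext (by
          rw [SubgroupClass.coe_pow, pow_succ, pow_two]; exact (W648.rot_inv c hc).2)
      have h27 : Nat.card rotSub = 27 := by
        rw [← W648.card_rot, ← Fintype.card_subtype, ← Nat.card_eq_fintype_card]
        exact Nat.card_congr (Equiv.subtypeEquivRight fun m => Iff.rfl)
      have h := (π.comp ι).ker.card_eq_card_quotient_mul_card_subgroup
      rw [h27, hk, Nat.card_congr (QuotientGroup.quotientKerEquivRange (π.comp ι)).toEquiv] at h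
      rw [hE]
      omega
    · exact ⟨⟨fun a b => by
        obtain ⟨i, hi⟩ := a.2
        obtain ⟨j, hj⟩ := b.2
        refine Subtype.ext ?_
        rw [Subgroup.coe_mul, Subgroup.coe_mul, ← hi, ← hj, ← map_mul, ← map_mul,
          show i * j = j * i from Subtype.ext (W648.rot_mul _ i.2 _ j.2).2]⟩⟩
    · rintro _ ⟨a, rfl⟩
      rw [← map_pow, show a ^ 3 = 1 from Subtype.ext (by
        rw [SubgroupClass.coe_pow, pow_succ, pow_two]; exact (W648.rot_inv _ a.2).2), map_one]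
    · refine le_antisymm (fun z hz => ?_) fun z hz => ?_
      · obtain ⟨x, rfl⟩ := QuotientGroup.mk'_surjective Z z
        have hx : π x ∈ Subgroup.normalizer (E : Set (L ⧸ Z)) := Subgroup.centralizer_le_normalizer _ hz
        obtain ⟨m, hm, hmx⟩ := hnorm hx
        refine ⟨⟨m, ell_cent c hc hc1 hne m hm fun a => ?_⟩, ?_⟩
        · obtain ⟨k, hk⟩ := hpre (x := x) (a := ⟨_, gens_rot a⟩) (b := ⟨_, gens_rot a⟩) (by
            rw [← Subgroup.mem_centralizer_iff.1 hz (π (ι ⟨_, gens_rot a⟩)) ⟨_, rfl⟩]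
            exact mul_inv_cancel_right _ _)
          exact ⟨k, w.inj (by rw [map_mul, map_mul, map_inv, hmx]; exact hk)⟩
        · exact congrArg π (Subtype.ext hmx)
      · obtain ⟨a, rfl⟩ := hz
        rw [Subgroup.mem_centralizer_iff]
        rintro _ ⟨b, rfl⟩
        rw [← map_mul, ← map_mul, show b * a = a * b from Subtype.ext (W648.rot_mul _ b.2 _ a.2).2]
    · rintro _ ⟨a, rfl⟩ ha z hz
      obtain ⟨x, rfl⟩ := QuotientGroup.mk'_surjective Z z
      have hc' : ∀ k : ℕ, π (ι (⟨c, hc⟩ ^ k)) = 1 := fun k => by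
        rw [map_pow, map_pow]
        have : π (ι ⟨c, hc⟩) = 1 := (QuotientGroup.eq_one_iff _).2
          (Subgroup.mem_zpowers_iff.2 ⟨1, zpow_one _⟩)
        rw [this, one_pow]
      obtain ⟨a', ha', hn⟩ : ∃ a' : rotSub, π (ι a') = π (ι a) ∧ NE (a' : M648) := by
        by_cases h1 : (a : M648) = 1
        · exact absurd (show π.comp ι a = 1 by rw [show a = 1 from Subtype.ext h1, map_one]) ha
        by_cases h2 : (a : M648) = c
        · exact absurd (show π.comp ι a = 1 by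
            rw [show a = (⟨c, hc⟩ : rotSub) ^ 1 from Subtype.ext (by simp [h2])]; exact hc' 1) ha
        by_cases h3 : (a : M648) = c * c
        · exact absurd (show π.comp ι a = 1 by
            rw [show a = (⟨c, hc⟩ : rotSub) ^ 2 from Subtype.ext (by simp [h3, pow_two])]; exact hc' 2) ha
        rcases ell_rep c hc hc1 hne a a.2 h1 h2 h3 with h | h | h
        · exact ⟨a, rfl, h⟩
        · exact ⟨a * ⟨c, hc⟩ ^ 1, by rw [map_mul, map_mul, hc' 1, mul_one], by simpa using h⟩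
        · exact ⟨a * ⟨c, hc⟩ ^ 2, by rw [map_mul, map_mul, hc' 2, mul_one], by simpa [pow_two, mul_assoc] using h⟩
      have hcm := Subgroup.mem_centralizer_singleton_iff.1 hz
      obtain ⟨k, hk⟩ := hpre (x := x) (a := a') (b := a') (by
        rw [ha', show π (ι a) = (π.comp ι) a from rfl, hcm, mul_inv_cancel_right])
      obtain ⟨m, hm, hmx⟩ := hM a'.2 hn _ hk
      have hconj : ∀ g : L, ∀ n : M648, w.φ n = g → ∀ e ∈ E, π g * e * (π g)⁻¹ ∈ E := by
        intro g n hn' e he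
        obtain ⟨b, rfl⟩ := he
        refine ⟨⟨n * b * n⁻¹, W648.rot_conj _ b.2 n⟩, ?_⟩
        show π (ι _) = _
        rw [show π.comp ι b = π (ι b) from rfl, ← map_inv, ← map_mul, ← map_mul]
        refine congrArg π (Subtype.ext ?_)
        show w.φ (n * b * n⁻¹) = (g : X) * w.φ (b : M648) * (g : X)⁻¹
        rw [map_mul, map_mul, map_inv, hn']
      rw [Subgroup.mem_normalizer_iff]
      refine fun e => ⟨hconj x m hmx e, fun he => ?_⟩
      have := hconj x⁻¹ m⁻¹ (by rw [map_inv, hmx]; rfl) _ he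
      rwa [map_inv, inv_inv, ← mul_assoc, ← mul_assoc, inv_mul_cancel, one_mul,
        inv_mul_cancel_right] at this
    · intro z hz
      obtain ⟨x, rfl⟩ := QuotientGroup.mk'_surjective Z z
      obtain ⟨m, hm, hmx⟩ := hnorm hz
      refine ⟨⟨m * m, sq_rot m hm⟩, ?_⟩
      show π (ι _) = π x * π x
      rw [← map_mul]
      exact congrArg π (Subtype.ext (by show w.φ (m * m) = _; rw [map_mul, hmx]; rfl))
  intro g hg
  refine w.strong jC jC_ne.1 g ?_
  have hm : w.φ jC ∈ A := ⟨jC, jC_ne.2, rfl⟩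
  have hmem : g * w.φ jC * g⁻¹ ∈ L :=
    ⟨hN.conj_mem _ (hAN hm) g, (Subgroup.centralizer _).mul_mem ((Subgroup.centralizer _).mul_mem hg (hAc hm)) ((Subgroup.centralizer _).inv_mem hg)⟩
  have hx : π ⟨_, hmem⟩ ∈ Subgroup.normalizer (E : Set (L ⧸ Z)) := htop ▸ Subgroup.mem_top _
  obtain ⟨m, -, hmx⟩ := hnorm hx
  exact ⟨m, hmx⟩

/-- The subgroup is the whole group. -/
theorem range_eq_top : w.φ.range = ⊤ := by
  let e : ↥w.φ.range ≃* M648 := (MonoidHom.ofInjective w.inj).symm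
  have he : ∀ m : M648, e ⟨w.φ m, w.mem m⟩ = m := fun m => by
    show (MonoidHom.ofInjective w.inj).symm (MonoidHom.ofInjective w.inj m) = m
    exact MulEquiv.symm_apply_apply _ _
  refine W648.Emb.eq_top (J := rotSub.map w.φ) (e := e) ⟨?_, ?_, ?_⟩
  · rintro _ ⟨m, -, rfl⟩
    exact w.mem m
  · rintro ⟨_, m, rfl⟩
    rw [he]
    exact ⟨fun ⟨n, hn, hnm⟩ => w.inj hnm ▸ hn, fun h => ⟨m, h, rfl⟩⟩
  · rintro _ ⟨m, hm, rfl⟩ hj
    exact w.cent_le hm fun h => hj (by rw [h, map_one])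

end XbCfg

end Cfsg.Agent.Spor.PSLFourThree
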