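import Cfsg.Agent.Lib.Spor.PSLFourThree.Strong
import Cfsg.Agent.Lib.Spor.PSLFourThree.BModel
import Cfsg.Agent.Lib.Spor.PSLFourThree.XB

/-!
# The centralisers of the unipotent elements of type `2 + 2`
-/

set_option autoImplicit false
set_option linter.unusedSectionVars false
set_option linter.style.haveILetI false
set_option maxRecDepth 100000

namespace Cfsg.Agent.Spor.PSLFourThree

open Cfsg.Agent.Solv.Special Cfsg.Agent.Solv.Special.W648 XB

universe u

variable {G : Type u} [Group G] [Finite G] (f : PSLF →* G) (hf : Function.Injective f)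
  (hz : ∀ g : G, g * f zP * g⁻¹ ∈ f.range → g ∈ f.range)

include hf hz

/-- The centraliser of the first unipotent element. -/
theorem cent_bP_le : Subgroup.centralizer ({f bP} : Set G) ≤ f.range := by
  set C := Subgroup.centralizer ({f bP} : Set G) with hC
  set b : C := ⟨f bP, Subgroup.mem_centralizer_singleton_iff.2 rfl⟩ with hb
  have hbc : ∀ g : C, g * b = b * g := fun g => Subtype.ext (Subgroup.mem_centralizer_singleton_iff.1 g.2)
  set Z : Subgroup C := Subgroup.zpowers b with hZ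
  haveI : Z.Normal := ⟨fun z hzz g => by
    obtain ⟨k, rfl⟩ := Subgroup.mem_zpowers_iff.1 hzz
    rw [← conj_zpow, hbc g, mul_inv_cancel_right]
    exact zpow_mem (Subgroup.mem_zpowers _) k⟩
  set π : C →* C ⧸ Z := QuotientGroup.mk' Z with hπ
  have hb3 : b ^ 3 = 1 := Subtype.ext (by
    rw [SubgroupClass.coe_pow]; show f bP ^ 3 = _; rw [← map_pow, bP_cube, map_one]; rfl)
  have hπb : π b = 1 := (QuotientGroup.eq_one_iff b).2 (Subgroup.mem_zpowers _)
  have hker : ∀ {z : C}, π z = 1 → ∃ k : Fin 3, (z : G) = f (bP ^ (k : ℕ)) := by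
    intro z hzz
    obtain ⟨k, rfl⟩ := Subgroup.mem_zpowers_iff.1 ((QuotientGroup.eq_one_iff z).1 hzz)
    refine ⟨⟨(k % 3).toNat, by omega⟩, ?_⟩
    conv_lhs => rw [← Int.emod_add_mul_ediv k 3, zpow_add, zpow_mul, zpow_ofNat b 3, hb3, one_zpow, mul_one,
      ← Int.toNat_of_nonneg (Int.emod_nonneg k (by norm_num : (3 : ℤ) ≠ 0)), zpow_natCast]
    rw [map_pow, SubgroupClass.coe_pow]
  let σ : M648 →* C := (f.comp psiB).codRestrict C fun m => Subgroup.mem_centralizer_singleton_iff.2 (by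
    show f (psiB m) * f bP = f bP * f (psiB m)
    rw [← map_mul, ← map_mul, psiB_comm])
  have hσ : ∀ m, (σ m : G) = f (psiB m) := fun _ => rfl
  set φ : M648 →* C ⧸ Z := π.comp σ with hφdef
  have hφ : ∀ m, φ m = π (σ m) := fun _ => rfl
  have hinj : Function.Injective φ := (injective_iff_map_eq_one φ).2 fun m hm => by
    obtain ⟨k, hk⟩ := hker (hφ m ▸ hm)
    have h : psiB m = bP ^ (k : ℕ) := hf hk
    fin_cases k
    · exact psiB_inj (h.trans (by simp))
    · exact absurd ⟨m, h.trans (pow_one _)⟩ bP_not.1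
    · exact absurd ⟨m, h⟩ bP_not.2
  have hin : ∀ {g : C}, (g : G) ∈ f.range → π g ∈ φ.range := by
    intro g hg
    obtain ⟨y, hy⟩ := hg
    obtain ⟨m, k, e⟩ := cent_bP y (hf (by
      rw [map_mul, map_mul, hy]; exact Subgroup.mem_centralizer_singleton_iff.1 g.2))
    refine ⟨m, ?_⟩
    rw [show g = σ m * b ^ (k : ℕ) from Subtype.ext (by
      rw [Subgroup.coe_mul, hσ, SubgroupClass.coe_pow, ← hy, e, map_mul, map_pow]), map_mul, map_pow, hπb,
      one_pow, mul_one]
    rfl
  have hlift : ∀ {g : C} {m : M648}, π g = φ m → ∃ k : Fin 3, (g : G) = f (psiB m * bP ^ (k : ℕ)) := by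
    intro g m h
    obtain ⟨k, hk⟩ := hker (z := (σ m)⁻¹ * g) (by rw [map_mul, map_inv, h, hφ, inv_mul_cancel])
    refine ⟨k, ?_⟩
    rw [map_mul, ← hk, Subgroup.coe_mul, InvMemClass.coe_inv, hσ, mul_inv_cancel_left]
  let w : XbCfg (C ⧸ Z) :=
    { φ := φ
      inj := hinj
      strong := fun m hm Y hY => by
        obtain ⟨g, rfl⟩ := QuotientGroup.mk'_surjective Z Y
        obtain ⟨k, hk⟩ := ne_lift m hm
        obtain ⟨c, hc⟩ := isConj_iff.1 hk
        refine hin (strong_conj f hz (k := c) ?_)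
        rw [hc]
        obtain ⟨m', hm'⟩ := hY
        obtain ⟨l, hl⟩ := hlift (g := g * (σ m * b ^ (k : ℕ)) * g⁻¹) (m := m') (by
          rw [map_mul, map_mul, map_mul, map_pow, hπb, one_pow, mul_one, map_inv, ← hφ]
          exact hm'.symm)
        refine ⟨psiB m' * bP ^ (l : ℕ), ?_⟩
        rw [← hl, Subgroup.coe_mul, Subgroup.coe_mul, Subgroup.coe_mul, InvMemClass.coe_inv,
          SubgroupClass.coe_pow, hσ, map_mul, map_pow]
      vt := fun h => by
        obtain ⟨Y, hY⟩ := isConj_iff.1 h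
        obtain ⟨g, rfl⟩ := QuotientGroup.mk'_surjective Z Y
        obtain ⟨l, hl⟩ := hlift (g := g * σ e1 * g⁻¹) (m := f1) (by rw [map_mul, map_mul, map_inv, ← hφ]; exact hY)
        have he : e1 * e1 = 1 ∧ f1 * f1 = 1 := by decide +kernel
        rw [Subgroup.coe_mul, Subgroup.coe_mul, InvMemClass.coe_inv, hσ] at hl
        have h2 : psiB f1 * bP ^ (l : ℕ) * (psiB f1 * bP ^ (l : ℕ)) = 1 := hf (by
          rw [map_mul, ← hl, map_one]
          calc (g : G) * f (psiB e1) * (g : G)⁻¹ * ((g : G) * f (psiB e1) * (g : G)⁻¹)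
              = (g : G) * (f (psiB e1) * f (psiB e1)) * (g : G)⁻¹ := by group
            _ = 1 := by rw [← map_mul, ← map_mul, he.1, map_one, map_one]; group)
        have hc : Commute (psiB f1) (bP ^ (l : ℕ)) := (show Commute (psiB f1) bP from psiB_comm f1).pow_right _
        rw [← pow_two, hc.mul_pow, pow_two, ← map_mul, he.2, map_one, one_mul, ← pow_mul] at h2
        have hl0 : l = 0 := by
          fin_cases l
          · rfl
          · exact absurd ⟨1, by rw [map_one]; exact h2.symm⟩ bP_not.2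
          · exfalso
            refine bP_not.1 ⟨1, ?_⟩
            rw [map_one, ← h2]
            show bP ^ (2 * 2) = bP
            rw [pow_succ, bP_cube, one_mul]
        rw [hl0, Fin.val_zero, pow_zero, mul_one] at hl
        obtain ⟨a, ha⟩ := isConj_iff.1 psiB_e1
        obtain ⟨c, hc'⟩ := isConj_iff.1 psiB_f1
        refine not_fused f hf hz ((f c)⁻¹ * (g : G) * f a) ?_
        rw [← ha, ← hc', map_mul, map_mul, map_inv, map_mul, map_mul, map_inv] at hl
        calc (f c)⁻¹ * (g : G) * f a * f sP * ((f c)⁻¹ * (g : G) * f a)⁻¹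
            = (f c)⁻¹ * ((g : G) * (f a * f sP * (f a)⁻¹) * (g : G)⁻¹) * f c := by group
          _ = f jP := by rw [hl]; group }
  intro g hg
  have h : π ⟨g, hg⟩ ∈ w.φ.range := w.range_eq_top ▸ Subgroup.mem_top _
  obtain ⟨m, hm⟩ := h
  obtain ⟨k, hk⟩ := hlift (g := ⟨g, hg⟩) hm.symm
  exact ⟨_, hk.symm⟩

end Cfsg.Agent.Spor.PSLFourThree
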