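import Mathlib

/-!
Named elements of `PSL₄(3)`.
-/

set_option autoImplicit false
set_option maxRecDepth 100000

namespace Cfsg.Agent.Spor.PSLFourThree

open Matrix

/-- The special linear group. -/
abbrev SLF := Matrix.SpecialLinearGroup (Fin 4) (ZMod 3)

/-- The projective special linear group. -/
abbrev PSLF := Matrix.ProjectiveSpecialLinearGroup (Fin 4) (ZMod 3)

/-- The projection. -/
def pr : SLF →* PSLF := QuotientGroup.mk' _

/-- The diagonal involution. -/
def sMat : SLF := ⟨!![-1, 0, 0, 0; 0, -1, 0, 0; 0, 0, 1, 0; 0, 0, 0, 1], by decide +kernel⟩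

/-- An element of square minus one. -/
def jMat : SLF := ⟨!![0, 1, 0, 0; -1, 0, 0, 0; 0, 0, 0, 1; 0, 0, -1, 0], by decide +kernel⟩

/-- The transvection of the first block. -/
def zMat : SLF := ⟨!![1, 1, 0, 0; 0, 1, 0, 0; 0, 0, 1, 0; 0, 0, 0, 1], by decide +kernel⟩

/-- The transvection of the second block. -/
def eMat : SLF := ⟨!![1, 0, 0, 0; 0, 1, 0, 0; 0, 0, 1, 1; 0, 0, 0, 1], by decide +kernel⟩

/-- The involution with fixed planes. -/
def sP : PSLF := pr sMat

/-- The involution without fixed vectors. -/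
def jP : PSLF := pr jMat

/-- The transvection. -/
def zP : PSLF := pr zMat

end Cfsg.Agent.Spor.PSLFourThree
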