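import Cfsg.Agent.Lib.Spor.PSLFourThree.Span

/-!
The two parabolic subgroups generate a copy of `PSL₄(3)`.
-/

set_option autoImplicit false
set_option linter.unusedSectionVars false
set_option linter.style.haveILetI false
set_option maxRecDepth 100000

namespace Cfsg.Agent.Spor.PSLFourThree

open Cfsg.Agent.Lie.CTA Matrix

local notation "SL2" => Matrix.SpecialLinearGroup (Fin 2) (ZMod 3)
local notation "F4" => Fin 4 → ZMod 3
local notation "M4" => Matrix (Fin 4) (Fin 4) (ZMod 3)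

theorem hl_neg : hl (-1) = -1 ∧ hr (-1) 0 = -1 ∧ ((-1 : SL2) * -1 = 1) ∧ ∀ g : SL2, -1 * g = g * -1 := by
  decide +kernel

theorem hl_hr : ∀ g h : SL2, hl g * hr h 0 = hr h 0 * hl g := by decide +kernel

theorem dt_outer : dt * b12 (-1 : SL2) = b12 (-1) * dt ∧ dt * th (b23 (-1 : SL2)) = th (b23 (-1)) * dt ∧
    b12 (-1 : SL2) * b23 (le' (1 : ZMod 3)) * b12 (-1) = b23 (le' (-1)) ∧
    b23 (-1 : SL2) * b12 (le' (1 : ZMod 3)) * b23 (-1) = b12 (le' (-1)) ∧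
    b12 (ue (1 : ZMod 3)) = uu 1 0 := by decide +kernel

theorem dt_ww : ∀ a b c d : ZMod 3, dt.1 *ᵥ ![a, b, 0] = ![a, -b, 0] ∧ dt * ww c d * dt⁻¹ = ww (-c) d := by
  decide +kernel

theorem ww_le_comm : ∀ j : ZMod 3, ww 0 j * b23 (le' (-1)) = b23 (le' (-1)) * ww 0 j → j = 0 := by decide +kernel

theorem neg_fix4 : ∀ v : F4, (-1 : M4) *ᵥ v = v → v = 0 := by decide +kernel

theorem eq_neg_zero : ∀ a : ZMod 3, a = -a → a = 0 := by decide

theorem b_comm : b12 (ue (1 : ZMod 3)) * b23 (ue 1) = uu 0 1 * b23 (ue 1) * b12 (ue 1) := by decide +kernel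

theorem hr_r : hr (ue 1) 0 *ᵥ ![0, 0, 1, 0] = -![1, 0, 0, 0] + ![0, 0, 1, 0] := by decide +kernel

theorem tv'_apply_ne {i j : Fin 4} {h : i ≠ j} {t : ZMod 3} :
    tv' i j t = Matrix.SpecialLinearGroup.transvection h t := dif_pos h

theorem uu_b1 : (uu 1 0).1 *ᵥ ![0, 1, 0] = b0 + ![0, 1, 0] := by decide +kernel

theorem vec_split : ∀ x : V, x = x 0 • b0 + ![0, x 1, x 2] := by decide +kernel

theorem uu_mem_ne : (b12 (-1 : SL2)).1 *ᵥ b0 = -b0 ∧ b0 ≠ -b0 := by decide +kernel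

theorem th_surj : Function.Surjective th := fun x =>
  ⟨theta (cyc⁻¹ * x * cyc), by
    show cyc * theta (theta (cyc⁻¹ * x * cyc)) * cyc⁻¹ = x
    rw [theta_theta]
    group⟩

namespace Levis

variable {G : Type*} [Group G] [Finite G] {F : Frame G} (S : Levis F)

/-- An element centralising the subgroup of order `81` belongs to it. -/
theorem cent_bv {g : G} (h : S.Acts g 1) : ∃ v, g = S.bv v := by
  have hz : g ∈ Subgroup.centralizer ({F.z} : Set G) := by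
    have e := h ![1, 0, 0, 0]
    rw [one_mulVec, S.bv_z] at e
    exact F.mem_C.2 (mul_inv_eq_iff_eq_mul.1 e)
  have hgM := F.CL hz
  have hfix : ∀ a b, (F.L.π ⟨g, hgM⟩).1 *ᵥ ![a, b, 0] = ![a, b, 0] := by
    intro a b
    have e := h ![a, b, 0, 0]
    rw [one_mulVec, S.bv_L] at e
    exact (F.L.comm_iff ⟨g, hgM⟩ _).1 (mul_inv_eq_iff_eq_mul.1 e)
  set A := F.L.π ⟨g, hgM⟩ with hA
  have e0 := fun i => congrFun (hfix 1 0) i
  have e1 := fun i => congrFun (hfix 0 1) i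
  simp [Matrix.mulVec, dotProduct, Fin.sum_univ_three] at e0 e1
  have hd := A.2
  rw [det_fin_three, e0, e0, e0, e1, e1, e1] at hd
  simp at hd
  have hAw : A = ww (A.1 0 2) (A.1 1 2) := by
    refine Subtype.ext (Matrix.ext fun i j => ?_)
    fin_cases i <;> fin_cases j <;> simp [ww, e0, e1, hd]
  obtain ⟨hs, hπ⟩ := S.πL (ww (A.1 0 2) (A.1 1 2))
  obtain ⟨x, hx⟩ := F.L.eq_mul_v (g := ⟨g, hgM⟩) (h := ⟨_, hs⟩) (by rw [hπ, ← hAw])
  have hx' : g = F.L.v x * S.sL (ww (A.1 0 2) (A.1 1 2)) := hx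
  refine ⟨![x 0, x 1, A.1 0 2, A.1 1 2], ?_⟩
  have hx2 : x 2 = 0 := by
    have e := h ![0, 0, 1, 0]
    rw [one_mulVec] at e
    have e' := mul_inv_eq_iff_eq_mul.1 e
    have hb : S.bv ![0, 0, 1, 0] = S.sL (ww 1 0) := by
      show F.L.v ![0, 0, 0] * S.sL (ww 1 0) = _
      rw [show (![0, 0, 0] : V) = 0 by funext i; fin_cases i <;> simp, F.L.v_zero, one_mul]
    have hc : S.sL (ww (A.1 0 2) (A.1 1 2)) * S.sL (ww 1 0) = S.sL (ww 1 0) * S.sL (ww (A.1 0 2) (A.1 1 2)) := by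
      rw [← map_mul, ← map_mul, ww_add, ww_add, add_comm (A.1 0 2), add_comm (A.1 1 2)]
    rw [hb, hx', mul_assoc (F.L.v x), hc, ← mul_assoc, ← mul_assoc (S.sL (ww 1 0))] at e'
    have e3 : S.sL (ww 1 0) * F.L.v x * (S.sL (ww 1 0))⁻¹ = F.L.v x :=
      mul_inv_eq_iff_eq_mul.2 (mul_right_cancel e').symm
    rw [S.actL] at e3
    simpa [ww, Matrix.mulVec, dotProduct, Fin.sum_univ_three] using congrFun (F.L.v_inj e3) 0
  rw [hx']
  show _ = F.L.v ![x 0, x 1, 0] * S.sL (ww (A.1 0 2) (A.1 1 2))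
  congr 2
  funext i
  fin_cases i <;> simp [hx2]

theorem hy0 : S.ψ (uu 1 0) = S.bv ![0, 0, 0, 1] := by
  show _ = F.L.v ![0, 0, 0] * S.sL (ww 0 1)
  rw [show (![0, 0, 0] : V) = 0 by funext i; fin_cases i <;> simp, F.L.v_zero, one_mul, ww_mid, S.mid_eq,
    dt_outer.2.2.2.2]

theorem acts_hr (g : SL2) : S.Acts (S.ψ (b23 g)) (hr g 0) := S.acts_hr_of 0 S.hy0 g

theorem comm_z (g : SL2) (k : ZMod 3) : Commute (S.sL (b23 g)) (F.L.v (k • b0)) := by
  refine mul_inv_eq_iff_eq_mul.1 ?_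
  rw [S.actL, mulVec_smul, (b23_fix_dt g).1]

theorem acts_dt {v : F4} (h : F.t * S.bv v * F.t⁻¹ = S.bv v) : v = ![v 0, 0, 0, v 3] := by
  have e : F.t * S.bv v * F.t⁻¹ = S.bv ![v 0, -v 1, -v 2, v 3] := by
    show F.t * (F.L.v ![v 0, v 1, 0] * S.sL (ww (v 2) (v 3))) * F.t⁻¹ = F.L.v ![v 0, -v 1, 0] * S.sL (ww (-v 2) (v 3))
    rw [← S.dtL, conj_mul.symm, S.actL, (dt_ww _ _ (v 2) (v 3)).1, ← (dt_ww (v 0) (v 1) (v 2) (v 3)).2, map_mul,
      map_mul, map_inv]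
  rw [h] at e
  have e' := S.bv_inj e
  funext i
  fin_cases i
  · rfl
  · exact eq_neg_zero _ (congrFun e' 1)
  · exact eq_neg_zero _ (congrFun e' 2)
  · rfl

/-- The outer involutions differ by a central factor. -/
theorem align : ∃ i : ZMod 3, S.ψ (b23 (-1)) = F.L.v (i • b0) * S.sL (b12 (-1)) := by
  set q := S.ψ (b23 (-1)) with hq
  set t1 := S.sL (b12 (-1)) with ht1
  have t1sq : t1 * t1 = 1 := by rw [ht1, ← map_mul, ← map_mul, hl_neg.2.2.1, map_one, map_one]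
  have qsq : q * q = 1 := by rw [hq, ← map_mul, ← map_mul, hl_neg.2.2.1, map_one, map_one]
  have hA : S.Acts (q * t1) 1 := by
    have h := (S.acts_hr (-1)).mul (S.acts_hl (-1))
    rwa [hl_neg.1, hl_neg.2.1, neg_mul_neg, one_mul] at h
  obtain ⟨v, hv⟩ := S.cent_bv hA
  have hqv : q = S.bv v * t1 := by rw [← hv, mul_assoc, t1sq, mul_one]
  have hct1 : Commute F.t t1 := by rw [Commute, SemiconjBy, ← S.dtL, ht1, ← map_mul, ← map_mul, dt_outer.1]
  have hcq : Commute F.t q := by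
    show F.t * S.sR (th (b23 (-1))) = S.sR (th (b23 (-1))) * F.t
    rw [← S.dtR, ← map_mul, ← map_mul, dt_outer.2.1]
  have hv1 := S.acts_dt (v := v) (by rw [← hv]; exact mul_inv_eq_iff_eq_mul.2 (hcq.mul_right hct1))
  set g0 := S.sL (b23 (le' 1)) with hg0
  set g1 := S.sL (b23 (le' (-1))) with hg1
  have a1 : t1 * g0 * t1 = g1 := by rw [ht1, hg0, hg1, ← map_mul, ← map_mul, dt_outer.2.2.1]
  have a2 : q * g0 * q = g1 := by rw [hg0, hg1, S.mid_eq, S.mid_eq, hq, ← map_mul, ← map_mul, dt_outer.2.2.2.1]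
  have hq' : q⁻¹ = q := inv_eq_of_mul_eq_one_right qsq
  have hcomm : S.bv v * g1 = g1 * S.bv v := by
    have h1 : S.bv v * g1 * (S.bv v)⁻¹ = g1 := by
      rw [← hv, ← a1]
      conv_rhs => rw [a1, ← a2]
      calc q * t1 * (t1 * g0 * t1) * (q * t1)⁻¹ = q * (t1 * t1) * g0 * q⁻¹ := by group
        _ = _ := by rw [t1sq, hq', mul_one]
    exact mul_inv_eq_iff_eq_mul.1 h1
  have hv3 : v 3 = 0 := by
    refine ww_le_comm _ ?_
    have e : S.bv v = F.L.v ((v 0) • b0) * S.sL (ww 0 (v 3)) := by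
      conv_lhs => rw [hv1]
      show F.L.v ![v 0, 0, 0] * S.sL (ww 0 (v 3)) = _
      congr 2
      funext i; fin_cases i <;> simp [b0]
    rw [e, hg1, mul_assoc, ← mul_assoc (S.sL (b23 _)), (S.comm_z _ _).eq, mul_assoc] at hcomm
    have h2 := mul_left_cancel hcomm
    rw [← map_mul, ← map_mul] at h2
    obtain ⟨p1, p2⟩ := S.πL (ww 0 (v 3) * b23 (le' (-1)))
    obtain ⟨q1, q2⟩ := S.πL (b23 (le' (-1)) * ww 0 (v 3))
    rw [← p2, ← q2]
    exact congrArg F.L.π (Subtype.ext h2)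
  refine ⟨v 0, ?_⟩
  rw [hqv]
  congr 1
  rw [hv1, hv3]
  show F.L.v ![v 0, 0, 0] * S.sL (ww 0 0) = _
  rw [show ww 0 0 = 1 by decide +kernel, map_one, mul_one]
  exact congrArg F.L.v (funext fun i => by fin_cases i <;> simp [b0])

theorem bv_neg (v : F4) : S.bv (-v) = (S.bv v)⁻¹ := map_inv S.bb (Multiplicative.ofAdd v)

theorem acts_bv (w : F4) : S.Acts (S.bv w) 1 := fun v => by
  rw [one_mulVec, S.bv_comm w v, mul_inv_cancel_right]

theorem z_word {ψR : L3 →* G} (f : Matrix.ProjectiveSpecialLinearGroup (Fin 4) (ZMod 3) →* G)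
    (hblk : ∀ g : SL2, f (QuotientGroup.mk (emb2 (show (0 : Fin 4) ≠ 1 by decide) g)) = S.sL (b12 g) ∧
      f (QuotientGroup.mk (emb2 (show (1 : Fin 4) ≠ 2 by decide) g)) = S.sL (b23 g) ∧
      f (QuotientGroup.mk (emb2 (show (2 : Fin 4) ≠ 3 by decide) g)) = ψR (b23 g))
    (hacts : ∀ h, S.Acts (ψR (b23 h)) (hr h 0)) :
    f (QuotientGroup.mk (tv' (0 : Fin 4) 3 1)) = F.z := by
  obtain ⟨e01, e12, e23⟩ := hblk (ue 1)
  rw [emb2_ue] at e01 e12 e23
  set T : Fin 4 → Fin 4 → G := fun i j => f (QuotientGroup.mk (tv' i j 1)) with hT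
  have hcm : ∀ i j l : Fin 4, i ≠ j → j ≠ l → i ≠ l → T i j * T j l = T i l * T j l * T i j := by
    intro i j l h1 h2 h3
    simp only [hT, ← map_mul, ← QuotientGroup.mk_mul]
    rw [tv'_comm3 h1 h2 h3, mul_one]
  have h02 : T 0 2 = F.R.v ![0, 0, 1] := by
    have h := hcm 0 1 2 (by decide) (by decide) (by decide)
    have e : S.sL (b12 (ue 1)) * S.sL (b23 (ue 1)) = S.sL (uu 0 1) * S.sL (b23 (ue 1)) * S.sL (b12 (ue 1)) := by
      rw [← map_mul, ← map_mul, ← map_mul, b_comm]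
    rw [show T 0 1 = _ from e01, show T 1 2 = _ from e12] at h
    rw [h] at e
    rw [← S.uL]
    exact mul_right_cancel (mul_right_cancel e)
  have h := hcm 0 2 3 (by decide) (by decide) (by decide)
  rw [show T 2 3 = _ from e23, h02] at h
  have h1 := hacts (ue 1) ![0, 0, 1, 0]
  rw [hr_r, add_comm (-![1, 0, 0, 0] : F4), S.bv_add, S.bv_R, S.bv_neg, S.bv_z] at h1
  show T 0 3 = F.z
  set r := F.R.v ![0, 0, 1]
  set b := ψR (b23 (ue 1))
  have h2 : b * r = r * F.z⁻¹ * b := mul_inv_eq_iff_eq_mul.1 h1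
  have h3 : F.z * r = r * F.z := by rw [← F.zR]; exact F.R.v_comm _ _
  calc T 0 3 = r * b * (b * r)⁻¹ := by rw [h]; group
    _ = r * F.z * r⁻¹ := by rw [h2]; group
    _ = F.z := by rw [← h3, mul_inv_cancel_right]

include S in
theorem exists_hom_range : ∃ f : Matrix.ProjectiveSpecialLinearGroup (Fin 4) (ZMod 3) →* G,
    Function.Injective f ∧ f.range = F.L.M ⊔ F.R.M ∧
      f (QuotientGroup.mk (Matrix.SpecialLinearGroup.transvection (show (0 : Fin 4) ≠ 3 by decide) 1)) = F.z := by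
  obtain ⟨i, hi⟩ := S.align
  set t1 := S.sL (b12 (-1)) with ht1
  set c := F.L.v (i • b0) with hc
  have t1sq : t1 * t1 = 1 := by rw [ht1, ← map_mul, ← map_mul, hl_neg.2.2.1, map_one, map_one]
  have t1z : ∀ k : ZMod 3, t1 * F.L.v (k • b0) * t1⁻¹ = F.L.v (-(k • b0)) := fun k => by
    rw [S.actL, mulVec_smul, uu_mem_ne.1, smul_neg]
  have hct : c * (c * t1) * c⁻¹ = t1 := by
    calc c * (c * t1) * c⁻¹ = c * c * (t1 * c⁻¹ * t1⁻¹) * t1 := by group
      _ = _ := by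
        rw [hc, ← F.L.v_neg, ← neg_smul, t1z, ← F.L.v_add, ← F.L.v_add, ← neg_smul, neg_neg, ← add_smul,
          ← add_smul, show i + i + i = 0 by rw [(add_self_neg i).1, neg_add_cancel], zero_smul, F.L.v_zero, one_mul]
  have hcB : S.Acts c 1 := by
    have h := S.acts_bv ![i, 0, 0, 0]
    rwa [S.bv_L, show (![i, 0, 0] : V) = i • b0 by funext j; fin_cases j <;> simp [b0]] at h
  have hcinv : S.Acts c⁻¹ 1 := fun v => by
    rw [one_mulVec, inv_inv]
    have h := hcB v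
    rw [one_mulVec] at h
    conv_lhs => rw [← h]
    group
  let ψR : L3 →* G := (MulAut.conj c).toMonoidHom.comp S.ψ
  have hcA : ∀ x : V, c * F.L.v x * c⁻¹ = F.L.v x := fun x => by
    rw [hc, F.L.v_comm, mul_inv_cancel_right]
  have hmid : ∀ g, S.sL (b23 g) = ψR (b12 g) := fun g => by
    show _ = c * S.ψ (b12 g) * c⁻¹
    rw [← S.mid_eq, ← (S.comm_z g i).eq, mul_inv_cancel_right]
  have hZ : t1 = ψR (b23 (-1)) := by
    show t1 = c * S.ψ (b23 (-1)) * c⁻¹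
    rw [hi, hct]
  have hacts : ∀ h, S.Acts (ψR (b23 h)) (hr h 0) := fun h => by
    have := (hcB.mul (S.acts_hr h)).mul hcinv
    rwa [one_mul, mul_one] at this
  have hout : ∀ g h : SL2, Commute (S.sL (b12 g)) (ψR (b23 h)) := by
    intro g h
    set a := S.sL (b12 g) with ha
    set b := ψR (b23 h) with hb
    set ab := a * b * a⁻¹ * b⁻¹ with hab
    have hA : S.Acts ab 1 := by
      intro v
      have ia : S.Acts a⁻¹ (hl g⁻¹) := by rw [ha, ← map_inv, ← map_inv]; exact S.acts_hl _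
      have ib : S.Acts b⁻¹ (hr h⁻¹ 0) := by rw [hb, ← map_inv, ← map_inv]; exact hacts _
      have e := (((S.acts_hl g).mul (hacts h)).mul ia).mul ib
      have e1 : hl g * hl g⁻¹ = 1 := by
        refine Acts.unique (S := S) (a := (1 : G)) ?_ fun w => by rw [one_mulVec, one_mul, inv_one, mul_one]
        have := (S.acts_hl g).mul (S.acts_hl g⁻¹)
        rwa [← map_mul, ← map_mul, mul_inv_cancel, map_one, map_one] at this
      have e2 : hr h 0 * hr h⁻¹ 0 = 1 := by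
        refine Acts.unique (S := S) (a := (1 : G)) ?_ fun w => by rw [one_mulVec, one_mul, inv_one, mul_one]
        have := (hacts h).mul (hacts h⁻¹)
        rwa [← map_mul, ← map_mul, mul_inv_cancel, map_one, map_one] at this
      rw [hl_hr, mul_assoc (hr h 0), e1, mul_one, e2] at e
      exact e v
    obtain ⟨w, hw⟩ := S.cent_bv hA
    have c1 : Commute t1 a := by
      rw [Commute, SemiconjBy, ht1, ha, ← map_mul, ← map_mul, ← map_mul, ← map_mul, hl_neg.2.2.2]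
    have c2 : Commute t1 b := by
      rw [Commute, SemiconjBy, hZ, hb, ← map_mul, ← map_mul, ← map_mul, ← map_mul, hl_neg.2.2.2]
    have c3 : Commute t1 ab := ((c1.mul_right c2).mul_right c1.inv_right).mul_right c2.inv_right
    have hw0 : w = 0 := by
      refine neg_fix4 w (S.bv_inj ?_)
      have := S.acts_hl (-1) w
      rw [hl_neg.1] at this
      rw [← this, ← hw]
      exact mul_inv_eq_iff_eq_mul.2 c3
    have h1 : ab = 1 := by
      rw [hw, hw0]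
      show S.bb 1 = 1
      exact map_one _
    show a * b = b * a
    calc a * b = ab * (b * a) := by rw [hab]; group
      _ = _ := by rw [h1, one_mul]
  obtain ⟨f, hf, hrange, hblk⟩ := glue S.sL ψR (MonoidHom.ext hmid) hout hZ fun h => by
    have e := t1z 1
    rw [ht1, h, one_mul, inv_one, mul_one, one_smul] at e
    exact uu_mem_ne.2 (F.L.v_inj e)
  refine ⟨f, hf, hrange.trans ?_, ?_⟩
  swap
  · rw [← tv'_apply_ne]
    exact S.z_word f hblk hacts
  set H := S.sL.range ⊔ ψR.range with hH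
  have hsR : ∀ q : L3, c * S.sR q * c⁻¹ ∈ ψR.range := fun q => by
    obtain ⟨p, hp⟩ := th_surj q
    exact ⟨p, by show c * S.sR (th p) * c⁻¹ = _; rw [hp]⟩
  have hl0 : ∀ a b, F.L.v ![0, a, b] ∈ H := fun a b => by
    refine Subgroup.mem_sup_right ?_
    have := hsR (uu (-a) (-b))
    rwa [S.uR, neg_neg, neg_neg, hcA] at this
  have hr0 : ∀ a b, F.R.v ![0, a, b] ∈ H := fun a b => Subgroup.mem_sup_left ⟨uu a b, S.uL a b⟩
  have hzH : ∀ k : ZMod 3, F.L.v (k • b0) ∈ H := by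
    have h1 : F.L.v b0 ∈ H := by
      have e := F.L.act' ⟨_, F.r_mem_L 1 0⟩ ![0, 1, 0]
      rw [F.rimg, uu_b1, F.L.v_add] at e
      rw [← mul_inv_eq_iff_eq_mul.2 e]
      exact H.mul_mem (H.mul_mem (H.mul_mem (hr0 _ _) (hl0 _ _)) (H.inv_mem (hr0 _ _))) (H.inv_mem (hl0 _ _))
    intro k
    rw [F.L.v_smul]
    exact H.pow_mem h1 _
  refine le_antisymm (sup_le ?_ ?_) (sup_le ?_ ?_)
  · rintro _ ⟨x, rfl⟩
    exact Subgroup.mem_sup_left (S.πL x).1
  · rintro _ ⟨x, rfl⟩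
    refine Subgroup.mem_sup_right ?_
    have hcR : c ∈ F.R.M := F.l_mem_R _
    exact F.R.M.mul_mem (F.R.M.mul_mem hcR (S.πR (th x)).1) (F.R.M.inv_mem hcR)
  · intro g hg
    obtain ⟨hs, hπ⟩ := S.πL (F.L.π ⟨g, hg⟩)
    obtain ⟨x, hx⟩ := F.L.eq_mul_v (g := ⟨g, hg⟩) (h := ⟨_, hs⟩) hπ.symm
    rw [show g = F.L.v x * S.sL (F.L.π ⟨g, hg⟩) from hx, vec_split x, F.L.v_add]
    exact H.mul_mem (H.mul_mem (hzH _) (hl0 _ _)) (Subgroup.mem_sup_left ⟨_, rfl⟩)
  · intro g hg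
    obtain ⟨hs, hπ⟩ := S.πR (F.R.π ⟨g, hg⟩)
    obtain ⟨x, hx⟩ := F.R.eq_mul_v (g := ⟨g, hg⟩) (h := ⟨_, hs⟩) hπ.symm
    have e : S.sR (F.R.π ⟨g, hg⟩) = c⁻¹ * (c * S.sR (F.R.π ⟨g, hg⟩) * c⁻¹) * c := by group
    rw [show g = F.R.v x * S.sR (F.R.π ⟨g, hg⟩) from hx, e, vec_split x, F.R.v_add, ← F.zv]
    exact H.mul_mem (H.mul_mem (hzH _) (hr0 _ _))
      (H.mul_mem (H.mul_mem (H.inv_mem (hzH i)) (Subgroup.mem_sup_right (hsR _))) (hzH i))

end Levis

/-- The two parabolic subgroups generate a copy of `PSL₄(3)`. -/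
theorem Para.exists_hom {G : Type*} [Group G] [Finite G] (P : Para G) :
    ∃ f : Matrix.ProjectiveSpecialLinearGroup (Fin 4) (ZMod 3) →* G, Function.Injective f ∧
      f.range = P.L.M ⊔ P.R.M ∧
      f (QuotientGroup.mk (Matrix.SpecialLinearGroup.transvection (show (0 : Fin 4) ≠ 3 by decide) 1)) = P.z := by
  obtain ⟨F, hz, hL, hR, -, -⟩ := P.exists_frame
  obtain ⟨S⟩ := F.exists_levis
  obtain ⟨f, hf, hr, hfz⟩ := S.exists_hom_range
  exact ⟨f, hf, by rw [hr, hL, hR], hfz.trans hz⟩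

end Cfsg.Agent.Spor.PSLFourThree
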