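import Cfsg.Agent.Lib.Spor.PSLFourThree.STop
import Cfsg.Agent.Lib.Spor.FixedCoset

/-!
# The copy of `PSL₄(3)` is the whole group
-/

set_option autoImplicit false
set_option linter.unusedSectionVars false
set_option linter.style.haveILetI false

namespace Cfsg.Agent.Spor.PSLFourThree

universe u

variable {G : Type u} [Group G] [Finite G] (f : PSLF →* G) (hf : Function.Injective f)
  (hz : ∀ g : G, g * f zP * g⁻¹ ∈ f.range → g ∈ f.range)
  (hb : Subgroup.centralizer ({f (pr (zMat * eMat⁻¹))} : Set G) ≤ f.range)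
  (hb' : Subgroup.centralizer ({f (pr (zMat * eMat))} : Set G) ≤ f.range)

include hf hz hb hb'

/-- The subgroup is everything. -/
theorem range_top : f.range = ⊤ := by
  have hs := cent_sP_le f hf hz hb hb'
  have hsj := not_fused f hf hz
  have hnorm : ∀ {x : PSLF} {g : G}, Subgroup.centralizer ({f x} : Set G) ≤ f.range →
      ∀ {k : PSLF}, g * f x * g⁻¹ = f (k * x * k⁻¹) → g ∈ f.range := by
    intro x g hc k e
    have h : (f k)⁻¹ * g ∈ f.range := hc (Subgroup.mem_centralizer_singleton_iff.2 (by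
      calc (f k)⁻¹ * g * f x = (f k)⁻¹ * (g * f x * g⁻¹) * g := by group
        _ = _ := by rw [e, map_mul, map_mul, map_inv]; group))
    simpa using f.range.mul_mem ⟨k, rfl⟩ h
  have hinv : ∀ {x : PSLF} {y : PSLF} {g : G}, g * f x * g⁻¹ = f y → x * x = 1 → x ≠ 1 → y * y = 1 ∧ y ≠ 1 := by
    intro x y g e h2 h1
    refine ⟨hf ?_, fun h => h1 (hf ?_)⟩
    · rw [map_mul, ← e, map_one, ← pow_two, conj_pow, pow_two, ← map_mul, h2, map_one, mul_one, mul_inv_cancel]
    · rw [h, map_one, mul_inv_eq_one, mul_eq_left, ← map_one f] at e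
      rw [e]
  have strongS : ∀ g : G, g * f sP * g⁻¹ ∈ f.range → g ∈ f.range := by
    rintro g ⟨y, hy⟩
    obtain ⟨h2, h1⟩ := hinv hy.symm sP_sq sP_ne
    rcases invol_cases y h2 h1 with hc | hc <;> obtain ⟨k, rfl⟩ := isConj_iff.1 hc
    · exact hnorm hs hy.symm
    · exfalso
      refine hsj ((f k)⁻¹ * g) ?_
      calc (f k)⁻¹ * g * f sP * ((f k)⁻¹ * g)⁻¹ = (f k)⁻¹ * (g * f sP * g⁻¹) * f k := by group
        _ = _ := by rw [← hy, map_mul, map_mul, map_inv]; group
  have hj := cent_j_le f hf strongS hsj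
  have hj2 : jP * jP = 1 ∧ jP ≠ 1 := ⟨JCase.jP_sq, JCase.jP_ne_one⟩
  have strongJ : ∀ g : G, g * f jP * g⁻¹ ∈ f.range → g ∈ f.range := by
    rintro g ⟨y, hy⟩
    obtain ⟨h2, h1⟩ := hinv hy.symm hj2.1 hj2.2
    rcases invol_cases y h2 h1 with hc | hc <;> obtain ⟨k, rfl⟩ := isConj_iff.1 hc
    · exfalso
      refine hsj (g⁻¹ * f k) ?_
      calc g⁻¹ * f k * f sP * (g⁻¹ * f k)⁻¹ = g⁻¹ * f (k * sP * k⁻¹) * g := by
            rw [map_mul, map_mul, map_inv]; group
        _ = _ := by rw [hy]; group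
    · exact hnorm hj hy.symm
  have ord : ∀ {x : PSLF}, x * x = 1 → x ≠ 1 → orderOf (f x) = 2 := by
    intro x h2 h1
    rw [orderOf_injective f hf]
    exact orderOf_eq_prime (by rw [pow_two, h2]) h1
  refine Spor.two_classes_top {x | IsConj (f sP) x} {x | IsConj (f jP) x} (f sP) (f jP)
    (ord sP_sq sP_ne) (ord hj2.1 hj2.2) rfl rfl ?_ f.range ?_ ?_
  · intro h
    have h1 : f jP ∈ {x | IsConj (f sP) x} := h ▸ (IsConj.refl (f jP) : IsConj (f jP) (f jP))
    obtain ⟨g, hg⟩ := isConj_iff.1 (show IsConj (f sP) (f jP) from h1)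
    exact hsj g hg
  · intro x hx
    have main : ∀ {w : PSLF} {x : G}, (∀ g : G, g * f w * g⁻¹ ∈ f.range → g ∈ f.range) → IsConj (f w) x →
        ∃! c : G ⧸ f.range, x • c = c := by
      intro w x hw hx
      obtain ⟨a, rfl⟩ := isConj_iff.1 hx
      refine ⟨(a : G ⧸ f.range), (Spor.smul_coset_iff _ _ _).2 ?_, fun c hc => ?_⟩
      · rw [show a⁻¹ * (a * f w * a⁻¹) * a = f w by group]
        exact ⟨w, rfl⟩
      · obtain ⟨g, rfl⟩ := QuotientGroup.mk_surjective c
        have h := (Spor.smul_coset_iff _ _ _).1 hc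
        refine QuotientGroup.eq.2 (hw _ ?_)
        convert h using 1
        group
    rcases hx with hx | hx
    · exact main strongS hx
    · exact main strongJ hx
  · intro a ha haH b hb _ hne hab
    obtain ⟨y, hy⟩ := f.range.mul_mem haH ‹b ∈ f.range›
    have ha2 : a * a = 1 := by
      obtain ⟨g, rfl⟩ := isConj_iff.1 (show IsConj (f sP) a from ha)
      rw [← pow_two, conj_pow, pow_two, ← map_mul, sP_sq, map_one, mul_one, mul_inv_cancel]
    have hb2 : b * b = 1 := by
      rcases hb with hb | hb <;> obtain ⟨g, rfl⟩ := isConj_iff.1 hb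
      · rw [← pow_two, conj_pow, pow_two, ← map_mul, sP_sq, map_one, mul_one, mul_inv_cancel]
      · rw [← pow_two, conj_pow, pow_two, ← map_mul, hj2.1, map_one, mul_one, mul_inv_cancel]
    have hy2 : y * y = 1 := hf (by
      rw [map_mul, hy, map_one, mul_assoc a b, ← mul_assoc b a b, ← hab, mul_assoc a b b, hb2, mul_one, ha2])
    have hy1 : y ≠ 1 := by
      intro h
      rw [h, map_one, eq_comm] at hy
      refine hne ?_
      calc a = a * (b * b) := by rw [hb2, mul_one]
        _ = b := by rw [← mul_assoc, hy, one_mul]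
    rw [← hy]
    rcases invol_cases y hy2 hy1 with hc | hc <;> obtain ⟨k, rfl⟩ := isConj_iff.1 hc
    · exact cent_conj_le f hs k
    · exact cent_conj_le f hj k

end Cfsg.Agent.Spor.PSLFourThree
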