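import Cfsg.Agent.Lib.Spor.PSLFourThree.BCase
import Cfsg.Agent.Lib.Spor.PSLFourThree.PSLTop

/-!
# A strong copy of `PSL₄(3)` is the whole group
-/

set_option autoImplicit false
set_option linter.unusedSectionVars false
set_option maxRecDepth 100000

namespace Cfsg.Agent.Spor.PSLFourThree

open JCase

universe u

/-- The element moving `b` to the difference of two transvections. -/
def qB : SLF := ⟨!![1, 0, 0, 0; 0, 0, 1, 0; 0, 1, 0, 0; 0, 0, 0, -1], by decide +kernel⟩

theorem qB_spec : qB * (zMat * eMat⁻¹) * qB⁻¹ = bMat ∧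
    sMat * qB * (zMat * eMat) * (sMat * qB)⁻¹ = BModel.flipS bMat := by decide +kernel

variable {G : Type u} [Group G] [Finite G] (f : PSLF →* G) (hf : Function.Injective f)
  (hz : ∀ g : G, g * f zP * g⁻¹ ∈ f.range → g ∈ f.range)

include hf hz

/-- The copy is everything. -/
theorem copy_top : f.range = ⊤ := by
  set f' : PSLF →* G := f.comp flip.toMonoidHom with hf'
  have hr : f'.range = f.range := by
    rw [hf', MonoidHom.range_comp, MonoidHom.range_eq_map f,
      MonoidHom.range_eq_top.2 (show Function.Surjective flip.toMonoidHom from flip.surjective)]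
  have hz' : ∀ g : G, g * f' zP * g⁻¹ ∈ f'.range → g ∈ f'.range := by
    rw [hr]
    intro g hg
    obtain ⟨k, hk⟩ := isConj_iff.1 flip_zP
    refine strong_conj f hz (k := k) ?_
    rw [hk]
    exact hg
  have h1 := cent_conj_le f (cent_bP_le f hf hz) (pr qB)⁻¹
  have h2 : Subgroup.centralizer ({f (flip bP)} : Set G) ≤ f.range := by
    have := cent_bP_le f' (hf.comp flip.injective) hz'
    rwa [hr] at this
  have h3 := cent_conj_le f h2 (pr (sMat * qB))⁻¹
  refine range_top f hf hz ?_ ?_
  · convert h1 using 6
    rw [bP, ← qB_spec.1]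
    simp only [map_mul, map_inv]
    group
  · convert h3 using 6
    rw [bP, flip_pr, ← qB_spec.2]
    simp only [map_mul, map_inv]
    group

end Cfsg.Agent.Spor.PSLFourThree
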