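import Cfsg.Agent.Lib.Spor.PSLFourThree.Gluing
import Mathlib.LinearAlgebra.Matrix.Determinant.Basic
import Mathlib.GroupTheory.OrderOfElement

/-!
Two parabolic subgroups `3³·SL₃(3)` meeting in the centraliser of an element of order three.
-/

set_option autoImplicit false
set_option linter.unusedSectionVars false
set_option maxRecDepth 100000

namespace Cfsg.Agent.Spor.PSLFourThree

open Cfsg.Agent.Lie.CTA Matrix

/-- Column vectors. -/
abbrev V : Type := Fin 3 → ZMod 3

/-- The Levi quotient. -/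
abbrev L3 : Type := Matrix.SpecialLinearGroup (Fin 3) (ZMod 3)

/-- A parabolic subgroup with its unipotent radical in coordinates. -/
structure Side (G : Type*) [Group G] where
  A : Subgroup G
  M : Subgroup G
  e : Multiplicative V →* G
  e_inj : Function.Injective e
  e_range : e.range = A
  le : A ≤ M
  π : M →* L3
  surj : Function.Surjective π
  ker : ∀ g : M, π g = 1 ↔ (g : G) ∈ A
  act : ∀ (g : M) (v : V), (g : G) * e (Multiplicative.ofAdd v) * (g : G)⁻¹ = e (Multiplicative.ofAdd ((π g).1 *ᵥ v))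

namespace Side

variable {G : Type*} [Group G] (S : Side G)

/-- The element with given coordinates. -/
def v (x : V) : G := S.e (Multiplicative.ofAdd x)

theorem v_mem (x : V) : S.v x ∈ S.A := S.e_range ▸ ⟨_, rfl⟩

theorem exists_v {a : G} (h : a ∈ S.A) : ∃ x, S.v x = a := by
  rw [← S.e_range] at h
  obtain ⟨w, hw⟩ := h
  exact ⟨w.toAdd, hw⟩

theorem v_add (x y : V) : S.v (x + y) = S.v x * S.v y := map_mul S.e _ _

theorem v_zero : S.v 0 = 1 := map_one S.e

theorem v_neg (x : V) : S.v (-x) = (S.v x)⁻¹ := map_inv S.e (Multiplicative.ofAdd x)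

theorem v_inj {x y : V} (h : S.v x = S.v y) : x = y := Multiplicative.ofAdd.injective (S.e_inj h)

theorem v_comm (x y : V) : S.v x * S.v y = S.v y * S.v x := by rw [← S.v_add, add_comm, S.v_add]

theorem v_cube (x : V) : S.v x ^ 3 = 1 := by
  rw [pow_succ, pow_two, ← S.v_add, ← S.v_add, show x + x + x = 0 from funext fun i =>
    (show ∀ a : ZMod 3, a + a + a = 0 by decide) (x i), S.v_zero]

theorem A_comm {a b : G} (ha : a ∈ S.A) (hb : b ∈ S.A) : a * b = b * a := by
  obtain ⟨x, rfl⟩ := S.exists_v ha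
  obtain ⟨y, rfl⟩ := S.exists_v hb
  exact S.v_comm x y

theorem act' (g : S.M) (x : V) : (g : G) * S.v x * (g : G)⁻¹ = S.v ((S.π g).1 *ᵥ x) := S.act g x

theorem conj_mem {g : G} (hg : g ∈ S.M) {a : G} (ha : a ∈ S.A) : g * a * g⁻¹ ∈ S.A := by
  obtain ⟨x, rfl⟩ := S.exists_v ha
  rw [S.act' ⟨g, hg⟩]
  exact S.v_mem _

theorem comm_iff (g : S.M) (x : V) : (g : G) * S.v x = S.v x * g ↔ (S.π g).1 *ᵥ x = x := by
  rw [← mul_inv_eq_iff_eq_mul, S.act']
  exact ⟨fun h => S.v_inj h, fun h => by rw [h]⟩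

theorem eq_mul_v {g h : S.M} (e : S.π g = S.π h) : ∃ x, (g : G) = S.v x * h := by
  obtain ⟨x, hx⟩ := S.exists_v ((S.ker (g * h⁻¹)).1 (by rw [map_mul, map_inv, e, mul_inv_cancel]))
  exact ⟨x, by rw [hx, Subgroup.coe_mul, Subgroup.coe_inv, inv_mul_cancel_right]⟩

theorem card_A : Nat.card S.A = 27 := by
  rw [← S.e_range, ← Nat.card_congr (MonoidHom.ofInjective S.e_inj).toEquiv,
    Nat.card_congr Multiplicative.toAdd, Nat.card_eq_fintype_card]
  rfl

/-- New coordinates given by an invertible matrix. -/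
def reframe (P Q : Matrix (Fin 3) (Fin 3) (ZMod 3)) (hPQ : P * Q = 1) (hQP : Q * P = 1) : Side G where
  A := S.A
  M := S.M
  e := S.e.comp (AddMonoidHom.toMultiplicative (Matrix.mulVecLin P).toAddMonoidHom)
  e_inj := fun x y h => by
    have h1 : P *ᵥ x.toAdd = P *ᵥ y.toAdd := Multiplicative.ofAdd.injective (S.e_inj h)
    have h2 := congrArg (Q *ᵥ ·) h1
    simp only [mulVec_mulVec, hQP, one_mulVec] at h2
    exact Multiplicative.toAdd.injective h2
  e_range := by
    ext a
    constructor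
    · rintro ⟨x, rfl⟩
      exact S.v_mem (P *ᵥ x.toAdd)
    · intro ha
      obtain ⟨x, rfl⟩ := S.exists_v ha
      refine ⟨Multiplicative.ofAdd (Q *ᵥ x), ?_⟩
      show S.v (P *ᵥ (Q *ᵥ x)) = _
      rw [mulVec_mulVec, hPQ, one_mulVec]
  le := S.le
  π :=
    { toFun := fun g => ⟨Q * (S.π g).1 * P, by
        rw [det_mul, det_mul, (S.π g).2, mul_one, ← det_mul, hQP, det_one]⟩
      map_one' := Subtype.ext (by
        show Q * (S.π 1).1 * P = 1
        rw [map_one, Matrix.SpecialLinearGroup.coe_one, mul_one, hQP])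
      map_mul' := fun g h => Subtype.ext (by
        show Q * (S.π (g * h)).1 * P = Q * (S.π g).1 * P * (Q * (S.π h).1 * P)
        rw [map_mul, Matrix.SpecialLinearGroup.coe_mul,
          show Q * (S.π g).1 * P * (Q * (S.π h).1 * P) = Q * (S.π g).1 * (P * Q) * ((S.π h).1 * P) by
            simp only [mul_assoc], hPQ]
        simp only [mul_assoc, one_mul]) }
  surj := fun x => by
    obtain ⟨g, hg⟩ := S.surj ⟨P * x.1 * Q, by rw [det_mul, det_mul, x.2, mul_one, ← det_mul, hPQ, det_one]⟩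
    refine ⟨g, Subtype.ext ?_⟩
    show Q * (S.π g).1 * P = x.1
    rw [hg]
    show Q * (P * x.1 * Q) * P = x.1
    rw [show Q * (P * x.1 * Q) * P = (Q * P) * x.1 * (Q * P) by simp only [mul_assoc], hQP, one_mul, mul_one]
  ker := fun g => by
    rw [← S.ker]
    constructor
    · intro h
      have h1 : Q * (S.π g).1 * P = 1 := congrArg Subtype.val h
      refine Subtype.ext ?_
      calc (S.π g).1 = (P * Q) * (S.π g).1 * (P * Q) := by rw [hPQ, one_mul, mul_one]
        _ = P * (Q * (S.π g).1 * P) * Q := by simp only [mul_assoc]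
        _ = _ := by rw [h1, mul_one, hPQ]; rfl
    · intro h
      refine Subtype.ext ?_
      show Q * (S.π g).1 * P = 1
      rw [h, Matrix.SpecialLinearGroup.coe_one, mul_one, hQP]
  act := fun g x => by
    show (g : G) * S.v (P *ᵥ x) * (g : G)⁻¹ = S.v (P *ᵥ ((Q * (S.π g).1 * P) *ᵥ x))
    rw [S.act', mulVec_mulVec, mulVec_mulVec, ← mul_assoc, ← mul_assoc, hPQ, one_mul]

end Side

/-- The parabolic data. -/
structure Para (G : Type*) [Group G] where
  L : Side G
  R : Side G
  z : G
  z_order : orderOf z = 3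
  meet : L.A ⊓ R.A = Subgroup.zpowers z
  CL : Subgroup.centralizer ({z} : Set G) ≤ L.M
  CR : Subgroup.centralizer ({z} : Set G) ≤ R.M
  syl : ∀ P : Subgroup G, IsPGroup 3 P → Nat.card P ≤ 3 ^ 6

/-- The first basis vector. -/
def b0 : V := ![1, 0, 0]

/-- The middle involution. -/
def dt : L3 := ⟨!![1, 0, 0; 0, -1, 0; 0, 0, -1], by decide⟩

/-- A unipotent element of the radical of the point stabiliser. -/
def uu (a b : ZMod 3) : L3 := ⟨!![1, a, b; 0, 1, 0; 0, 0, 1], by revert a b; decide⟩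

theorem uu_add : ∀ a b c d : ZMod 3, uu a b * uu c d = uu (a + c) (b + d) := by decide +kernel

theorem uu_inj : ∀ a b c d : ZMod 3, uu a b = uu c d → a = c ∧ b = d := by decide +kernel

namespace Para

variable {G : Type*} [Group G] (P : Para G)

theorem z_L : P.z ∈ P.L.A := (Subgroup.mem_inf.1 (P.meet ▸ Subgroup.mem_zpowers P.z)).1

theorem z_R : P.z ∈ P.R.A := (Subgroup.mem_inf.1 (P.meet ▸ Subgroup.mem_zpowers P.z)).2

theorem z_ne : P.z ≠ 1 := fun h => by simpa [h] using P.z_order

/-- The two sides exchanged. -/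
def flip : Para G where
  L := P.R
  R := P.L
  z := P.z
  z_order := P.z_order
  meet := by rw [inf_comm, P.meet]
  CL := P.CR
  CR := P.CL
  syl := P.syl

theorem mem_C {g : G} : g ∈ Subgroup.centralizer ({P.z} : Set G) ↔ g * P.z = P.z * g :=
  Subgroup.mem_centralizer_singleton_iff

theorem A_le_C : P.R.A ≤ Subgroup.centralizer ({P.z} : Set G) := fun _ ha => P.mem_C.2 (P.R.A_comm ha P.z_R)

end Para

end Cfsg.Agent.Spor.PSLFourThree
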