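import Cfsg.Agent.Lib.Spor.PSLFourThree.LocNatural

/-!
The automiser of a natural subgroup containing a conjugate of `z`: it is `SL₃(3)`.
-/

set_option autoImplicit false
set_option linter.unusedSectionVars false
set_option maxHeartbeats 1600000

namespace Cfsg.Agent.Spor.PSLFourThree

open scoped Matrix

local notation "SL2" => Matrix.SpecialLinearGroup (Fin 2) (ZMod 3)
local notation "SL3" => Matrix.SpecialLinearGroup (Fin 3) (ZMod 3)

theorem sl2_cases : ∀ g : SL2, g ^ 3 = 1 ∨ g = -1 ∨ g * g = -1 ∨ g * g * g = -1 := by decide +kernel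

theorem card_sl2_side : Nat.card SL2 = 24 := by
  rw [Nat.card_eq_fintype_card]
  decide +kernel

theorem unit_cube : ∀ a : ZMod 3, a * a * a = 1 → a = 1 := by decide

theorem card_sl3 : Nat.card SL3 = 5616 := by
  haveI : Fact (Nat.Prime 3) := ⟨Nat.prime_three⟩
  have hG : Nat.card (GL (Fin 3) (ZMod 3)) = 11232 := by
    rw [Matrix.card_GL_field, Fin.prod_univ_three, ZMod.card]
    norm_num
  have hker : (Matrix.GeneralLinearGroup.det : GL (Fin 3) (ZMod 3) →* (ZMod 3)ˣ).ker =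
      (Matrix.SpecialLinearGroup.toGL : SL3 →* GL (Fin 3) (ZMod 3)).range := by
    ext A
    constructor
    · intro hA
      have h1 : (A : Matrix (Fin 3) (Fin 3) (ZMod 3)).det = 1 := congrArg Units.val (MonoidHom.mem_ker.1 hA)
      exact ⟨⟨_, h1⟩, Units.ext rfl⟩
    · rintro ⟨B, rfl⟩
      exact MonoidHom.mem_ker.2 (Units.ext B.2)
  have hsurj : Function.Surjective (Matrix.GeneralLinearGroup.det : GL (Fin 3) (ZMod 3) →* (ZMod 3)ˣ) := by
    intro a
    refine ⟨Matrix.GeneralLinearGroup.mk'' (Matrix.diagonal ![(a : ZMod 3), 1, 1])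
      (by simp [Fin.prod_univ_three]), Units.ext ?_⟩
    show (Matrix.diagonal ![(a : ZMod 3), 1, 1]).det = a
    simp [Fin.prod_univ_three]
  have h := (Matrix.GeneralLinearGroup.det : GL (Fin 3) (ZMod 3) →* (ZMod 3)ˣ).ker.card_eq_card_quotient_mul_card_subgroup
  rw [hG, Nat.card_congr (QuotientGroup.quotientKerEquivOfSurjective _ hsurj).toEquiv, hker,
    Nat.card_congr (MonoidHom.ofInjective (f := Matrix.SpecialLinearGroup.toGL)
      Matrix.SpecialLinearGroup.toGL_injective).symm.toEquiv] at h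
  have hu : Nat.card (ZMod 3)ˣ = 2 := by rw [Nat.card_eq_fintype_card, ZMod.card_units_eq_totient]; rfl
  rw [hu] at h
  omega

namespace Loc

variable {G : Type*} [Group G] [Finite G] (T : Loc G)

theorem card_C : Nat.card T.C = 5832 := by
  have hker : T.ρ.ker.map T.C.subtype = T.Q := by
    ext x
    constructor
    · rintro ⟨c, hc, rfl⟩; exact (T.ρker c).1 hc
    · exact fun hx => ⟨⟨x, T.Q_le_C hx⟩, (T.ρker _).2 hx, rfl⟩
  have h := T.ρ.ker.card_eq_card_quotient_mul_card_subgroup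
  rw [Nat.card_congr (QuotientGroup.quotientKerEquivOfSurjective _ T.ρsurj).toEquiv, card_sl2_side,
    ← Subgroup.card_map_of_injective T.C.subtype_injective, hker, T.card_Q] at h
  exact h

theorem conj_mem {N : Subgroup G} (n : Subgroup.normalizer (N : Set G)) {x : G} (hx : x ∈ N) :
    (n : G) * x * (n : G)⁻¹ ∈ N := (Subgroup.mem_normalizer_iff.1 n.2 x).1 hx

theorem z_exists_cos {N : Subgroup G} (hN : T.IsNatural N) {g : G} (hg : T.IsPair g)
    (hy : g * T.z * g⁻¹ ∈ N) : N = T.Q ⊓ T.Qc g := by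
  obtain ⟨D, D', hD, hD', hcap, -, hDg, hyD, hall⟩ := T.exists_naturals hg
  rcases hall N hN with e | e
  · exact e.trans hDg
  · refine absurd ?_ hg.2
    rw [← hcap]
    exact ⟨hyD, e ▸ hy⟩

/-- The automiser of a natural subgroup with a conjugate of `z` is `SL₃(3)` on its natural module. -/
theorem side {N : Subgroup G} (hN : T.IsNatural N) {g : G} (hg : T.IsPair g) (hy : g * T.z * g⁻¹ ∈ N) :
    ∃ (e : Multiplicative (Fin 3 → ZMod 3) ≃* N) (π : ↥(Subgroup.normalizer (N : Set G)) →* SL3),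
      Function.Surjective π ∧ π.ker = N.subgroupOf (Subgroup.normalizer (N : Set G)) ∧
      (∀ (n : ↥(Subgroup.normalizer (N : Set G))) (v : Fin 3 → ZMod 3),
        (n : G) * e (Multiplicative.ofAdd v) * (n : G)⁻¹ =
          e (Multiplicative.ofAdd ((π n : Matrix (Fin 3) (Fin 3) (ZMod 3)) *ᵥ v))) ∧
      (∀ x ∈ N, x ≠ 1 → ∃ n ∈ Subgroup.normalizer (N : Set G), n * T.z * n⁻¹ = x) := by
  classical
  haveI : Fact (Nat.Prime 3) := ⟨Nat.prime_three⟩
  have hND := T.z_exists_cos hN hg hy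
  obtain ⟨hz, hg', hcD, -, -⟩ := T.basic hg
  obtain ⟨d, hd, hd'⟩ := T.exists_outside g hg
  rw [← hND] at hd
  set y := g * T.z * g⁻¹ with hydef
  set Nn := Subgroup.normalizer (N : Set G) with hNn
  have hexp : ∀ x ∈ N, x ^ 3 = 1 := fun x hx => T.exp x (hN.le_Q hx)
  have hpv : ∀ (x : G), x ∈ N → ∀ a b : ZMod 3, x ^ (a + b).val = x ^ a.val * x ^ b.val := by
    intro x hx a b
    rw [← pow_add, ZMod.val_add, ← pow_eq_pow_mod _ (hexp x hx)]
  let f : Multiplicative (Fin 3 → ZMod 3) →* N := MonoidHom.mk'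
    (fun v => ⟨T.z ^ (v.toAdd 0).val * y ^ (v.toAdd 1).val * d ^ (v.toAdd 2).val,
      mul_mem (mul_mem (pow_mem (hN.z_mem T.z_mem) _) (pow_mem hy _)) (pow_mem hd _)⟩)
    (fun v w => Subtype.ext (by
      have c1 : Commute (T.z ^ (w.toAdd 0).val) (y ^ (v.toAdd 1).val) :=
        hN.comm _ (pow_mem (hN.z_mem T.z_mem) _) _ (pow_mem hy _)
      have c2 : Commute (T.z ^ (w.toAdd 0).val * y ^ (w.toAdd 1).val) (d ^ (v.toAdd 2).val) :=
        hN.comm _ (mul_mem (pow_mem (hN.z_mem T.z_mem) _) (pow_mem hy _)) _ (pow_mem hd _)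
      push_cast
      simp only [toAdd_mul, Pi.add_apply, hpv _ (hN.z_mem T.z_mem), hpv _ hy, hpv _ hd]
      calc _ = T.z ^ (v.toAdd 0).val * (T.z ^ (w.toAdd 0).val * y ^ (v.toAdd 1).val) * y ^ (w.toAdd 1).val *
            d ^ (v.toAdd 2).val * d ^ (w.toAdd 2).val := by group
        _ = T.z ^ (v.toAdd 0).val * y ^ (v.toAdd 1).val *
            ((T.z ^ (w.toAdd 0).val * y ^ (w.toAdd 1).val) * d ^ (v.toAdd 2).val) * d ^ (w.toAdd 2).val := by
          rw [c1.eq]; group
        _ = _ := by rw [c2.eq]; group))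
  have hP3 : ∀ (x : G), x ^ 3 = 1 → x ≠ 1 → ∀ H : Subgroup G, ∀ a : ZMod 3, a ≠ 0 → x ^ a.val ∈ H → x ∈ H := by
    intro x hx hx1 H a ha h
    have hv : a.val = 1 ∨ a.val = 2 := by
      have h1 := ZMod.val_lt a
      have h2 : a.val ≠ 0 := fun e => ha ((ZMod.val_eq_zero a).1 e)
      omega
    rcases hv with e | e <;> rw [e] at h
    · simpa using h
    · have : x = (x ^ 2)⁻¹ := eq_inv_of_mul_eq_one_left (by rw [← pow_succ']; exact hx)
      rw [this]; exact inv_mem h
  have hinj : Function.Injective f := by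
    rw [← MonoidHom.ker_eq_bot_iff, eq_bot_iff]
    intro v hv
    have h : T.z ^ (v.toAdd 0).val * y ^ (v.toAdd 1).val * d ^ (v.toAdd 2).val = 1 :=
      congrArg Subtype.val (MonoidHom.mem_ker.1 hv)
    have h2 : v.toAdd 2 = 0 := by
      by_contra hne
      refine hd' (hP3 d (hexp d hd) (fun e => hd' (e ▸ one_mem _)) _ _ hne ?_)
      rw [eq_inv_of_mul_eq_one_right h]
      exact inv_mem (mul_mem (pow_mem (T.Z_le_P T.z_mem) _) (pow_mem T.y_mem_P _))
    rw [h2, ZMod.val_zero, pow_zero, mul_one] at h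
    have h1 : v.toAdd 1 = 0 := by
      by_contra hne
      refine hg.2 (hP3 y (hexp y hy) (fun e => hg.2 (by rw [← hydef, e]; exact one_mem _)) _ _ hne ?_)
      rw [eq_inv_of_mul_eq_one_right h]
      exact inv_mem (pow_mem T.z_mem _)
    rw [h1, ZMod.val_zero, pow_zero, mul_one] at h
    have h0 : v.toAdd 0 = 0 := by
      by_contra hne
      refine T.z_ne (Subgroup.mem_bot.1 (hP3 T.z T.z_cube T.z_ne ⊥ _ hne ?_))
      rw [h]; exact one_mem _
    rw [Subgroup.mem_bot]
    refine Multiplicative.toAdd.injective (funext fun i => ?_)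
    fin_cases i
    · exact h0
    · exact h1
    · exact h2
  have hcardV : Nat.card (Multiplicative (Fin 3 → ZMod 3)) = 27 := by
    rw [Nat.card_congr Multiplicative.toAdd, Nat.card_fun, Nat.card_zmod, Nat.card_fin]; norm_num
  have hbij : Function.Bijective f :=
    (Nat.bijective_iff_injective_and_card _).2 ⟨hinj, by rw [hcardV, hN.card]⟩
  let e : Multiplicative (Fin 3 → ZMod 3) ≃* N := MulEquiv.ofBijective f hbij
  let L : Nn → ((Fin 3 → ZMod 3) →+ (Fin 3 → ZMod 3)) := fun n => AddMonoidHom.mk'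
    (fun v => (e.symm ⟨n * e (Multiplicative.ofAdd v) * (n : G)⁻¹, conj_mem n (e _).2⟩).toAdd)
    (fun v w => by
      rw [← toAdd_mul, ← map_mul]
      refine congrArg (fun t => (e.symm t).toAdd) (Subtype.ext ?_)
      show (n : G) * ((e (Multiplicative.ofAdd v * Multiplicative.ofAdd w) : N) : G) * (n : G)⁻¹ = _
      rw [map_mul]
      push_cast
      group)
  have hL : ∀ (n : Nn) v, e (Multiplicative.ofAdd (L n v)) =
      ⟨n * e (Multiplicative.ofAdd v) * (n : G)⁻¹, conj_mem n (e _).2⟩ := fun n v => e.apply_symm_apply _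
  let Mt : Nn → Matrix (Fin 3) (Fin 3) (ZMod 3) := fun n => LinearMap.toMatrix' ((L n).toZModLinearMap 3)
  have hMt : ∀ n v, Mt n *ᵥ v = L n v := fun n v => by
    simp only [Mt, LinearMap.toMatrix'_mulVec]
    rfl
  have hext : ∀ A B : Matrix (Fin 3) (Fin 3) (ZMod 3), (∀ v, A *ᵥ v = B *ᵥ v) → A = B :=
    fun A B h => Matrix.toLin'.injective (LinearMap.ext fun v => by simpa [Matrix.toLin'_apply] using h v)
  have hLmul : ∀ n m v, L (n * m) v = L n (L m v) := fun n m v => by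
    refine Multiplicative.ofAdd.injective (e.injective ?_)
    rw [hL, hL]
    refine Subtype.ext ?_
    show ((n * m : Nn) : G) * _ * ((n * m : Nn) : G)⁻¹ = (n : G) * ((e (Multiplicative.ofAdd (L m v)) : N) : G) * _
    rw [hL]
    push_cast
    group
  have hMmul : ∀ n m, Mt (n * m) = Mt n * Mt m := fun n m => hext _ _ fun v => by
    rw [← Matrix.mulVec_mulVec, hMt, hMt, hMt, hLmul]
  have hMone : Mt 1 = 1 := hext _ _ fun v => by
    rw [hMt, Matrix.one_mulVec]
    refine Multiplicative.ofAdd.injective (e.injective ?_)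
    rw [hL]
    exact Subtype.ext (by simp)
  let det : Nn →* ZMod 3 :=
    { toFun := fun n => (Mt n).det
      map_one' := by rw [hMone, Matrix.det_one]
      map_mul' := fun n m => by rw [hMmul, Matrix.det_mul] }
  have hcube : ∀ n : Nn, n ^ 3 = 1 → det n = 1 := fun n hn => by
    refine unit_cube _ ?_
    rw [← map_mul, ← map_mul, ← pow_two, ← pow_succ, hn, map_one]
  have hCN : T.C ≤ Nn := hN.norm
  have hdetC : ∀ (γ : SL2) (c : T.C), T.ρ c = γ → det ⟨c, hCN c.2⟩ = 1 := by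
    have hQ : ∀ c : T.C, (c : G) ∈ T.Q → det ⟨c, hCN c.2⟩ = 1 := fun c hc =>
      hcube _ (Subtype.ext (by simpa using T.exp c hc))
    have hstep : ∀ c c' : T.C, T.ρ c = T.ρ c' → det ⟨c, hCN c.2⟩ = det ⟨c', hCN c'.2⟩ := by
      intro c c' h
      have h1 : T.ρ (c'⁻¹ * c) = 1 := by rw [map_mul, map_inv, h, inv_mul_cancel]
      have h2 := hQ _ ((T.ρker _).1 h1)
      have e : (⟨c, hCN c.2⟩ : Nn) = ⟨c', hCN c'.2⟩ * ⟨(c'⁻¹ * c : T.C), hCN (c'⁻¹ * c).2⟩ :=
        Subtype.ext (by push_cast; group)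
      rw [e, map_mul, h2, mul_one]
    have h3 : ∀ γ : SL2, γ ^ 3 = 1 → ∀ c : T.C, T.ρ c = γ → det ⟨c, hCN c.2⟩ = 1 := by
      intro γ hγ c hc
      refine unit_cube _ ?_
      rw [← map_mul, ← map_mul]
      have h1 : T.ρ (c * c * c) = 1 := by rw [map_mul, map_mul, hc, ← pow_two, ← pow_succ, hγ]
      exact hQ (c * c * c) ((T.ρker _).1 h1)
    intro γ
    refine gen_induction (p := fun γ => ∀ c : T.C, T.ρ c = γ → det ⟨c, hCN c.2⟩ = 1) (h3 _ x2_cube) ?_ ?_ ?_ ?_ γ
    · intro c hc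
      obtain ⟨a, ha⟩ := T.ρsurj x2
      obtain ⟨b, hb⟩ := T.ρsurj (i2 * x2 * i2⁻¹)
      have e : T.ρ c = T.ρ (a * b * a) := by rw [map_mul, map_mul, ha, hb, hc, rel_x2_i2]
      rw [hstep _ _ e]
      have e2 : (⟨(a * b * a : T.C), hCN (a * b * a).2⟩ : Nn) =
          ⟨a, hCN a.2⟩ * ⟨b, hCN b.2⟩ * ⟨a, hCN a.2⟩ := rfl
      rw [e2, map_mul, map_mul, h3 _ x2_cube a ha,
        h3 _ (by rw [conj_pow, x2_cube, mul_one, mul_inv_cancel]) b hb, one_mul, one_mul]
    · intro c hc
      exact hQ c ((T.ρker c).1 hc)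
    · intro γ δ hγ hδ c hc
      obtain ⟨a, ha⟩ := T.ρsurj γ
      have h1 : T.ρ (a⁻¹ * c) = δ := by rw [map_mul, map_inv, ha, hc, inv_mul_cancel_left]
      have e2 : (⟨c, hCN c.2⟩ : Nn) = ⟨a, hCN a.2⟩ * ⟨(a⁻¹ * c : T.C), hCN (a⁻¹ * c).2⟩ :=
        Subtype.ext (by push_cast; group)
      rw [e2, map_mul, hγ a ha, hδ _ h1, one_mul]
    · intro γ hγ c hc
      have h1 : T.ρ c⁻¹ = γ := by rw [map_inv, hc, inv_inv]
      have h2 := hγ c⁻¹ h1
      have e2 : (⟨(c⁻¹ : T.C), hCN (c⁻¹).2⟩ : Nn) * ⟨c, hCN c.2⟩ = 1 := Subtype.ext (by simp)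
      have := congrArg det e2
      rwa [map_mul, h2, one_mul, map_one] at this
  -- the orbit of `z`
  let O : Set G := {x | ∃ m : Nn, det m = 1 ∧ (m : G) * T.z * (m : G)⁻¹ = x}
  have hOconj : ∀ (c : Nn), det c = 1 → ∀ x ∈ O, (c : G) * x * (c : G)⁻¹ ∈ O := by
    rintro c hc x ⟨m, hm, rfl⟩
    exact ⟨c * m, by rw [map_mul, hc, hm, mul_one], by push_cast; group⟩
  obtain ⟨q', hq', hq'z⟩ := T.exists_com_eq hg'
  set t := g * q' * g⁻¹ with ht
  have htQc : t ∈ T.Qc g := T.conj_mem_Qc hq'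
  have htN : t ∈ Nn := Subgroup.mem_normalizer_fintype fun x hx => by
    have h1 : com t x ∈ Subgroup.zpowers y := T.com_Qc htQc (hND ▸ hx).2
    have h2 := mul_mem (Subgroup.zpowers_le.2 hy h1) hx
    simpa [com] using h2
  have htz : t * T.z * t⁻¹ = y * T.z := by
    have e' : t * T.z * t⁻¹ = g * com q' (g⁻¹ * T.z * g⁻¹⁻¹) * g⁻¹ * T.z := by
      simp only [com, ht]; group
    rw [e', hq'z]
  have hdett : det ⟨t, htN⟩ = 1 := hcube _ (Subtype.ext (by
    push_cast
    rw [ht, conj_pow, T.exp q' hq', mul_one, mul_inv_cancel]))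
  have hyzO : y * T.z ∈ O := ⟨⟨t, htN⟩, hdett, htz⟩
  have hyz : y * T.z ∉ T.toPre.Z := fun h => hg.2 ((Subgroup.mul_mem_cancel_right _ T.z_mem).1 h)
  -- `C` is transitive outside `Z`
  have htrans : ∀ x ∈ N, x ∉ T.toPre.Z → ∃ c : T.C, (c : G) * (y * T.z) * (c : G)⁻¹ = x := by
    let a : T.V := T.bar ⟨y * T.z, hN.le_Q (mul_mem hy (hN.z_mem T.z_mem))⟩
    have ha1 : a ≠ 1 := fun h => hyz (T.bar_eq_one.1 h)
    have hmm : ∀ (g h : SL2) v, T.act (g * h) v = T.act g (T.act h v) := fun g h v => by rw [map_mul]; rfl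
    let St : Subgroup SL2 :=
      { carrier := {γ | T.act γ a = a}
        one_mem' := by show T.act 1 a = a; rw [map_one]; rfl
        mul_mem' := fun {γ δ} h1 h2 => by show T.act (γ * δ) a = a; rw [hmm, h2, h1]
        inv_mem' := fun {γ} h => by
          show T.act γ⁻¹ a = a
          conv_lhs => rw [← (show T.act γ a = a from h)]
          rw [← hmm, inv_mul_cancel, map_one]; rfl }
    have hneg : (-1 : SL2) ∉ St := fun h => by
      have h1 : T.act (-1) a = a := h
      rw [T.inverts a] at h1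
      have h2 : a * a = 1 := by conv_lhs => lhs; rw [← h1]
                                exact inv_mul_cancel a
      have h3 := T.V_cube a
      rw [pow_succ, pow_two, h2, one_mul] at h3
      exact ha1 h3
    have hSt3 : ∀ γ : St, γ ^ 3 = 1 := fun γ => by
      rcases sl2_cases γ with h | h | h | h
      · exact Subtype.ext (by simpa using h)
      · exact absurd (h ▸ γ.2) hneg
      · exact absurd (h ▸ mul_mem γ.2 γ.2) hneg
      · exact absurd (h ▸ mul_mem (mul_mem γ.2 γ.2) γ.2) hneg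
    have hStc : Nat.card St ≤ 3 := by
      obtain ⟨k, hk⟩ := IsPGroup.iff_card.1 (show IsPGroup 3 St from fun γ => ⟨1, by simpa using hSt3 γ⟩)
      have hd24 : Nat.card St ∣ 24 := card_sl2_side ▸ Subgroup.card_subgroup_dvd_card St
      rw [hk] at hd24 ⊢
      have : (3 : ℕ) ^ k ∣ 3 := by
        have hco : (3 ^ k).Coprime 8 := Nat.Coprime.pow_left k (by norm_num)
        exact hco.dvd_of_dvd_mul_right (by norm_num; exact hd24)
      exact Nat.le_of_dvd (by norm_num) this
    have haimg : a ∈ T.img N := (T.bar_mem_img hN.z_mem _).2 (mul_mem hy (hN.z_mem T.z_mem))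
    let Ω := {v : T.img N // v ≠ 1}
    let φ : SL2 ⧸ St → Ω := Quotient.lift
      (fun γ => (⟨⟨T.act γ a, IsNatural.act_mem T hN γ a haimg⟩, fun h => ha1
        ((T.act γ).injective ((congrArg Subtype.val h).trans (map_one _).symm))⟩ : Ω))
      (fun γ δ h => by
        have h' : γ⁻¹ * δ ∈ St := QuotientGroup.leftRel_apply.1 h
        refine Subtype.ext (Subtype.ext ?_)
        show T.act γ a = T.act δ a
        conv_lhs => rw [← (show T.act (γ⁻¹ * δ) a = a from h')]
        rw [← hmm, mul_inv_cancel_left])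
    have hφinj : Function.Injective φ := by
      intro p q
      induction p using QuotientGroup.induction_on with | H γ => ?_
      induction q using QuotientGroup.induction_on with | H δ => ?_
      intro h
      have h' : T.act γ a = T.act δ a := congrArg Subtype.val (congrArg Subtype.val h)
      refine QuotientGroup.eq.2 (show T.act (γ⁻¹ * δ) a = a from ?_)
      rw [hmm, ← h', ← hmm, inv_mul_cancel, map_one]; rfl
    have hΩ : Nat.card Ω = 8 := by
      haveI := Fintype.ofFinite (T.img N)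
      rw [Nat.card_eq_fintype_card, Fintype.card_subtype_compl, Fintype.card_subtype_eq,
        ← Nat.card_eq_fintype_card, IsNatural.card_img T hN]
    have hφsurj : Function.Surjective φ := by
      refine ((Nat.bijective_iff_injective_and_card φ).2 ⟨hφinj, ?_⟩).2
      refine le_antisymm (Nat.card_le_card_of_injective φ hφinj) ?_
      have h := St.card_eq_card_quotient_mul_card_subgroup
      rw [card_sl2_side] at h
      rw [hΩ]
      nlinarith [Nat.card_pos (α := St)]
    intro x hx hxZ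
    let xQ : T.Q := ⟨x, hN.le_Q hx⟩
    obtain ⟨p, hp⟩ := hφsurj ⟨⟨T.bar xQ, (T.bar_mem_img hN.z_mem _).2 hx⟩, fun h =>
      hxZ (T.bar_eq_one.1 (congrArg Subtype.val h))⟩
    induction p using QuotientGroup.induction_on with | H γ => ?_
    have hγ : T.act γ a = T.bar xQ := congrArg Subtype.val (congrArg Subtype.val hp)
    obtain ⟨c, rfl⟩ := T.ρsurj γ
    rw [T.act_bar, T.bar_eq] at hγ
    set x₁ := (c : G) * (y * T.z) * (c : G)⁻¹ with hx₁
    have hx₁N : x₁ ∈ N := (Subgroup.mem_normalizer_iff.1 (hCN c.2) _).1 (mul_mem hy (hN.z_mem T.z_mem))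
    have hx₁Z : x₁ ∉ T.toPre.Z := fun h => hyz (by
      have := T.conj_Z (inv_mem c.2) h
      rw [hx₁] at this
      have e' : (c : G)⁻¹ * ((c : G) * (y * T.z) * (c : G)⁻¹) * (c : G)⁻¹⁻¹ = y * T.z := by group
      rw [e'] at this
      exact this ▸ h)
    obtain ⟨q, hq, hqx⟩ : ∃ q ∈ T.Q, com q x₁ = x₁⁻¹ * x := by
      let χ : T.Q →* T.toPre.Z := MonoidHom.mk' (fun q => ⟨com (q : G) x₁, T.com_mem' q.2 (hN.le_Q hx₁N)⟩)
        fun p q => Subtype.ext (T.com_mul_left p.2 q.2 (hN.le_Q hx₁N))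
      have hne : χ.range ≠ ⊥ := fun h => hx₁Z (T.center _ (hN.le_Q hx₁N) fun b hb => by
        have hb1 : χ ⟨b, hb⟩ = 1 := Subgroup.mem_bot.1 (h ▸ ⟨_, rfl⟩)
        exact (Pre.com_eq_one_iff.1 (congrArg Subtype.val hb1)).symm)
      haveI : Fact (Nat.Prime (Nat.card T.toPre.Z)) := ⟨T.card_Z ▸ Nat.prime_three⟩
      obtain ⟨q, hq⟩ : (⟨x₁⁻¹ * x, hγ⟩ : T.toPre.Z) ∈ χ.range :=
        ((χ.range.eq_bot_or_eq_top_of_prime_card).resolve_left hne).symm ▸ Subgroup.mem_top _
      exact ⟨q, q.2, congrArg Subtype.val hq⟩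
    refine ⟨⟨q, T.Q_le_C hq⟩ * c, ?_⟩
    push_cast
    calc q * (c : G) * (y * T.z) * (q * (c : G))⁻¹ = com q x₁ * x₁ := by
          simp only [hx₁, com]; group
      _ = x₁ * com q x₁ := (T.Z_central (T.Q_le_C (hN.le_Q hx₁N)) (T.com_mem' hq (hN.le_Q hx₁N))).symm
      _ = x := by rw [hqx, mul_inv_cancel_left]
  have hOall : ∀ x ∈ N, x ≠ 1 → x ∈ O := by
    have hout : ∀ x ∈ N, x ∉ T.toPre.Z → x ∈ O := fun x hx hxZ => by
      obtain ⟨c, hc⟩ := htrans x hx hxZ
      rw [← hc]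
      exact hOconj ⟨c, hCN c.2⟩ (hdetC _ c rfl) _ hyzO
    intro x hx hx1
    by_cases hxZ : x ∈ T.toPre.Z
    · rcases T.z_pow_cases hxZ with h | h | h
      · exact absurd h hx1
      · exact ⟨1, map_one det, by simp [h]⟩
      · have h1 : (y * T.z)⁻¹ ∈ O := hout _ (inv_mem (mul_mem hy (hN.z_mem T.z_mem)))
          (fun h' => hyz (inv_inv (y * T.z) ▸ inv_mem h'))
        have h2 := hOconj (⟨t, htN⟩⁻¹) (by
          have := congrArg det (inv_mul_cancel (⟨t, htN⟩ : Nn))
          rwa [map_mul, hdett, mul_one, map_one] at this) _ h1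
        push_cast at h2
        rw [← htz, show t⁻¹ * (t * T.z * t⁻¹)⁻¹ * t⁻¹⁻¹ = T.z⁻¹ by group] at h2
        rwa [h]
    · exact hout x hx hxZ
  have hdet : ∀ n : Nn, det n = 1 := by
    intro n
    have hnz : (n : G) * T.z * (n : G)⁻¹ ≠ 1 := fun h => T.z_ne (conj_eq_one_iff.1 h)
    obtain ⟨m, hm, hmz⟩ := hOall _ (conj_mem n (hN.z_mem T.z_mem)) hnz
    have hc : ((m⁻¹ * n : Nn) : G) ∈ T.C := by
      refine T.mem_C.2 ?_
      push_cast
      calc (m : G)⁻¹ * n * T.z = (m : G)⁻¹ * (n * T.z * (n : G)⁻¹) * n := by group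
        _ = (m : G)⁻¹ * ((m : G) * T.z * (m : G)⁻¹) * n := by rw [hmz]
        _ = T.z * ((m : G)⁻¹ * n) := by group
    have h1 : det (m⁻¹ * n) = 1 := hdetC _ ⟨_, hc⟩ rfl
    rw [show n = m * (m⁻¹ * n) by rw [mul_inv_cancel_left], map_mul, hm, h1, one_mul]
  let π : Nn →* SL3 :=
    { toFun := fun n => ⟨Mt n, hdet n⟩
      map_one' := Subtype.ext hMone
      map_mul' := fun n m => Subtype.ext (hMmul n m) }
  have hker : π.ker = N.subgroupOf Nn := by
    ext n
    rw [MonoidHom.mem_ker, Subgroup.mem_subgroupOf]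
    constructor
    · intro h
      rw [← IsNatural.cent T hN, Subgroup.mem_centralizer_iff]
      intro x hx
      obtain ⟨v, hv⟩ := e.surjective ⟨x, hx⟩
      have h1 := hL n v.toAdd
      rw [← hMt, show Mt n = 1 from congrArg Subtype.val h, Matrix.one_mulVec, ofAdd_toAdd, hv] at h1
      have h2 : x = (n : G) * x * (n : G)⁻¹ := congrArg Subtype.val h1
      exact (mul_inv_eq_iff_eq_mul.1 h2.symm).symm
    · intro hn
      refine Subtype.ext (hext _ _ fun v => ?_)
      show Mt n *ᵥ v = (1 : Matrix (Fin 3) (Fin 3) (ZMod 3)) *ᵥ v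
      rw [hMt, Matrix.one_mulVec]
      refine Multiplicative.ofAdd.injective (e.injective ?_)
      rw [hL]
      exact Subtype.ext (by
        show (n : G) * _ * (n : G)⁻¹ = _
        rw [hN.comm _ hn _ (e _).2, mul_inv_cancel_right])
  have hcardNn : Nat.card Nn = 26 * 5832 := by
    let C' : Subgroup Nn := T.C.subgroupOf Nn
    let Ω := {v : N // v ≠ 1}
    let φ : ↥Nn ⧸ C' → Ω := Quotient.lift
      (fun n => (⟨⟨n * T.z * (n : G)⁻¹, conj_mem n (hN.z_mem T.z_mem)⟩,
        fun h => T.z_ne (conj_eq_one_iff.1 (congrArg Subtype.val h))⟩ : Ω))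
      (fun n m h => by
        have h' : ((n⁻¹ * m : Nn) : G) ∈ T.C := Subgroup.mem_subgroupOf.1 (QuotientGroup.leftRel_apply.1 h)
        have h2 := T.mem_C.1 h'
        push_cast at h2
        refine Subtype.ext (Subtype.ext ?_)
        show (n : G) * T.z * (n : G)⁻¹ = (m : G) * T.z * (m : G)⁻¹
        calc (n : G) * T.z * (n : G)⁻¹ = (n : G) * (T.z * ((n : G)⁻¹ * m)) * (m : G)⁻¹ := by group
          _ = (m : G) * T.z * (m : G)⁻¹ := by rw [← h2]; group)
    have hinjφ : Function.Injective φ := by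
      intro p q
      induction p using QuotientGroup.induction_on with | H n => ?_
      induction q using QuotientGroup.induction_on with | H m => ?_
      intro h
      have h' : (n : G) * T.z * (n : G)⁻¹ = (m : G) * T.z * (m : G)⁻¹ :=
        congrArg Subtype.val (congrArg Subtype.val h)
      refine QuotientGroup.eq.2 (Subgroup.mem_subgroupOf.2 (T.mem_C.2 ?_))
      push_cast
      calc (n : G)⁻¹ * m * T.z = (n : G)⁻¹ * ((m : G) * T.z * (m : G)⁻¹) * m := by group
        _ = T.z * ((n : G)⁻¹ * m) := by rw [← h']; group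
    have hsurjφ : Function.Surjective φ := by
      rintro ⟨⟨x, hx⟩, hx1⟩
      obtain ⟨m, -, hmz⟩ := hOall x hx (fun h => hx1 (Subtype.ext h))
      exact ⟨QuotientGroup.mk m, Subtype.ext (Subtype.ext hmz)⟩
    have hΩ : Nat.card Ω = 26 := by
      haveI := Fintype.ofFinite N
      rw [Nat.card_eq_fintype_card, Fintype.card_subtype_compl, Fintype.card_subtype_eq,
        ← Nat.card_eq_fintype_card, hN.card]
    rw [C'.card_eq_card_quotient_mul_card_subgroup, Nat.card_congr (Equiv.ofBijective φ ⟨hinjφ, hsurjφ⟩),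
      hΩ, Nat.card_congr (Subgroup.subgroupOfEquivOfLe hCN).toEquiv, T.card_C]
  refine ⟨e, π, ?_, hker, fun n v => ?_, fun x hx hx1 => ?_⟩
  · rw [← MonoidHom.range_eq_top]
    refine Subgroup.eq_top_of_card_eq _ ?_
    have h := π.ker.card_eq_card_quotient_mul_card_subgroup
    rw [hcardNn, Nat.card_congr (QuotientGroup.quotientKerEquivRange π).toEquiv, hker,
      Nat.card_congr (Subgroup.subgroupOfEquivOfLe Subgroup.le_normalizer).toEquiv, hN.card] at h
    rw [card_sl3]
    omega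
  · have h1 := hL n v
    rw [← hMt] at h1
    exact (congrArg Subtype.val h1).symm
  · obtain ⟨m, -, hmz⟩ := hOall x hx hx1
    exact ⟨m, m.2, hmz⟩

end Loc

end Cfsg.Agent.Spor.PSLFourThree
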