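import Cfsg.Agent.Lib.Spor.PSLFourThree.LocModule
import Cfsg.Agent.Lib.Fusion.Cores

/-!
From the hypotheses of the recognition theorem (a `3`-centraliser `3^{1+4}.SL₂(3)` with two nontrivial
chief factors in `Q/Z`) to the local data: the central involution of `C/Q` inverts `Q/Z`.
-/

set_option autoImplicit false
set_option linter.unusedSectionVars false
set_option maxHeartbeats 1600000

namespace Cfsg.Agent.Spor.PSLFourThree

open Cfsg
open scoped commutatorElement

local notation "SL2" => Matrix.SpecialLinearGroup (Fin 2) (ZMod 3)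

theorem neg_one_sq2 : (-1 : SL2) * -1 = 1 := by decide +kernel

theorem card_sl2 : Nat.card SL2 = 24 := by
  rw [Nat.card_eq_fintype_card]
  decide +kernel

/-- The induced action on a section. -/
theorem exists_section_act {V : Type*} [CommGroup V] (f : SL2 →* MulAut V) (F H : Subgroup V)
    (hF : ∀ g, ∀ b ∈ F, f g b ∈ F) (hH : ∀ g, ∀ b ∈ H, f g b ∈ H) :
    ∃ f' : SL2 →* MulAut (↥H ⧸ F.subgroupOf H), ∀ g (h : H),
      f' g (QuotientGroup.mk h) = QuotientGroup.mk ⟨f g (h : V), hH g _ h.2⟩ := by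
  let φ : SL2 → (H →* H) := fun g =>
    { toFun := fun h => ⟨f g h, hH g h h.2⟩
      map_one' := Subtype.ext (map_one (f g))
      map_mul' := fun a b => Subtype.ext (map_mul (f g) (a : V) (b : V)) }
  let ψ : SL2 → (↥H ⧸ F.subgroupOf H →* ↥H ⧸ F.subgroupOf H) := fun g =>
    QuotientGroup.map _ _ (φ g) (fun a ha => by
      rw [Subgroup.mem_subgroupOf] at ha
      show φ g a ∈ F.subgroupOf H
      rw [Subgroup.mem_subgroupOf]
      exact hF g a ha)
  have hψ : ∀ g h x, ψ (g * h) x = ψ g (ψ h x) := fun g h x => by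
    obtain ⟨a, rfl⟩ := QuotientGroup.mk_surjective x
    show QuotientGroup.mk (φ (g * h) a) = QuotientGroup.mk (φ g (φ h a))
    exact congrArg _ (Subtype.ext (by show f (g * h) (a : V) = f g (f h a); rw [map_mul]; rfl))
  have hψ1 : ∀ x, ψ 1 x = x := fun x => by
    obtain ⟨a, rfl⟩ := QuotientGroup.mk_surjective x
    show QuotientGroup.mk (φ 1 a) = _
    refine congrArg _ (Subtype.ext ?_)
    show f 1 (a : V) = a
    rw [map_one]; rfl
  refine ⟨{
    toFun := fun g => MonoidHom.toMulEquiv (ψ g) (ψ g⁻¹)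
      (MonoidHom.ext fun x => by
        show ψ g⁻¹ (ψ g x) = x
        rw [← hψ, inv_mul_cancel, hψ1])
      (MonoidHom.ext fun x => by
        show ψ g (ψ g⁻¹ x) = x
        rw [← hψ, mul_inv_cancel, hψ1])
    map_one' := MulEquiv.ext fun x => hψ1 x
    map_mul' := fun g h => MulEquiv.ext fun x => hψ g h x }, fun g h => rfl⟩

variable {G : Type*} [Group G] [Finite G]

theorem exists_pre (S : Sylow 3 G) (Z : Subgroup G)
    (hZ : Z = (S : Subgroup G) ⊓ Subgroup.centralizer ((S : Subgroup G) : Set G))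
    (C : Subgroup G) (hCZ : C = Subgroup.centralizer (Z : Set G))
    (Q : Subgroup G) (hQ : Q = (Cfsg.pCore 3 C).map C.subtype)
    (hQex : Cfsg.IsExtraspecial 3 Q) (hQcard : Nat.card Q = 3 ^ 5) (hQexp : ∀ a ∈ Q, a ^ 3 = 1)
    (hCQ : Subgroup.centralizer (Q : Set G) ≤ Q)
    (e : C ⧸ Cfsg.pCore 3 C ≃* SL2) :
    ∃ T : Pre G, T.Z = Z ∧ T.Q = Q ∧
      ∀ g, ∃ c : C, e (QuotientGroup.mk c) = g ∧
        ∀ (hc : (c : G) ∈ T.C), T.ρ ⟨c, hc⟩ = g := by
  haveI : Fact (Nat.Prime 3) := ⟨Nat.prime_three⟩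
  have hSC : (S : Subgroup G) ≤ C := by
    intro s hs
    rw [hCZ, Subgroup.mem_centralizer_iff]
    intro x hx
    rw [hZ] at hx
    exact ((Subgroup.mem_centralizer_iff.1 hx.2) s hs).symm
  have hQC : Q ≤ C := hQ ▸ Subgroup.map_subtype_le _
  have hQS : Q ≤ (S : Subgroup G) := by
    rintro x hx
    rw [hQ] at hx
    obtain ⟨y, hy, rfl⟩ := hx
    exact Subgroup.mem_subgroupOf.1 (Fusion.pCore_le_sylow (S.subtype hSC) hy)
  have hZQ : Z ≤ Q := fun x hx => hCQ (by
    rw [hZ] at hx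
    exact Subgroup.centralizer_le (SetLike.coe_subset_coe.2 hQS) hx.2)
  have hZne : Z ≠ ⊥ := by
    haveI : Nontrivial (S : Subgroup G) := by
      refine Finite.one_lt_card_iff_nontrivial.1 ?_
      have h1 : Nat.card Q ≤ Nat.card (S : Subgroup G) :=
        Nat.le_of_dvd Nat.card_pos (Subgroup.card_dvd_of_le hQS)
      rw [hQcard] at h1
      omega
    obtain ⟨⟨⟨x, hxS⟩, hxc⟩, hx1⟩ := @exists_ne _ S.isPGroup'.center_nontrivial 1
    intro h
    have hxZ : x ∈ Z := by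
      rw [hZ]
      refine ⟨hxS, Subgroup.mem_centralizer_iff.2 fun s hs => ?_⟩
      exact congrArg Subtype.val (Subgroup.mem_center_iff.1 hxc ⟨s, hs⟩)
    rw [h, Subgroup.mem_bot] at hxZ
    exact hx1 (Subtype.ext (Subtype.ext hxZ))
  obtain ⟨⟨-, -, hcomm⟩, hcenter⟩ := hQex
  have hsub : Z.subgroupOf Q ≤ Subgroup.center Q := fun x hx => by
    rw [Subgroup.mem_center_iff]
    intro y
    rw [Subgroup.mem_subgroupOf, hZ] at hx
    exact Subtype.ext ((Subgroup.mem_centralizer_iff.1 hx.2) y (hQS y.2))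
  have hZcard : Nat.card Z = 3 := by
    have h1 : Nat.card Z ∣ 3 := by
      rw [← hcenter, ← Nat.card_congr (Subgroup.subgroupOfEquivOfLe hZQ).toEquiv]
      exact Subgroup.card_dvd_of_le hsub
    exact (Nat.prime_three.eq_one_or_self_of_dvd _ h1).resolve_left
      (fun h => hZne (Subgroup.eq_bot_of_card_eq Z h))
  have hZcenter : Z.subgroupOf Q = Subgroup.center Q :=
    Subgroup.eq_of_le_of_card_ge hsub
      (by rw [hcenter, Nat.card_congr (Subgroup.subgroupOfEquivOfLe hZQ).toEquiv, hZcard])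
  obtain ⟨⟨z, hzZ⟩, hz1'⟩ := Z.ne_bot_iff_exists_ne_one.1 hZne
  have hz1 : z ≠ 1 := fun h => hz1' (Subtype.ext h)
  have hord : orderOf z = 3 := by
    refine orderOf_eq_prime ?_ hz1
    exact hQexp z (hZQ hzZ)
  have hzeq : Subgroup.zpowers z = Z :=
    Subgroup.eq_of_le_of_card_ge (Subgroup.zpowers_le.2 hzZ)
      (by rw [Nat.card_zpowers, hord, hZcard])
  have hCz : Subgroup.centralizer ({z} : Set G) = C := by
    rw [hCZ, ← hzeq, Subgroup.zpowers_eq_closure, Subgroup.centralizer_closure]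
  let ι : ↥(Subgroup.centralizer ({z} : Set G)) ≃* C := MulEquiv.subgroupCongr hCz
  have hker : ∀ c : C, (QuotientGroup.mk c : C ⧸ Cfsg.pCore 3 C) = 1 ↔ (c : G) ∈ Q := fun c => by
    rw [QuotientGroup.eq_one_iff, hQ, Subgroup.mem_map]
    exact ⟨fun h => ⟨c, h, rfl⟩, fun ⟨y, hy, hyc⟩ => Subtype.ext hyc ▸ hy⟩
  have hcardC : Nat.card C = 5832 := by
    rw [Subgroup.card_eq_card_quotient_mul_card_subgroup (Cfsg.pCore 3 C),
      Nat.card_congr e.toEquiv, card_sl2]
    have : Nat.card (Cfsg.pCore 3 C) = 243 := by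
      rw [← Subgroup.card_map_of_injective (f := C.subtype) C.subtype_injective, ← hQ, hQcard]
      norm_num
    rw [this]
  refine ⟨{
    z := z
    Q := Q
    ρ := (e.toMonoidHom.comp (QuotientGroup.mk' (Cfsg.pCore 3 C))).comp ι.toMonoidHom
    hz := hord
    hzQ := hZQ hzZ
    card_Q := by rw [hQcard]; norm_num
    exp := hQexp
    center := fun a ha h => by
      have hmem : (⟨a, ha⟩ : Q) ∈ Subgroup.center Q :=
        Subgroup.mem_center_iff.2 fun b => Subtype.ext (h b b.2).symm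
      rw [← hZcenter, Subgroup.mem_subgroupOf] at hmem
      rwa [hzeq]
    com_mem := fun a ha b hb => by
      have hmem : ⁅(⟨a, ha⟩ : Q), ⟨b, hb⟩⁆ ∈ commutator Q :=
        Subgroup.commutator_mem_commutator (Subgroup.mem_top _) (Subgroup.mem_top _)
      rw [hcomm, ← hZcenter, Subgroup.mem_subgroupOf] at hmem
      rw [hzeq]
      simpa [commutatorElement_def, com] using hmem
    normQ := by
      rw [hCz, hQ]
      intro c hc
      rw [Subgroup.mem_normalizer_iff]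
      intro x
      constructor
      · rintro ⟨y, hy, rfl⟩
        exact ⟨⟨c, hc⟩ * y * ⟨c, hc⟩⁻¹, (inferInstance : (Cfsg.pCore 3 C).Normal).conj_mem y hy _, rfl⟩
      · rintro ⟨y, hy, hyx⟩
        refine ⟨⟨c, hc⟩⁻¹ * y * ⟨c, hc⟩, ?_, ?_⟩
        · simpa using (inferInstance : (Cfsg.pCore 3 C).Normal).conj_mem y hy (⟨c, hc⟩⁻¹)
        · simp only [Subgroup.subtype_apply] at hyx ⊢
          push_cast
          rw [hyx]; group
    QC := hCz ▸ hQC
    self := hCQ
    ρsurj := (e.surjective.comp (QuotientGroup.mk'_surjective _)).comp ι.surjective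
    ρker := fun c => by
      show e (QuotientGroup.mk (ι c)) = 1 ↔ _
      rw [map_eq_one_iff e e.injective, hker]
      rfl
    sylow := fun P hP => by
      obtain ⟨S', hS'⟩ := hP.exists_le_sylow
      refine (Nat.le_of_dvd Nat.card_pos (Subgroup.card_dvd_of_le hS')).trans ?_
      rw [S'.card_eq_multiplicity, ← S.card_eq_multiplicity]
      obtain ⟨n, hn⟩ := IsPGroup.iff_card.1 S.isPGroup'
      have h1 : (3 : ℕ) ^ n ∣ 3 ^ 6 * 8 := by
        rw [← hn, show (3 : ℕ) ^ 6 * 8 = 5832 by norm_num, ← hcardC]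
        exact Subgroup.card_dvd_of_le hSC
      rw [hn]
      exact Nat.le_of_dvd (by norm_num) ((Nat.Coprime.pow_left n (by norm_num)).dvd_of_dvd_mul_right h1) }, hzeq, rfl, ?_⟩
  intro g
  obtain ⟨q, hq⟩ := e.surjective g
  obtain ⟨c, rfl⟩ := QuotientGroup.mk_surjective q
  exact ⟨c, hq, fun hc => hq⟩

/-- The local data of the recognition theorem. -/
theorem exists_loc (S : Sylow 3 G) (Z : Subgroup G)
    (hZ : Z = (S : Subgroup G) ⊓ Subgroup.centralizer ((S : Subgroup G) : Set G))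
    (C : Subgroup G) (hCZ : C = Subgroup.centralizer (Z : Set G))
    (Q : Subgroup G) (hQ : Q = (Cfsg.pCore 3 C).map C.subtype)
    (hQex : Cfsg.IsExtraspecial 3 Q) (hQcard : Nat.card Q = 3 ^ 5) (hQexp : ∀ a ∈ Q, a ^ 3 = 1)
    (hCQ : Subgroup.centralizer (Q : Set G) ≤ Q)
    (K : Subgroup G) (hK : K = ((Cfsg.pResidual 2 (C ⧸ Cfsg.pCore 3 C)).comap (QuotientGroup.mk' (Cfsg.pCore 3 C))).map C.subtype)
    (r : ℕ) (A : Fin (r + 1) → Subgroup G) (hA0 : A 0 = Z) (hAr : A (Fin.last r) = Q)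
    (hmono : ∀ i : Fin r, A i.castSucc < A i.succ)
    (hinv : ∀ i : Fin (r + 1), ∀ k ∈ K, ∀ a ∈ A i, k * a * k⁻¹ ∈ A i)
    (hmax : ∀ i : Fin r, ∀ B : Subgroup G, A i.castSucc < B → B < A i.succ → ∃ k ∈ K, ∃ b ∈ B, k * b * k⁻¹ ∉ B)
    (e : C ⧸ Cfsg.pCore 3 C ≃* SL2)
    (htwo : ∃ i j : Fin r, i ≠ j ∧ (∃ k ∈ K, ∃ a ∈ A i.succ, k * a * k⁻¹ * a⁻¹ ∉ A i.castSucc) ∧ (∃ k ∈ K, ∃ a ∈ A j.succ, k * a * k⁻¹ * a⁻¹ ∉ A j.castSucc) ∧
      ∀ l : Fin r, (∃ k ∈ K, ∃ a ∈ A l.succ, k * a * k⁻¹ * a⁻¹ ∉ A l.castSucc) → l = i ∨ l = j) :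
    ∃ T : Loc G, T.toPre.Z = Z ∧ T.Q = Q := by
  classical
  obtain ⟨T, hTZ, hTQ, hlift⟩ := exists_pre S Z hZ C hCZ Q hQ hQex hQcard hQexp hCQ e
  have hres : Cfsg.pResidual 2 (C ⧸ Cfsg.pCore 3 C) = ⊤ := by
    refine eq_top_iff.2 fun q _ => ?_
    have hcop : ∀ g : SL2, g ^ 3 = 1 → e.symm g ∈ Cfsg.pResidual 2 (C ⧸ Cfsg.pCore 3 C) := fun g hg => by
      refine Subgroup.subset_closure ?_
      show Nat.Coprime (orderOf (e.symm g)) 2
      have h1 : orderOf (e.symm g) ∣ 3 := orderOf_dvd_of_pow_eq_one (by rw [← map_pow, hg, map_one])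
      exact Nat.Coprime.coprime_dvd_left h1 (by norm_num)
    have h := gen_induction (p := fun g => e.symm g ∈ Cfsg.pResidual 2 (C ⧸ Cfsg.pCore 3 C))
      (hcop _ x2_cube) (by
        have hc : (i2 * x2 * i2⁻¹) ^ 3 = 1 := by rw [conj_pow, x2_cube, mul_one, mul_inv_cancel]
        rw [← rel_x2_i2, map_mul, map_mul]
        exact mul_mem (mul_mem (hcop _ x2_cube) (hcop _ hc)) (hcop _ x2_cube))
      (by rw [map_one]; exact one_mem _) (fun a b ha hb => by rw [map_mul]; exact mul_mem ha hb)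
      (fun a ha => by rw [map_inv]; exact inv_mem ha) (e q)
    simpa using h
  have hKC : K = C := by
    rw [hK, hres, Subgroup.comap_top, ← MonoidHom.range_eq_map, Subgroup.range_subtype]
  have hCT : T.C = C := by
    rw [hCZ, ← hTZ, Pre.Z, Subgroup.zpowers_eq_closure, Subgroup.centralizer_closure]
  have hstrict : StrictMono A := Fin.strictMono_iff_lt_succ.2 hmono
  have hZA : ∀ i, T.Z ≤ A i := fun i => hTZ.trans hA0.symm ▸ hstrict.monotone (Fin.zero_le i)
  have hAQ : ∀ i, A i ≤ T.Q := fun i => hTQ.trans hAr.symm ▸ hstrict.monotone (Fin.le_last i)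
  let W : Fin (r + 1) → Subgroup T.V := fun i => ((A i).subgroupOf T.Q).map (QuotientGroup.mk' _)
  have hWmem : ∀ i (a : T.Q), T.bar a ∈ W i ↔ (a : G) ∈ A i := by
    intro i a
    constructor
    · rintro ⟨b, hb, hab⟩
      have h := T.bar_eq.1 hab
      rw [SetLike.mem_coe, Subgroup.mem_subgroupOf] at hb
      have := mul_mem hb (hZA i h)
      simpa [mul_assoc] using this
    · intro ha
      exact ⟨a, Subgroup.mem_subgroupOf.2 ha, rfl⟩
  have hWinv : ∀ i g, ∀ b ∈ W i, T.act g b ∈ W i := by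
    intro i g b hb
    obtain ⟨a, rfl⟩ := T.bar_surj b
    obtain ⟨c, rfl⟩ := T.ρsurj g
    rw [T.act_bar, hWmem]
    refine hinv i c ?_ a ((hWmem i a).1 hb)
    rw [hKC, ← hCT]
    exact c.2
  have hWle : ∀ {i j}, i ≤ j → W i ≤ W j := fun h =>
    Subgroup.map_mono (Subgroup.comap_mono (hstrict.monotone h))
  -- the nontrivial factors invert
  have hfac : ∀ l : Fin r, (∃ k ∈ K, ∃ a ∈ A l.succ, k * a * k⁻¹ * a⁻¹ ∉ A l.castSucc) →
      9 * Nat.card (W l.castSucc) ≤ Nat.card (W l.succ) ∧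
        (Nat.card (W l.succ) = 9 * Nat.card (W l.castSucc) →
          ∀ b ∈ W l.succ, T.act (-1) b * b ∈ W l.castSucc) := by
    intro l hl
    obtain ⟨k, hk, a, ha, hka⟩ := hl
    set F := W l.castSucc with hFdef
    set H := W l.succ with hHdef
    obtain ⟨f', hf'⟩ := exists_section_act T.act F H (fun g b hb => hWinv l.castSucc g b hb) (fun g b hb => hWinv l.succ g b hb)
    have hFH : F ≤ H := hWle (Fin.castSucc_lt_succ).le
    have hcard : Nat.card (↥H ⧸ F.subgroupOf H) * Nat.card F = Nat.card H := by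
      rw [← Nat.card_congr (Subgroup.subgroupOfEquivOfLe hFH).toEquiv,
        ← Subgroup.card_eq_card_quotient_mul_card_subgroup]
    have hnt : ∃ g m, f' g m ≠ m := by
      have hkT : k ∈ T.C := by rw [hCT, ← hKC]; exact hk
      let aQ : T.Q := ⟨a, hAQ _ ha⟩
      refine ⟨T.ρ ⟨k, hkT⟩, QuotientGroup.mk ⟨T.bar aQ, (hWmem _ aQ).2 ha⟩, fun h => hka ?_⟩
      rw [hf', QuotientGroup.eq, Subgroup.mem_subgroupOf] at h
      push_cast at h
      rw [T.act_bar, ← Pre.bar_inv, ← Pre.bar_mul, hWmem] at h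
      push_cast at h
      have h' := inv_mem h
      simp only [mul_inv_rev, inv_inv] at h'
      have e1 : k * a * k⁻¹ * a⁻¹ = a * (a⁻¹ * (k * a * k⁻¹)) * a⁻¹ := by group
      have h2 : a⁻¹ * (k * a * k⁻¹) ∈ A l.castSucc := h'
      -- `A l.castSucc` is normal in `Q`
      have hn : ∀ x ∈ A l.castSucc, a * x * a⁻¹ ∈ A l.castSucc := fun x hx => by
        have h3 : com a x ∈ A l.castSucc := hZA _ (T.com_mem' (hAQ _ ha) (hAQ _ hx))
        have h4 := mul_mem h3 hx
        simpa [com] using h4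
      rw [e1]
      exact hn _ h2
    have hV81 : Nat.card (↥H ⧸ F.subgroupOf H) ∣ 3 ^ 4 := by
      refine dvd_trans (Dvd.intro _ hcard) ?_
      rw [show (3 : ℕ) ^ 4 = 81 by norm_num, ← T.card_V]
      exact Subgroup.card_subgroup_dvd_card H
    obtain ⟨n, hn4, hn⟩ := (Nat.dvd_prime_pow Nat.prime_three).1 hV81
    obtain ⟨g, m, hgm⟩ := hnt
    have hn2 : 2 ≤ n := by
      by_contra h2
      interval_cases n
      · haveI : Subsingleton (↥H ⧸ F.subgroupOf H) := (Nat.card_eq_one_iff_unique.1 hn).1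
        exact hgm (Subsingleton.elim _ _)
      · exact hgm (trivial_of_card_three f' hn g m)
    refine ⟨?_, fun h9 b hb => ?_⟩
    · rw [← hcard, hn]
      exact Nat.mul_le_mul_right _ (le_trans (by norm_num : 9 ≤ 3 ^ 2) (Nat.pow_le_pow_right (by norm_num) hn2))
    have h9' : Nat.card (↥H ⧸ F.subgroupOf H) = 9 := by
      rw [← hcard] at h9
      exact Nat.eq_of_mul_eq_mul_right Nat.card_pos h9
    have hexp : ∀ m : ↥H ⧸ F.subgroupOf H, m ^ 3 = 1 := fun m => by
      obtain ⟨x, rfl⟩ := QuotientGroup.mk_surjective m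
      rw [← QuotientGroup.mk_pow, show x ^ 3 = 1 from Subtype.ext (by simpa using T.V_cube x)]
      rfl
    have hirr : ∀ B : Subgroup (↥H ⧸ F.subgroupOf H), (∀ g, ∀ b ∈ B, f' g b ∈ B) → B = ⊥ ∨ B = ⊤ := by
      intro B hB
      let B' : Subgroup G := (((B.comap (QuotientGroup.mk' _)).map H.subtype).comap
        (QuotientGroup.mk' (T.Z.subgroupOf T.Q))).map T.Q.subtype
      have hB'mem : ∀ x : T.Q, (x : G) ∈ B' ↔ ∃ hx : T.bar x ∈ H, QuotientGroup.mk ⟨T.bar x, hx⟩ ∈ B := by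
        intro x
        constructor
        · rintro ⟨y, hy, hyx⟩
          obtain rfl : y = x := Subtype.ext hyx
          obtain ⟨w, hw, hwy⟩ := hy
          have hwy' : (w : T.V) = T.bar y := hwy
          refine ⟨hwy' ▸ w.2, ?_⟩
          have ew : (⟨T.bar y, hwy' ▸ w.2⟩ : H) = w := Subtype.ext hwy'.symm
          rw [ew]; exact hw
        · rintro ⟨hx, h⟩
          exact ⟨x, ⟨⟨T.bar x, hx⟩, h, rfl⟩, rfl⟩
      have hB'Q : B' ≤ T.Q := Subgroup.map_subtype_le _
      have hinvB : ∀ k ∈ K, ∀ b ∈ B', k * b * k⁻¹ ∈ B' := by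
        intro k hk b hb
        have hkT : k ∈ T.C := by rw [hCT, ← hKC]; exact hk
        obtain ⟨hx, h⟩ := (hB'mem ⟨b, hB'Q hb⟩).1 hb
        refine (hB'mem ⟨k * b * k⁻¹, T.conj_Q hkT (hB'Q hb)⟩).2 ⟨?_, ?_⟩
        · have := hWinv _ (T.ρ ⟨k, hkT⟩) _ hx
          rwa [T.act_bar] at this
        · have := hB (T.ρ ⟨k, hkT⟩) _ h
          rw [hf'] at this
          convert this using 3
          exact (T.act_bar ⟨k, hkT⟩ ⟨b, hB'Q hb⟩).symm
      have hlo : A l.castSucc ≤ B' := fun x hx => by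
        refine (hB'mem ⟨x, hAQ _ hx⟩).2 ⟨hFH ((hWmem _ ⟨x, hAQ _ hx⟩).2 hx), ?_⟩
        have : (QuotientGroup.mk (⟨T.bar ⟨x, hAQ _ hx⟩, hFH ((hWmem _ ⟨x, hAQ _ hx⟩).2 hx)⟩ : H) :
            ↥H ⧸ F.subgroupOf H) = 1 := by
          rw [QuotientGroup.eq_one_iff, Subgroup.mem_subgroupOf]
          exact (hWmem _ _).2 hx
        rw [this]
        exact one_mem _
      have hhi : B' ≤ A l.succ := fun x hx => by
        obtain ⟨h, -⟩ := (hB'mem ⟨x, hB'Q hx⟩).1 hx
        exact (hWmem _ _).1 h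
      rcases hlo.lt_or_eq with h1 | h1
      · rcases hhi.lt_or_eq with h2 | h2
        · obtain ⟨k, hk, b, hb, hkb⟩ := hmax l B' h1 h2
          exact absurd (hinvB k hk b hb) hkb
        · refine Or.inr (eq_top_iff.2 fun q _ => ?_)
          obtain ⟨⟨w, hw⟩, rfl⟩ := QuotientGroup.mk_surjective q
          obtain ⟨x, rfl⟩ := T.bar_surj w
          obtain ⟨hx', h⟩ := (hB'mem x).1 (h2.symm ▸ (hWmem _ x).1 hw)
          exact h
      · refine Or.inl (eq_bot_iff.2 fun q hq => ?_)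
        obtain ⟨⟨w, hw⟩, rfl⟩ := QuotientGroup.mk_surjective q
        obtain ⟨x, rfl⟩ := T.bar_surj w
        have hxB : (x : G) ∈ B' := (hB'mem x).2 ⟨hw, hq⟩
        rw [← h1] at hxB
        rw [Subgroup.mem_bot, QuotientGroup.eq_one_iff, Subgroup.mem_subgroupOf]
        exact (hWmem _ x).2 hxB
    have hres := neg_one_inverts_of_card_nine f' h9' hexp hirr ⟨g, m, hgm⟩ (QuotientGroup.mk ⟨b, hb⟩)
    rw [hf', ← QuotientGroup.mk_inv, QuotientGroup.eq, Subgroup.mem_subgroupOf] at hres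
    push_cast at hres
    have h5 := inv_mem hres
    simpa [mul_comm] using h5
  have key : ∀ i j : Fin r, i < j → (∃ k ∈ K, ∃ a ∈ A i.succ, k * a * k⁻¹ * a⁻¹ ∉ A i.castSucc) →
      (∃ k ∈ K, ∃ a ∈ A j.succ, k * a * k⁻¹ * a⁻¹ ∉ A j.castSucc) → T.Inverts := by
    intro i j hij hi hj
    obtain ⟨hi1, hi2⟩ := hfac i hi
    obtain ⟨hj1, hj2⟩ := hfac j hj
    have h0 : 1 ≤ Nat.card (W i.castSucc) := Nat.card_pos
    have hm : Nat.card (W i.succ) ≤ Nat.card (W j.castSucc) := Nat.le_of_dvd Nat.card_pos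
      (Subgroup.card_dvd_of_le (hWle (by rw [Fin.le_def]; simp; omega)))
    have htop : Nat.card (W j.succ) ≤ 81 := T.card_V ▸ Nat.le_of_dvd Nat.card_pos
      (Subgroup.card_subgroup_dvd_card _)
    have e1 : Nat.card (W i.castSucc) = 1 := by omega
    have e3 : Nat.card (W i.succ) = Nat.card (W j.castSucc) := by omega
    have e4 : Nat.card (W j.succ) = Nat.card T.V := by rw [T.card_V]; omega
    have hmid : W i.succ = W j.castSucc :=
      Subgroup.eq_of_le_of_card_ge (hWle (by rw [Fin.le_def]; simp; omega)) e3.ge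
    intro v
    have hv : T.act (-1) v * v ∈ W i.succ := by
      rw [hmid]
      exact hj2 (by omega) v (by rw [Subgroup.eq_top_of_card_eq _ e4]; trivial)
    have h2 := hi2 (by omega) _ hv
    rw [Subgroup.eq_bot_of_card_eq _ e1, Subgroup.mem_bot, map_mul] at h2
    have e5 : T.act (-1) (T.act (-1) v) = v := by
      show (T.act (-1) * T.act (-1)) v = v
      rw [← map_mul, neg_one_sq2, map_one]
      rfl
    rw [e5] at h2
    -- `u²=1` in a group of exponent three
    set u := T.act (-1) v * v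
    have hu : u * u = 1 := by rw [← h2]; simp only [u]; ac_rfl
    have hu3 := T.V_cube u
    rw [pow_succ, pow_two, hu, one_mul] at hu3
    exact eq_inv_of_mul_eq_one_left hu3
  obtain ⟨i, j, hij, hi, hj, -⟩ := htwo
  rcases lt_or_gt_of_ne hij with h | h
  · exact ⟨⟨T, key i j h hi hj⟩, hTZ, hTQ⟩
  · exact ⟨⟨T, key j i h hj hi⟩, hTZ, hTQ⟩

end Cfsg.Agent.Spor.PSLFourThree
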