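import Cfsg.Agent.Lib.Spor.PSLFourThree.JCase.Class
import Cfsg.Agent.Lib.Spor.PSLFourThree.LocInit

/-!
# The transvection moves only inside the copy of `PSL₄(3)`
-/

set_option autoImplicit false
set_option linter.unusedSectionVars false
set_option linter.style.haveILetI false
set_option maxRecDepth 100000

namespace Cfsg.Agent.Spor.PSLFourThree

open Matrix JCase

namespace ZStrong

/-- An upper unitriangular matrix. -/
def uM (p : ZMod 3 × ZMod 3 × ZMod 3 × ZMod 3 × ZMod 3 × ZMod 3) : M4 :=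
  !![1, p.1, p.2.1, p.2.2.1; 0, 1, p.2.2.2.1, p.2.2.2.2.1; 0, 0, 1, p.2.2.2.2.2; 0, 0, 0, 1]

theorem det_uM : ∀ p, (uM p).det = 1 := by
  intro p
  obtain ⟨a, b, c, d, e, f⟩ := p
  rw [Matrix.det_of_upperTriangular]
  · simp [uM, Fin.prod_univ_four]
  · intro i j hij
    change j < i at hij
    fin_cases i <;> fin_cases j <;> simp [uM] at hij ⊢

/-- The product of two parameters. -/
def um (p q : ZMod 3 × ZMod 3 × ZMod 3 × ZMod 3 × ZMod 3 × ZMod 3) :
    ZMod 3 × ZMod 3 × ZMod 3 × ZMod 3 × ZMod 3 × ZMod 3 :=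
  (p.1 + q.1, p.2.1 + q.2.1 + p.1 * q.2.2.2.1,
    p.2.2.1 + q.2.2.1 + p.1 * q.2.2.2.2.1 + p.2.1 * q.2.2.2.2.2,
    p.2.2.2.1 + q.2.2.2.1, p.2.2.2.2.1 + q.2.2.2.2.1 + p.2.2.2.1 * q.2.2.2.2.2, p.2.2.2.2.2 + q.2.2.2.2.2)

/-- The inverse parameter. -/
def ui (p : ZMod 3 × ZMod 3 × ZMod 3 × ZMod 3 × ZMod 3 × ZMod 3) :
    ZMod 3 × ZMod 3 × ZMod 3 × ZMod 3 × ZMod 3 × ZMod 3 :=
  let a := p.1
  let b := p.2.1
  let c := p.2.2.1
  let d := p.2.2.2.1
  let e := p.2.2.2.2.1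
  let f := p.2.2.2.2.2
  (-a, -b + a * d, -c + a * e + b * f - a * d * f, -d, -e + d * f, -f)

theorem uM_mul (p q : ZMod 3 × ZMod 3 × ZMod 3 × ZMod 3 × ZMod 3 × ZMod 3) : uM p * uM q = uM (um p q) := by
  ext i j
  fin_cases i <;> fin_cases j <;> simp [uM, um, Matrix.mul_apply, Fin.sum_univ_four] <;> ring

theorem ui_spec : ∀ p, uM (ui p) * uM p = 1 := by decide +kernel

theorem uM_one : uM 0 = 1 := by decide +kernel

/-- The unitriangular group. -/
def U : Subgroup SLF where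
  carrier := {g | ∃ p, (g : M4) = uM p}
  one_mem' := ⟨0, by rw [Matrix.SpecialLinearGroup.coe_one, uM_one]⟩
  mul_mem' := by
    rintro g h ⟨p, hp⟩ ⟨q, hq⟩
    exact ⟨um p q, by rw [Matrix.SpecialLinearGroup.coe_mul, hp, hq, uM_mul]⟩
  inv_mem' := by
    rintro g ⟨p, hp⟩
    refine ⟨ui p, ?_⟩
    have h : (g⁻¹ : SLF) = ⟨uM (ui p), det_uM _⟩ := inv_eq_of_mul_eq_one_left (Subtype.ext (by
      show uM (ui p) * (g : M4) = 1
      rw [hp]
      exact ui_spec p))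
    rw [h]

theorem uM_inj : Function.Injective uM := fun p q h => by
  have e := fun i j => congrFun (congrFun h i) j
  obtain ⟨a, b, c, d, x, y⟩ := p
  obtain ⟨a', b', c', d', x', y'⟩ := q
  have e1 := e 0 1; have e2 := e 0 2; have e3 := e 0 3; have e4 := e 1 2; have e5 := e 1 3; have e6 := e 2 3
  simp [uM] at e1 e2 e3 e4 e5 e6
  rw [e1, e2, e3, e4, e5, e6]

theorem uM_ne_neg : ∀ p q, uM p ≠ -uM q := fun p q h => by
  have e := congrFun (congrFun h 0) 0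
  simp [uM] at e
  exact absurd e (by decide)

theorem card_U : Nat.card (U.map pr) = 729 := by
  let e : (ZMod 3 × ZMod 3 × ZMod 3 × ZMod 3 × ZMod 3 × ZMod 3) → (U.map pr : Subgroup PSLF) :=
    fun p => ⟨pr ⟨uM p, det_uM p⟩, ⟨⟨uM p, det_uM p⟩, ⟨p, rfl⟩, rfl⟩⟩
  have hb : Function.Bijective e := by
    refine ⟨fun p q h => ?_, ?_⟩
    · have h' := pr_eq_iff.1 (congrArg Subtype.val h)
      rcases h' with h' | h'
      · exact uM_inj h'
      · exact absurd h' (uM_ne_neg p q)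
    · rintro ⟨_, g, ⟨p, hp⟩, rfl⟩
      exact ⟨p, Subtype.ext (congrArg pr (Subtype.ext hp.symm))⟩
  rw [← Nat.card_congr (Equiv.ofBijective e hb)]
  simp [Nat.card_eq_fintype_card]

/-- The Heisenberg pattern. -/
def InH (m : M4) : Prop :=
  m 1 0 = 0 ∧ m 2 0 = 0 ∧ m 3 0 = 0 ∧ m 2 1 = 0 ∧ m 3 1 = 0 ∧ m 3 2 = 0 ∧ m 1 2 = 0 ∧
    m 0 0 = 1 ∧ m 1 1 = 1 ∧ m 2 2 = 1 ∧ m 3 3 = 1

instance : DecidablePred InH := fun m => inferInstanceAs (Decidable (_ ∧ _))

/-- Representatives. -/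
def wr : Fin 7 → M4 :=
  ![1, !![-1, 0, 0, 0; 0, 1, 0, 0; 0, 0, 0, 1; 0, 0, 1, 0],
    !![1, 0, 0, 0; 0, 1, 0, 0; 0, 0, 1, 0; 0, 0, 1, 1],
    !![1, 0, 0, 0; 0, 1, 0, 0; 0, 0, 1, 0; 0, 0, -1, 1],
    !![0, 1, 0, 0; -1, 0, 0, 0; 0, 0, 1, 0; 0, 0, 0, 1],
    !![1, 0, 0, 0; 1, 1, 0, 0; 0, 0, 1, 0; 0, 0, 0, 1],
    !![1, 0, 0, 0; -1, 1, 0, 0; 0, 0, 1, 0; 0, 0, 0, 1]]

/-- Their inverses. -/
def wi : Fin 7 → M4 :=
  ![1, !![-1, 0, 0, 0; 0, 1, 0, 0; 0, 0, 0, 1; 0, 0, 1, 0],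
    !![1, 0, 0, 0; 0, 1, 0, 0; 0, 0, 1, 0; 0, 0, -1, 1],
    !![1, 0, 0, 0; 0, 1, 0, 0; 0, 0, 1, 0; 0, 0, 1, 1],
    !![0, -1, 0, 0; 1, 0, 0, 0; 0, 0, 1, 0; 0, 0, 0, 1],
    !![1, 0, 0, 0; -1, 1, 0, 0; 0, 0, 1, 0; 0, 0, 0, 1],
    !![1, 0, 0, 0; 1, 1, 0, 0; 0, 0, 1, 0; 0, 0, 0, 1]]

theorem wr_spec : ∀ r, (wr r).det = 1 ∧ wr r * wi r = 1 := by decide +kernel

theorem uM_cases : ∀ p, uM p * uM p * uM p ≠ -1 ∧
    (uM p * uM p * uM p = 1 → ∃ r, InH (wr r * uM p * wi r)) := by decide +kernel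

/-- The transvection `1 + e₀₃`. -/
def tMat : SLF := ⟨!![1, 0, 0, 1; 0, 1, 0, 0; 0, 0, 1, 0; 0, 0, 0, 1], by decide +kernel⟩

/-- An element carrying the first transvection to the third. -/
def kMat : SLF := ⟨!![1, 0, 0, 0; 0, 0, 0, -1; 0, 0, 1, 0; 0, 1, 0, 0], by decide +kernel⟩

theorem kMat_spec : kMat * zMat * kMat⁻¹ = tMat ∨ kMat * zMat⁻¹ * kMat⁻¹ = tMat := by decide +kernel

theorem trace_tMat : (tMat : M4).trace = 1 := by decide +kernel

/-- Elements commuting with the transvection. -/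
theorem cent_shape {g : M4} (h : g * (tMat : M4) = (tMat : M4) * g) :
    g 1 0 = 0 ∧ g 2 0 = 0 ∧ g 3 0 = 0 ∧ g 3 1 = 0 ∧ g 3 2 = 0 ∧ g 3 3 = g 0 0 := by
  have e03 := congrFun (congrFun h 0) 3
  have e13 := congrFun (congrFun h 1) 3
  have e23 := congrFun (congrFun h 2) 3
  have e33 := congrFun (congrFun h 3) 3
  have e01 := congrFun (congrFun h 0) 1
  have e02 := congrFun (congrFun h 0) 2
  simp [tMat, Matrix.mul_apply, Matrix.vecMul, dotProduct, Fin.sum_univ_four] at e03 e13 e23 e33 e01 e02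
  exact ⟨e13, e23, e33, e01, e02, by linear_combination (-1 : ZMod 3) * e03⟩

theorem mul_shape {g g' n : M4} (hg : g * (tMat : M4) = (tMat : M4) * g)
    (hg' : g' * (tMat : M4) = (tMat : M4) * g') (hgg : g * g' = 1) (hn : InH n) : InH (g * n * g') := by
  obtain ⟨a1, a2, a3, a4, a5, a6⟩ := cent_shape hg
  obtain ⟨b1, b2, b3, b4, b5, b6⟩ := cent_shape hg'
  obtain ⟨n1, n2, n3, n4, n5, n6, n7, d0, d1, d2, d3⟩ := hn
  have e := fun i j => congrFun (congrFun hgg i) j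
  have i00 := e 0 0; have i11 := e 1 1; have i22 := e 2 2; have i33 := e 3 3
  have i12 := e 1 2; have i21 := e 2 1
  simp [Matrix.mul_apply, Fin.sum_univ_four, a1, a2, a3, a4, a5, b1, b2, b3, b4, b5] at i00 i11 i22 i33 i12 i21
  refine ⟨?_, ?_, ?_, ?_, ?_, ?_, ?_, ?_, ?_, ?_, ?_⟩ <;>
    simp [Matrix.mul_apply, Fin.sum_univ_four, a1, a2, a3, a4, a5, b1, b2, b3, b4, b5,
      n1, n2, n3, n4, n5, n6, n7, d0, d1, d2, d3] <;>
    assumption

theorem InH_mul {m n : M4} (hm : InH m) (hn : InH n) : InH (m * n) := by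
  obtain ⟨m1, m2, m3, m4, m5, m6, m7, c0, c1, c2, c3⟩ := hm
  obtain ⟨n1, n2, n3, n4, n5, n6, n7, d0, d1, d2, d3⟩ := hn
  refine ⟨?_, ?_, ?_, ?_, ?_, ?_, ?_, ?_, ?_, ?_, ?_⟩ <;>
    simp [Matrix.mul_apply, Fin.sum_univ_four, m1, m2, m3, m4, m5, m6, m7, c0, c1, c2, c3,
      n1, n2, n3, n4, n5, n6, n7, d0, d1, d2, d3]

theorem InH_uM {m : M4} (hm : InH m) : ∃ p, m = uM p := by
  obtain ⟨n1, n2, n3, n4, n5, n6, n7, d0, d1, d2, d3⟩ := hm
  refine ⟨(m 0 1, m 0 2, m 0 3, 0, m 1 3, m 2 3), ?_⟩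
  ext i j
  fin_cases i <;> fin_cases j <;> simp [uM, n1, n2, n3, n4, n5, n6, n7, d0, d1, d2, d3]

/-- The Heisenberg subgroup. -/
def HS : Subgroup SLF where
  carrier := {g | InH (g : M4)}
  one_mem' := by show InH ((1 : SLF) : M4); decide +kernel
  mul_mem' := fun ha hb => by
    simp only [Set.mem_setOf_eq, Matrix.SpecialLinearGroup.coe_mul] at *
    exact InH_mul ha hb
  inv_mem' := by
    intro g hg
    simp only [Set.mem_setOf_eq] at *
    obtain ⟨p, hp⟩ := InH_uM hg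
    have h : (g⁻¹ : SLF) = ⟨uM (ui p), det_uM _⟩ := inv_eq_of_mul_eq_one_left (Subtype.ext (by
      show uM (ui p) * (g : M4) = 1
      rw [hp]
      exact ui_spec p))
    rw [h]
    obtain ⟨n1, n2, n3, n4, n5, n6, n7, d0, d1, d2, d3⟩ := hp ▸ hg
    simp [uM] at n7
    show InH (uM (ui p))
    simp [InH, uM, ui, n7]

theorem one_ne_neg : (1 : ZMod 3) ≠ -1 := by decide

theorem sl2_core : ∀ a : Matrix.SpecialLinearGroup (Fin 2) (ZMod 3), a * a * a = 1 → a ≠ 1 →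
    ∃ b, (b * a * b⁻¹ * a) ^ 3 ≠ 1 ∨ (b * a * b⁻¹ * a * a) ^ 3 ≠ 1 := by decide +kernel

end ZStrong

open ZStrong in
/-- The transvection moves only inside the image. -/
theorem z_strong {G : Type*} [Group G] [Finite G] (f : PSLF →* G) (hf : Function.Injective f) (T : Loc G)
    (ht : f (pr tMat) = T.z) (hC : T.toPre.C ≤ f.range)
    (hQ : ∀ y : G, y * T.z * y⁻¹ ∈ T.Q → ∃ n ∈ f.range, n * T.z * n⁻¹ = y * T.z * y⁻¹) :
    ∀ g : G, g * f zP * g⁻¹ ∈ f.range → g ∈ f.range := by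
  haveI : Fact (Nat.Prime 3) := ⟨Nat.prime_three⟩
  have hUp : IsPGroup 3 (U.map pr) := IsPGroup.of_card (n := 6) (by rw [card_U]; norm_num)
  obtain ⟨P, hP⟩ := hUp.exists_le_sylow
  have hPU : (P : Subgroup PSLF) = U.map pr := by
    refine (Subgroup.eq_of_le_of_card_ge hP ?_).symm
    rw [card_U, ← Subgroup.card_map_of_injective hf]
    exact T.sylow _ (P.2.map f)
  -- the Heisenberg subgroup is inside `Q`
  have hHQ : ∀ h ∈ HS, f (pr h) ∈ T.Q := by
    intro h hh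
    set K : Subgroup T.toPre.C := ((HS.map pr).map f).subgroupOf T.toPre.C with hK
    have hmemC : ∀ u ∈ HS, f (pr u) ∈ T.toPre.C := fun u hu => by
      rw [T.toPre.mem_C, ← ht, ← map_mul f, ← map_mul f, ← map_mul pr, ← map_mul pr]
      obtain ⟨n1, n2, n3, n4, n5, n6, n7, d0, d1, d2, d3⟩ := (show InH (u : M4) from hu)
      refine congrArg f (congrArg pr (Subtype.ext ?_))
      rw [Matrix.SpecialLinearGroup.coe_mul, Matrix.SpecialLinearGroup.coe_mul]
      ext i j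
      fin_cases i <;> fin_cases j <;>
        simp [tMat, Matrix.mul_apply, Matrix.vecMul, dotProduct, Fin.sum_univ_four, n1, n2, n3, n4, n5, n6, n7,
          d0, d1, d2, d3, add_comm]
    haveI hKn : K.Normal := ⟨fun u hu c => by
      obtain ⟨_, ⟨v, hv, rfl⟩, hvu⟩ := hu
      obtain ⟨y, hy⟩ := hC c.2
      obtain ⟨g, rfl⟩ := QuotientGroup.mk'_surjective (Subgroup.center SLF) y
      change f (pr g) = (c : G) at hy
      have hgt : pr g * pr tMat = pr tMat * pr g := hf (by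
        rw [map_mul, map_mul, hy, ht]; exact T.toPre.mem_C.1 c.2)
      rw [← map_mul, ← map_mul, pr_eq_iff, Matrix.SpecialLinearGroup.coe_mul,
        Matrix.SpecialLinearGroup.coe_mul] at hgt
      have hg1 : (g : M4) * (tMat : M4) = (tMat : M4) * g := by
        refine hgt.resolve_right fun e => ?_
        have h1 : (g : M4) * (tMat : M4) * ((g⁻¹ : SLF) : M4) = -(tMat : M4) := by
          rw [e, neg_mul, mul_assoc, ← Matrix.SpecialLinearGroup.coe_mul, mul_inv_cancel,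
            Matrix.SpecialLinearGroup.coe_one, mul_one]
        have h2 := congrArg Matrix.trace h1
        rw [Matrix.trace_mul_cycle, ← Matrix.SpecialLinearGroup.coe_mul, inv_mul_cancel,
          Matrix.SpecialLinearGroup.coe_one, one_mul, Matrix.trace_neg, trace_tMat] at h2
        exact one_ne_neg h2
      have hginv : g⁻¹ * tMat = tMat * g⁻¹ := by
        have hgT : g * tMat = tMat * g := Subtype.ext hg1
        exact (show Commute g tMat from hgT).inv_left.eq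
      refine Subgroup.mem_subgroupOf.2 ⟨pr (g * v * g⁻¹), ⟨g * v * g⁻¹, ?_, rfl⟩, ?_⟩
      · show InH ((g * v * g⁻¹ : SLF) : M4)
        rw [Matrix.SpecialLinearGroup.coe_mul, Matrix.SpecialLinearGroup.coe_mul]
        refine mul_shape hg1 ?_ ?_ hv
        · rw [← Matrix.SpecialLinearGroup.coe_mul, hginv, Matrix.SpecialLinearGroup.coe_mul]
        · rw [← Matrix.SpecialLinearGroup.coe_mul, mul_inv_cancel, Matrix.SpecialLinearGroup.coe_one]
      · simp only [map_mul, map_inv, hy]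
        rw [hvu]
        rfl⟩
    have hKp : IsPGroup 3 K := by
      have h1 : HS ≤ U := fun u hu => InH_uM hu
      exact ((hUp.to_le (Subgroup.map_mono h1)).map f).comap_of_injective _ (Subgroup.subtype_injective _)
    set u : T.toPre.C := ⟨f (pr h), hmemC h hh⟩ with hu
    have huK : u ∈ K := Subgroup.mem_subgroupOf.2 ⟨_, ⟨h, hh, rfl⟩, rfl⟩
    refine (T.ρker u).1 ?_
    by_contra hne
    set S := K.map T.ρ with hS
    haveI hSn : S.Normal := hKn.map _ T.ρsurj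
    have hS3 : ∀ a ∈ S, a ^ 3 = 1 := by
      intro a ha
      obtain ⟨k, hk⟩ := (hKp.map T.ρ) ⟨a, ha⟩
      have h1 : a ^ 3 ^ k = 1 := congrArg Subtype.val hk
      have h24 : a ^ 24 = 1 := by
        have := pow_card_eq_one' (x := a)
        rwa [card_sl2] at this
      refine orderOf_dvd_iff_pow_eq_one.1 ((Nat.dvd_gcd (orderOf_dvd_of_pow_eq_one h1)
        (orderOf_dvd_of_pow_eq_one h24)).trans ?_)
      rcases Nat.eq_zero_or_pos k with rfl | hk0
      · simp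
      · obtain ⟨j, rfl⟩ : ∃ j, k = j + 1 := ⟨k - 1, by omega⟩
        rw [pow_succ', show 24 = 3 * 8 from rfl, Nat.gcd_mul_left,
          Nat.Coprime.gcd_eq_one (Nat.Coprime.pow_left _ (by norm_num))]
    have ha : T.ρ u ∈ S := ⟨u, huK, rfl⟩
    obtain ⟨b, hb | hb⟩ := sl2_core (T.ρ u) (by rw [← pow_two, ← pow_succ]; exact hS3 _ ha) hne
    · exact hb (hS3 _ (S.mul_mem (hSn.conj_mem _ ha b) ha))
    · exact hb (hS3 _ (S.mul_mem (S.mul_mem (hSn.conj_mem _ ha b) ha) ha))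
  -- conjugates of `z` in the image come from it
  have main : ∀ g : G, g * T.z * g⁻¹ ∈ f.range → g ∈ f.range := by
    rintro g ⟨x, hx⟩
    have hx3 : x ^ 3 = 1 := hf (by
      rw [map_pow, hx, conj_pow, T.toPre.z_cube, mul_one, mul_inv_cancel, map_one])
    obtain ⟨R, hR⟩ := (IsPGroup.of_card_dvd_pow (G := Subgroup.zpowers x) (p := 3) (n := 1)
      (by rw [Nat.card_zpowers, pow_one]; exact orderOf_dvd_of_pow_eq_one hx3)).exists_le_sylow
    obtain ⟨c, hc⟩ := MulAction.exists_smul_eq PSLF R P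
    have hcx : c * x * c⁻¹ ∈ U.map pr := by
      rw [← hPU, ← hc, Sylow.coe_subgroup_smul]
      exact ⟨x, hR (Subgroup.mem_zpowers x), rfl⟩
    obtain ⟨u, ⟨p, hp⟩, hux⟩ := hcx
    have hu3 : pr (u * u * u) = 1 := by
      rw [map_mul, map_mul, hux, ← pow_two, ← pow_succ, conj_pow, hx3, mul_one, mul_inv_cancel]
    rw [show (1 : PSLF) = pr 1 from (map_one pr).symm, pr_eq_iff, Matrix.SpecialLinearGroup.coe_mul,
      Matrix.SpecialLinearGroup.coe_mul, hp, Matrix.SpecialLinearGroup.coe_one] at hu3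
    obtain ⟨r, hr⟩ := (uM_cases p).2 (hu3.resolve_right (uM_cases p).1)
    set w : SLF := ⟨wr r, (wr_spec r).1⟩ with hw
    have hwi : ((w⁻¹ : SLF) : M4) = wi r := by
      have h1 : (w : M4) * wi r = 1 := (wr_spec r).2
      calc ((w⁻¹ : SLF) : M4) = ((w⁻¹ : SLF) : M4) * ((w : M4) * wi r) := by rw [h1, mul_one]
        _ = wi r := by rw [← mul_assoc, ← Matrix.SpecialLinearGroup.coe_mul, inv_mul_cancel,
          Matrix.SpecialLinearGroup.coe_one, one_mul]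
    have hmem : w * u * w⁻¹ ∈ HS := by
      show InH ((w * u * w⁻¹ : SLF) : M4)
      rw [Matrix.SpecialLinearGroup.coe_mul, Matrix.SpecialLinearGroup.coe_mul, hwi, hp]
      exact hr
    set b := f (pr w * c) with hb
    have hy : b * g * T.z * (b * g)⁻¹ = f (pr (w * u * w⁻¹)) := by
      calc b * g * T.z * (b * g)⁻¹ = b * (g * T.z * g⁻¹) * b⁻¹ := by group
        _ = _ := by
          rw [← hx, hb, ← map_inv, ← map_mul, ← map_mul, map_mul pr, map_mul pr, map_inv, hux]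
          congr 1
          group
    obtain ⟨n, hn, hnz⟩ := hQ (b * g) (by rw [hy]; exact hHQ _ hmem)
    have h1 : n⁻¹ * (b * g) ∈ T.toPre.C := by
      rw [T.toPre.mem_C]
      calc n⁻¹ * (b * g) * T.z = n⁻¹ * (b * g * T.z * (b * g)⁻¹) * (b * g) := by group
        _ = _ := by rw [← hnz]; group
    have h2 := f.range.mul_mem hn (hC h1)
    rw [mul_inv_cancel_left] at h2
    exact (Subgroup.mul_mem_cancel_left f.range ⟨_, rfl⟩).1 h2
  intro g hg
  have hkr : f (pr kMat) ∈ f.range := ⟨_, rfl⟩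
  have h : g * (f (pr kMat))⁻¹ ∈ f.range := by
    refine main _ ?_
    rw [← ht]
    rcases kMat_spec with e | e <;> rw [← e]
    · convert hg using 1
      rw [zP, map_mul, map_mul, map_inv, map_mul, map_mul, map_inv]
      group
    · convert f.range.inv_mem hg using 1
      rw [zP, map_mul, map_mul, map_inv, map_inv, map_mul, map_mul, map_inv, map_inv]
      group
  simpa using f.range.mul_mem h hkr

end Cfsg.Agent.Spor.PSLFourThree
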