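import Cfsg.Agent.Lib.Spor.PSLFourThree.Build
import Cfsg.Agent.Lib.Spor.PSLFourThree.LocSide
import Cfsg.Agent.Lib.Spor.PSLFourThree.ZStrong

/-!
# Two natural subgroups with conjugates give a strong copy of `PSL₄(3)`
-/

set_option autoImplicit false
set_option linter.unusedSectionVars false

namespace Cfsg.Agent.Spor.PSLFourThree

open Matrix

variable {G : Type*} [Group G] [Finite G] (T : Loc G)

/-- The data of one natural subgroup containing a conjugate. -/
theorem exists_side {D : Subgroup G} (hD : T.IsNatural D) {g : G} (hg : T.IsPair g) (hy : g * T.z * g⁻¹ ∈ D) :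
    ∃ S : Side G, S.A = D ∧ S.M = Subgroup.normalizer (D : Set G) ∧
      ∀ x ∈ D, x ≠ 1 → ∃ n ∈ S.M, n * T.z * n⁻¹ = x := by
  obtain ⟨e, π, hπ, hker, hact, htrans⟩ := T.side hD hg hy
  refine ⟨{ A := D
            M := Subgroup.normalizer (D : Set G)
            e := D.subtype.comp e.toMonoidHom
            e_inj := D.subtype_injective.comp e.injective
            e_range := ?_
            le := Subgroup.le_normalizer
            π := π
            surj := hπ
            ker := fun n => ?_
            act := fun n v => hact n v }, rfl, rfl, htrans⟩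
  · ext x
    constructor
    · rintro ⟨v, rfl⟩; exact (e v).2
    · intro hx; exact ⟨e.symm ⟨x, hx⟩, by simp⟩
  · rw [← MonoidHom.mem_ker, hker]
    exact Subgroup.mem_subgroupOf

/-- The two natural subgroups with conjugates outside the centre give a strong copy. -/
theorem exists_copy {D D' : Subgroup G} (hD : T.IsNatural D) (hD' : T.IsNatural D')
    (hmeet : D ⊓ D' = T.toPre.Z) (hall : ∀ N, T.IsNatural N → N = D ∨ N = D')
    {g : G} (hg : T.IsPair g) (hy : g * T.z * g⁻¹ ∈ D)
    {g' : G} (hg' : T.IsPair g') (hy' : g' * T.z * g'⁻¹ ∈ D') :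
    ∃ f : PSLF →* G, Function.Injective f ∧ ∀ a : G, a * f zP * a⁻¹ ∈ f.range → a ∈ f.range := by
  obtain ⟨L, hLA, hLM, hLt⟩ := exists_side T hD hg hy
  obtain ⟨R, hRA, hRM, hRt⟩ := exists_side T hD' hg' hy'
  let P : Para G :=
    { L := L
      R := R
      z := T.z
      z_order := T.hz
      meet := by rw [hLA, hRA, hmeet]; rfl
      CL := by rw [hLM]; exact hD.norm
      CR := by rw [hRM]; exact hD'.norm
      syl := fun Q hQ => (T.sylow Q hQ).trans (by norm_num) }
  obtain ⟨f, hf, hr, hfz⟩ := P.exists_hom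
  have hC : T.toPre.C ≤ f.range := by
    rw [hr]
    exact le_trans (le_of_le_of_eq hD.norm hLM.symm) le_sup_left
  have ht : f (pr ZStrong.tMat) = T.z := by
    rw [show ZStrong.tMat = Matrix.SpecialLinearGroup.transvection (show (0 : Fin 4) ≠ 3 by decide) (1 : ZMod 3) by
      decide +kernel]
    exact hfz
  refine ⟨f, hf, z_strong f hf T ht hC fun y hy0 => ?_⟩
  have hne : y * T.z * y⁻¹ ≠ 1 := fun h => T.toPre.z_ne (conj_eq_one_iff.1 h)
  rcases T.conj_mem_natural hD hall hy0 with h | h
  · obtain ⟨n, hn, e⟩ := hLt _ h hne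
    exact ⟨n, hr ▸ Subgroup.mem_sup_left hn, e⟩
  · obtain ⟨n, hn, e⟩ := hRt _ h hne
    exact ⟨n, hr ▸ Subgroup.mem_sup_right hn, e⟩

end Cfsg.Agent.Spor.PSLFourThree
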