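import Cfsg.Agent.Lib.Spor.PSLFourThree.LocSide

/-!
The parabolic alternative: all conjugates of `z` in `Q` lie in the natural subgroup `N`.  Then `z^G ∩ N(N) ⊆ N`,
and if `N(N)` contains its involution centralisers it is the whole group.
-/

set_option autoImplicit false
set_option linter.unusedSectionVars false
set_option maxHeartbeats 800000

namespace Cfsg.Agent.Spor.PSLFourThree

open scoped Matrix Pointwise

local notation "SL2" => Matrix.SpecialLinearGroup (Fin 2) (ZMod 3)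

theorem sl2_unique_involution : ∀ x : SL2, x * x = 1 → x = 1 ∨ x = -1 := by decide +kernel

theorem diff_cube {M : Type*} [CommGroup M] (φ : M →* M) (hφ : ∀ u, φ (φ (φ u)) = u) (hexp : ∀ u : M, u ^ 3 = 1)
    (u : M) : φ (φ (φ u * u⁻¹) * (φ u * u⁻¹)⁻¹) * (φ (φ u * u⁻¹) * (φ u * u⁻¹)⁻¹)⁻¹ = 1 := by
  simp only [map_mul, map_inv, hφ]
  calc _ = (u * u⁻¹) * ((φ u) ^ 3 * ((φ (φ u)) ^ 3)⁻¹) := by
        simp only [pow_succ, pow_zero, one_mul, mul_inv_rev, inv_inv]
        simp only [mul_comm, mul_left_comm, mul_assoc]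
    _ = 1 := by rw [hexp, hexp, mul_inv_cancel, inv_one, one_mul, one_mul]

theorem no_nine_in_sl2 (H : Subgroup SL2) (h : Nat.card H = 9) : False := by
  have h2 : Nat.card H ∣ 24 := card_sl2_side ▸ Subgroup.card_subgroup_dvd_card H
  rw [h] at h2
  norm_num at h2

namespace Loc

variable {G : Type*} [Group G] [Finite G] (T : Loc G)

/-- Every element of order three of `C/Q` has fixed space of order nine on `Q/Z`, equal to its commutator. -/
theorem quadratic {g : G} (hg : T.IsPair g) {X : SL2} (hX3 : X ^ 3 = 1) (hX1 : X ≠ 1) (δ : T.V →* T.V)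
    (hδ : ∀ u, δ u = T.act X u * u⁻¹) : Nat.card δ.ker = 9 ∧ δ.range ≤ δ.ker := by
  classical
  haveI : Fact (Nat.Prime 3) := ⟨Nat.prime_three⟩
  obtain ⟨D, D', hD, hD', hcap, hsup, -, -, -⟩ := T.exists_naturals hg
  have hmm : ∀ (g h : SL2) w, T.act (g * h) w = T.act g (T.act h w) := fun g h w => by rw [map_mul]; rfl
  have h3 : ∀ u, δ (δ (δ u)) = 1 := fun u => by
    have e0 : ∀ u, (T.act X).toMonoidHom ((T.act X).toMonoidHom ((T.act X).toMonoidHom u)) = u := fun u => by
      show T.act X (T.act X (T.act X u)) = u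
      rw [← hmm, ← hmm, ← pow_two, ← pow_succ, hX3, map_one]; rfl
    have e := diff_cube (T.act X).toMonoidHom e0 T.V_cube u
    simp only [hδ]
    exact e
  have part : ∀ N, T.IsNatural N →
      Nat.card (δ.ker ⊓ T.img N : Subgroup T.V) = 3 ∧ ∀ u ∈ T.img N, δ u ∈ T.img N ∧ δ (δ u) = 1 := by
    intro N hN
    have h9 := IsNatural.card_img T hN
    have hmem : ∀ u ∈ T.img N, δ u ∈ T.img N := fun u hu => by
      rw [hδ]; exact mul_mem (IsNatural.act_mem T hN X u hu) (inv_mem hu)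
    let η : T.img N →* T.img N := (δ.comp (T.img N).subtype).codRestrict _ fun u => hmem u u.2
    have hηv : ∀ u, ((η u : T.img N) : T.V) = δ u := fun u => rfl
    obtain ⟨u₀, hu₀⟩ : ∃ u : T.img N, η u ≠ 1 := by
      by_contra hcon
      push Not at hcon
      have hfix : ∀ u ∈ T.img N, T.act X u = u := fun u hu => by
        have := congrArg Subtype.val (hcon ⟨u, hu⟩)
        rw [hηv, hδ] at this
        exact mul_inv_eq_one.1 this
      let K : Subgroup SL2 :=
        { carrier := {γ | ∀ w ∈ T.img N, T.act γ w = w}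
          one_mem' := fun w _ => by rw [map_one]; rfl
          mul_mem' := fun {a b} ha hb w hw => by rw [hmm, hb w hw, ha w hw]
          inv_mem' := fun {a} ha w hw => by
            conv_lhs => rw [← ha w hw]
            rw [← hmm, inv_mul_cancel, map_one]; rfl }
      have hKn : ∀ γ x, x ∈ K → γ * x * γ⁻¹ ∈ K := fun γ x hx w hw => by
        rw [hmm, hmm, hx _ (IsNatural.act_mem T hN γ⁻¹ w hw), ← hmm, mul_inv_cancel, map_one]; rfl
      have hneg : (-1 : SL2) ∉ K := by
        intro h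
        have hsub : T.img N ≤ ⊥ := fun w hw => by
          have e := h w hw
          rw [T.inverts w] at e
          have h2 : w * w = 1 := by
            conv_lhs => lhs; rw [← e]
            exact inv_mul_cancel w
          have h3 := T.V_cube w
          rw [pow_succ, pow_two, h2, one_mul] at h3
          exact h3
        have := Subgroup.card_le_of_le hsub
        rw [h9, Subgroup.card_bot] at this
        omega
      have hXK : X ∈ K := hfix
      obtain ⟨γ, h | h | h | h⟩ := normal_avoids_center _ hX1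
      · exact hneg (h ▸ hXK)
      · exact hneg (h ▸ mul_mem hXK hXK)
      · exact hneg (h ▸ mul_mem (mul_mem hXK hXK) hXK)
      · have := mul_mem (inv_mem hXK) (hKn γ _ hXK)
        exact hneg (h ▸ mul_mem this this)
    have hηb : η.ker ≠ ⊥ := fun h => by
      have inj := (MonoidHom.ker_eq_bot_iff η).1 h
      refine hu₀ ((congrArg η (inj (inj (inj ?_)))).trans (map_one η) : η u₀ = 1)
      rw [map_one, map_one, map_one]
      exact Subtype.ext (h3 u₀)
    have hηt : η.ker ≠ ⊤ := fun h => hu₀ (MonoidHom.mem_ker.1 (h ▸ Subgroup.mem_top u₀))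
    have hk3 : Nat.card η.ker = 3 := by
      have hdvd : Nat.card η.ker ∣ 3 ^ 2 := by
        rw [show (3 : ℕ) ^ 2 = 9 from rfl, ← h9]
        exact Subgroup.card_subgroup_dvd_card _
      obtain ⟨k, hk, hk'⟩ := (Nat.dvd_prime_pow Nat.prime_three).1 hdvd
      interval_cases k
      · exact absurd (Subgroup.eq_bot_of_card_eq _ hk') hηb
      · exact hk'
      · exact absurd (Subgroup.eq_top_of_card_eq _ (by rw [hk', h9]; norm_num)) hηt
    have hr3 : Nat.card η.range = 3 := by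
      have h := η.ker.card_eq_card_quotient_mul_card_subgroup
      rw [h9, Nat.card_congr (QuotientGroup.quotientKerEquivRange η).toEquiv, hk3] at h
      omega
    refine ⟨?_, fun u hu => ⟨hmem u hu, ?_⟩⟩
    · have e : η.ker.map (T.img N).subtype = δ.ker ⊓ T.img N := by
        ext w
        constructor
        · rintro ⟨v, hv, rfl⟩
          exact Subgroup.mem_inf.2 ⟨MonoidHom.mem_ker.2 (congrArg Subtype.val (MonoidHom.mem_ker.1 hv)), v.2⟩
        · intro hw
          obtain ⟨h1, h2⟩ := Subgroup.mem_inf.1 hw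
          exact ⟨⟨w, h2⟩, MonoidHom.mem_ker.2 (Subtype.ext (MonoidHom.mem_ker.1 h1)), rfl⟩
      rw [← e, Subgroup.card_map_of_injective (T.img N).subtype_injective, hk3]
    · by_contra hne
      have hu1 : η ⟨u, hu⟩ ≠ 1 := fun h => hne (by
        rw [show δ u = 1 from congrArg Subtype.val h, map_one])
      have hgen := zpowers_eq_top_of_prime_card hr3 (g := (⟨η ⟨u, hu⟩, _, rfl⟩ : η.range))
        (fun h => hu1 (congrArg Subtype.val h))
      obtain ⟨k, hk⟩ : (⟨η (η ⟨u, hu⟩), _, rfl⟩ : η.range) ∈ Subgroup.zpowers _ := hgen.symm ▸ Subgroup.mem_top _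
      have e := congrArg Subtype.val hk
      push_cast at e
      have h33 : η (η (η ⟨u, hu⟩)) = 1 := Subtype.ext (h3 u)
      rw [← e, map_zpow, ← e, ← zpow_mul] at h33
      have hord : orderOf (η ⟨u, hu⟩) = 3 :=
        orderOf_eq_prime (Subtype.ext (by simpa using T.V_cube _)) hu1
      rw [← orderOf_dvd_iff_zpow_eq_one, hord] at h33
      have h3k : (3 : ℤ) ∣ k := (Int.Prime.dvd_mul' Nat.prime_three (by simpa using h33)).elim id id
      apply hne
      have e2 : ((η (η ⟨u, hu⟩) : T.img N) : T.V) = 1 := by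
        rw [← e, orderOf_dvd_iff_zpow_eq_one.1 (hord ▸ h3k)]; rfl
      exact e2
  have hle : T.img D ⊔ T.img D' = ⊤ := by
    refine eq_top_iff.2 fun w _ => ?_
    obtain ⟨x, rfl⟩ := T.bar_surj w
    have hd : D ≤ T.pre (T.img D ⊔ T.img D') := fun a ha => (T.mem_pre ⟨a, hD.le_Q ha⟩).2
      (Subgroup.mem_sup_left ((T.bar_mem_img hD.z_mem _).2 ha))
    have hd' : D' ≤ T.pre (T.img D ⊔ T.img D') := fun a ha => (T.mem_pre ⟨a, hD'.le_Q ha⟩).2
      (Subgroup.mem_sup_right ((T.bar_mem_img hD'.z_mem _).2 ha))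
    exact (T.mem_pre x).1 ((sup_le hd hd') (hsup.symm ▸ x.2))
  have hdis : ∀ w ∈ T.img D, w ∈ T.img D' → w = 1 := fun w h1 h2 => by
    obtain ⟨x, rfl⟩ := T.bar_surj w
    exact T.bar_eq_one.2 (hcap ▸ Subgroup.mem_inf.2
      ⟨(T.bar_mem_img hD.z_mem x).1 h1, (T.bar_mem_img hD'.z_mem x).1 h2⟩)
  obtain ⟨hk, hq⟩ := part D hD
  obtain ⟨hk', hq'⟩ := part D' hD'
  refine ⟨?_, ?_⟩
  · let μ : (δ.ker ⊓ T.img D : Subgroup T.V) × (δ.ker ⊓ T.img D' : Subgroup T.V) →* T.V :=
      (δ.ker ⊓ T.img D).subtype.coprod (δ.ker ⊓ T.img D').subtype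
    have hinj : Function.Injective μ := by
      rw [← MonoidHom.ker_eq_bot_iff, eq_bot_iff]
      rintro ⟨a, b⟩ hab
      have e : (a : T.V) * b = 1 := hab
      have ha1 : (a : T.V) = 1 := hdis _ (Subgroup.mem_inf.1 a.2).2 (by
        rw [eq_inv_of_mul_eq_one_left e]; exact inv_mem (Subgroup.mem_inf.1 b.2).2)
      rw [ha1, one_mul] at e
      exact Prod.ext (Subtype.ext ha1) (Subtype.ext e)
    have hr : μ.range = δ.ker := by
      refine le_antisymm ?_ fun w hw => ?_
      · rintro _ ⟨p, rfl⟩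
        exact mul_mem (Subgroup.mem_inf.1 p.1.2).1 (Subgroup.mem_inf.1 p.2.2).1
      · obtain ⟨a, ha, b, hb, rfl⟩ := Subgroup.mem_sup.1 (hle.symm ▸ Subgroup.mem_top w)
        have h : δ a * δ b = 1 := by rw [← map_mul]; exact MonoidHom.mem_ker.1 hw
        have ha' : δ a = 1 := hdis _ (hq a ha).1 (by
          rw [eq_inv_of_mul_eq_one_left h]; exact inv_mem (hq' b hb).1)
        rw [ha', one_mul] at h
        exact ⟨(⟨a, Subgroup.mem_inf.2 ⟨MonoidHom.mem_ker.2 ha', ha⟩⟩,
          ⟨b, Subgroup.mem_inf.2 ⟨MonoidHom.mem_ker.2 h, hb⟩⟩), rfl⟩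
    rw [← hr, ← Nat.card_congr (MonoidHom.ofInjective hinj).toEquiv, Nat.card_prod, hk, hk']
  · rintro _ ⟨w, rfl⟩
    obtain ⟨a, ha, b, hb, rfl⟩ := Subgroup.mem_sup.1 (hle.symm ▸ Subgroup.mem_top w)
    rw [MonoidHom.mem_ker, map_mul, map_mul, (hq a ha).2, (hq' b hb).2, one_mul]

/-- The parabolic alternative. -/
structure Par (N : Subgroup G) : Prop where
  nat : T.IsNatural N
  pair : ∃ g, T.IsPair g ∧ g * T.z * g⁻¹ ∈ N
  par : ∀ h, h * T.z * h⁻¹ ∈ T.Q → h * T.z * h⁻¹ ∈ N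

namespace Par

variable {T} {N : Subgroup G}

theorem trans (hP : T.Par N) {x : G} (hx : x ∈ N) (hx1 : x ≠ 1) :
    ∃ m ∈ Subgroup.normalizer (N : Set G), m * T.z * m⁻¹ = x := by
  obtain ⟨g, hg, hy⟩ := hP.pair
  obtain ⟨e, π, -, -, -, htr⟩ := T.side hP.nat hg hy
  exact htr x hx hx1

/-- An element of order three of `C` centralising only `Z` in `N`, unless it is in `Q`. -/
theorem cent_small (hP : T.Par N) {v : G} (hv : v ∈ T.C) (hv3 : v ^ 3 = 1) (hvQ : v ∉ T.Q)
    (hconj : ∃ h, h * T.z * h⁻¹ = v) {n : G} (hn : n ∈ N) (hvn : v * n = n * v) : n ∈ T.toPre.Z := by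
  classical
  haveI : Fact (Nat.Prime 3) := ⟨Nat.prime_three⟩
  by_contra hnZ
  have hN := hP.nat
  have hnorm : ∀ {c x : G}, c ∈ T.C → x ∈ N → c * x * c⁻¹ ∈ N := fun hc hx =>
    (Subgroup.mem_normalizer_iff.1 (hN.norm hc) _).1 hx
  have hcomN : ∀ x ∈ N, com v x ∈ N := fun x hx => mul_mem (hnorm hv hx) (inv_mem hx)
  let χ : N →* N := MonoidHom.mk' (fun x => ⟨com v x, hcomN x x.2⟩) fun a b => Subtype.ext (by
    push_cast
    have h : com v ((a : G) * b) = com v a * (a * com v b * (a : G)⁻¹) := by simp only [com]; group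
    rw [h, hN.comm a a.2 _ (hcomN b b.2), mul_inv_cancel_right])
  have hker : 9 ≤ Nat.card χ.ker := by
    let H : Subgroup G := Subgroup.zpowers T.z ⊔ Subgroup.zpowers n
    have hHN : H ≤ N := sup_le (Subgroup.zpowers_le.2 (hN.z_mem T.z_mem)) (Subgroup.zpowers_le.2 hn)
    have hHk : H.subgroupOf N ≤ χ.ker := by
      have hHC : H ≤ Subgroup.centralizer {v} := sup_le
        (Subgroup.zpowers_le.2 (Subgroup.mem_centralizer_singleton_iff.2 (T.mem_C.1 hv).symm))
        (Subgroup.zpowers_le.2 (Subgroup.mem_centralizer_singleton_iff.2 hvn.symm))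
      intro x hx
      exact MonoidHom.mem_ker.2 (Subtype.ext (Pre.com_eq_one_iff.2
        (Subgroup.mem_centralizer_singleton_iff.1 (hHC (Subgroup.mem_subgroupOf.1 hx))).symm))
    have hdvd : Nat.card H ∣ 3 ^ 3 := by
      rw [show (3 : ℕ) ^ 3 = 27 by norm_num, ← hN.card]; exact Subgroup.card_dvd_of_le hHN
    obtain ⟨k, hk, hk'⟩ := (Nat.dvd_prime_pow Nat.prime_three).1 hdvd
    have hk2 : 2 ≤ k := by
      by_contra hcon
      have h3 : Nat.card H ≤ 3 := by
        rw [hk']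
        calc (3 : ℕ) ^ k ≤ 3 ^ 1 := Nat.pow_le_pow_right (by norm_num) (by omega)
          _ = 3 := pow_one 3
      have he : T.toPre.Z = H := Subgroup.eq_of_le_of_card_ge le_sup_left (by rw [T.card_Z]; exact h3)
      exact hnZ (he ▸ Subgroup.mem_sup_right (Subgroup.mem_zpowers n))
    calc 9 ≤ Nat.card H := by rw [hk']; exact le_trans (by norm_num) (Nat.pow_le_pow_right (by norm_num) hk2)
      _ = Nat.card (H.subgroupOf N) := (Nat.card_congr (Subgroup.subgroupOfEquivOfLe hHN).toEquiv).symm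
      _ ≤ _ := Subgroup.card_le_of_le hHk
  have hrange : Nat.card χ.range ≤ 3 := by
    have h := χ.ker.card_eq_card_quotient_mul_card_subgroup
    rw [hN.card, Nat.card_congr (QuotientGroup.quotientKerEquivRange χ).toEquiv] at h
    nlinarith [Nat.card_pos (α := χ.range)]
  obtain ⟨x₀, hx₀⟩ : ∃ x : N, χ x ≠ 1 := by
    by_contra h
    push Not at h
    have hc : v ∈ Subgroup.centralizer (N : Set G) := Subgroup.mem_centralizer_iff.2 fun x hx =>
      (Pre.com_eq_one_iff.1 (congrArg Subtype.val (h ⟨x, hx⟩))).symm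
    rw [IsNatural.cent T hN] at hc
    exact hvQ (hN.le_Q hc)
  set c := χ x₀ with hc
  have hc3 : c ^ 3 = 1 := Subtype.ext (by simpa using T.exp _ (hN.le_Q c.2))
  have hcord : orderOf c = 3 := orderOf_eq_prime hc3 hx₀
  have hgen : Subgroup.zpowers c = χ.range := by
    refine Subgroup.eq_of_le_of_card_ge (Subgroup.zpowers_le.2 ⟨x₀, rfl⟩) ?_
    rw [Nat.card_zpowers, hcord]; exact hrange
  have hcfix : χ c = 1 := by
    obtain ⟨i, hi⟩ := Subgroup.mem_zpowers_iff.1 (show χ c ∈ Subgroup.zpowers c by rw [hgen]; exact ⟨c, rfl⟩)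
    have hpow : ∀ k : ℕ, v ^ k * (c : G) * (v ^ k)⁻¹ = (((c ^ ((i + 1) ^ k) : N)) : G) := by
      intro k
      induction k with
      | zero => simp
      | succ k ih =>
        have e1 : v * (c : G) * v⁻¹ = ((c ^ (i + 1) : N) : G) := by
          rw [zpow_add, zpow_one, hi]
          show v * (c : G) * v⁻¹ = com v c * c
          simp [com]
        rw [show v ^ (k + 1) * (c : G) * (v ^ (k + 1))⁻¹ = v * (v ^ k * (c : G) * (v ^ k)⁻¹) * v⁻¹ by
          rw [pow_succ']; group, ih, Subgroup.coe_zpow, ← conj_zpow, e1, Subgroup.coe_zpow, ← zpow_mul,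
          ← pow_succ', Subgroup.coe_zpow]
    have h := hpow 3
    rw [hv3, one_mul, inv_one, mul_one] at h
    have h' : c ^ ((i + 1) ^ 3 - 1) = 1 := by
      rw [zpow_sub, zpow_one, mul_inv_eq_one]; exact Subtype.ext h.symm
    rw [← orderOf_dvd_iff_zpow_eq_one, hcord] at h'
    have h2 : (3 : ℤ) ∣ i := by
      have h3 : (((i + 1) ^ 3 - 1 : ℤ) : ZMod 3) = 0 := (ZMod.intCast_zmod_eq_zero_iff_dvd _ 3).2 h'
      push_cast at h3
      refine (ZMod.intCast_zmod_eq_zero_iff_dvd i 3).1 ?_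
      generalize (i : ZMod 3) = a at h3
      exact cube_shift a h3
    rw [← hi]
    exact orderOf_dvd_iff_zpow_eq_one.1 (hcord ▸ h2)
  have hvc : v * (c : G) = (c : G) * v := Pre.com_eq_one_iff.1 (congrArg Subtype.val hcfix)
  obtain ⟨m, hm, hmz⟩ := hP.trans c.2 (fun h => hx₀ (Subtype.ext h))
  set v' := m⁻¹ * v * m with hv'
  have hv'C : v' ∈ T.C := T.mem_C.2 (by
    calc v' * T.z = m⁻¹ * (v * (m * T.z * m⁻¹)) * m := by simp only [hv']; group
      _ = m⁻¹ * ((m * T.z * m⁻¹) * v) * m := by rw [hmz, hvc]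
      _ = T.z * v' := by simp only [hv']; group)
  have hact : ∀ x ∈ N, com v' x ∈ T.toPre.Z := by
    intro x hx
    have hmx : m * x * m⁻¹ ∈ N := (Subgroup.mem_normalizer_iff.1 hm x).1 hx
    obtain ⟨i, hi⟩ := Subgroup.mem_zpowers_iff.1 (show χ ⟨_, hmx⟩ ∈ Subgroup.zpowers c by rw [hgen]; exact ⟨_, rfl⟩)
    refine ⟨i, ?_⟩
    have h1 : (m * T.z * m⁻¹) ^ i = com v (m * x * m⁻¹) := by
      rw [hmz, ← Subgroup.coe_zpow, hi]; rfl
    rw [conj_zpow] at h1
    show T.z ^ i = com v' x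
    calc T.z ^ i = m⁻¹ * (m * T.z ^ i * m⁻¹) * m := by group
      _ = com v' x := by rw [h1]; simp only [hv', com]; group
  have hv'Q : v' ∈ T.Q := by
    by_contra hQ'
    have hmm : ∀ (g h : SL2) w, T.act (g * h) w = T.act g (T.act h w) := fun g h w => by rw [map_mul]; rfl
    let K : Subgroup SL2 :=
      { carrier := {γ | ∀ w ∈ T.img N, T.act γ w = w}
        one_mem' := fun w _ => by rw [map_one]; rfl
        mul_mem' := fun {a b} ha hb w hw => by rw [hmm, hb w hw, ha w hw]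
        inv_mem' := fun {a} ha w hw => by
          conv_lhs => rw [← ha w hw]
          rw [← hmm, inv_mul_cancel, map_one]; rfl }
    have hKn : ∀ γ x, x ∈ K → γ * x * γ⁻¹ ∈ K := fun γ x hx w hw => by
      rw [hmm, hmm, hx _ (IsNatural.act_mem T hN γ⁻¹ w hw), ← hmm, mul_inv_cancel, map_one]; rfl
    have hxK : T.ρ ⟨v', hv'C⟩ ∈ K := fun w hw => by
      obtain ⟨x, rfl⟩ := T.bar_surj w
      rw [T.act_bar, T.bar_eq]
      have h := hact x ((T.bar_mem_img hN.z_mem x).1 hw)
      have e : (v' * (x : G) * v'⁻¹)⁻¹ * x = (x : G)⁻¹ * (com v' x)⁻¹ * x := by simp only [com]; group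
      rw [e, mul_assoc, ← T.Z_central (T.Q_le_C x.2) (inv_mem h), inv_mul_cancel_left]
      exact inv_mem h
    have hneg : (-1 : SL2) ∉ K := by
      intro h
      have hsub : T.img N ≤ ⊥ := fun w hw => by
        have e := h w hw
        rw [T.inverts w] at e
        have h2 : w * w = 1 := by
          conv_lhs => lhs; rw [← e]
          exact inv_mul_cancel w
        have h3 := T.V_cube w
        rw [pow_succ, pow_two, h2, one_mul] at h3
        exact h3
      have := Subgroup.card_le_of_le hsub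
      rw [IsNatural.card_img T hN, Subgroup.card_bot] at this
      omega
    have hne : T.ρ ⟨v', hv'C⟩ ≠ 1 := fun h => hQ' ((T.ρker _).1 h)
    obtain ⟨γ, h | h | h | h⟩ := normal_avoids_center _ hne
    · exact hneg (h ▸ hxK)
    · exact hneg (h ▸ mul_mem hxK hxK)
    · exact hneg (h ▸ mul_mem (mul_mem hxK hxK) hxK)
    · have := mul_mem (inv_mem hxK) (hKn γ _ hxK)
      exact hneg (h ▸ mul_mem this this)
  obtain ⟨h, hh⟩ := hconj
  have e : v' = m⁻¹ * h * T.z * (m⁻¹ * h)⁻¹ := by simp only [hv', ← hh]; group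
  have hv'N : v' ∈ N := e ▸ hP.par _ (e ▸ hv'Q)
  have : v ∈ N := by
    have := (Subgroup.mem_normalizer_iff.1 hm v').1 hv'N
    simpa [hv', mul_assoc] using this
  exact hvQ (hN.le_Q this)
where
  cube_shift : ∀ a : ZMod 3, (a + 1) ^ 3 - 1 = 0 → a = 0 := by decide

/-- Conjugates of `z` in `C` lie in `N`. -/
theorem conj_mem_C (hP : T.Par N) {h : G} (hh : h * T.z * h⁻¹ ∈ T.C) : h * T.z * h⁻¹ ∈ N := by
  classical
  haveI : Fact (Nat.Prime 3) := ⟨Nat.prime_three⟩
  have hN := hP.nat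
  by_cases hvQ : h * T.z * h⁻¹ ∈ T.Q
  · exact hP.par h hvQ
  exfalso
  set v := h * T.z * h⁻¹ with hv
  have hv3 : v ^ 3 = 1 := by rw [hv, conj_pow, T.z_cube, mul_one, mul_inv_cancel]
  set v' := h⁻¹ * T.z * h with hv'
  have hv'C : v' ∈ T.C := T.mem_C.2 (by
    have := T.mem_C.1 hh
    calc v' * T.z = h⁻¹ * (T.z * v) * h := by simp only [hv', hv]; group
      _ = h⁻¹ * (v * T.z) * h := by rw [this]
      _ = T.z * v' := by simp only [hv', hv]; group)
  have hv'Q : v' ∉ T.Q := fun hq => by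
    have hp : T.IsPair h⁻¹ := by
      refine ⟨by simpa [hv'] using hq, fun hz => hvQ ?_⟩
      obtain ⟨i, hi⟩ := Subgroup.mem_zpowers_iff.1 hz
      have e : T.z = v ^ i := by
        rw [hv, conj_zpow, hi]; group
      have hv1 : v ∈ Subgroup.zpowers T.z := by
        have hgen : Subgroup.zpowers T.z ≤ Subgroup.zpowers v := Subgroup.zpowers_le.2 ⟨i, e.symm⟩
        have := Subgroup.eq_of_le_of_card_ge hgen (by
          rw [Nat.card_zpowers, Nat.card_zpowers, T.hz, hv]
          exact ((orderOf_injective (MulAut.conj h).toMonoidHom (MulAut.conj h).injective T.z).trans T.hz).le)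
        exact this ▸ Subgroup.mem_zpowers v
      exact T.Z_le hv1
    have := (T.basic hp).2.1
    rw [inv_inv] at this
    exact hvQ this.1
  -- each element of `C_Q(v')` is a commutator with `v'`
  have key : ∀ w, w ∈ T.C → w ^ 3 = 1 → w ∉ T.Q → (∃ k, k * T.z * k⁻¹ = w) →
      ∃ A : Subgroup G, Nat.card A = 9 ∧ A ≤ T.Q ∧ (∀ a ∈ A, w * a = a * w) ∧
        ∀ a ∈ A, ∃ q ∈ T.Q, com q w = a := by
    intro w hw hw3 hwQ hwc
    let A : Subgroup G := T.Q ⊓ Subgroup.centralizer {w}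
    set X := T.ρ ⟨w, hw⟩ with hX
    let δ : T.V →* T.V := MonoidHom.mk' (fun u => T.act X u * u⁻¹) fun u u' => by
      rw [map_mul, mul_inv_rev]; ac_rfl
    have hδbar : ∀ (x : T.Q), δ (T.bar x) = T.bar ⟨com w x, mul_mem (T.conj_Q hw x.2) (inv_mem x.2)⟩ := fun x => by
      show T.act X (T.bar x) * (T.bar x)⁻¹ = _
      rw [T.act_bar, ← Pre.bar_inv, ← Pre.bar_mul]
      rfl
    -- the kernel and range of `δ`
    obtain ⟨hkerδ, hrangeδ⟩ : Nat.card δ.ker = 9 ∧ δ.range ≤ δ.ker := by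
      obtain ⟨g, hg, hy⟩ := hP.pair
      have hX3 : X ^ 3 = 1 := by
        rw [hX, ← map_pow, T.ρker]
        show w ^ 3 ∈ T.Q
        rw [hw3]; exact one_mem _
      have hX1 : X ≠ 1 := fun e => hwQ ((T.ρker _).1 e)
      exact T.quadratic hg hX3 hX1 δ fun u => rfl
    let L : Subgroup G := T.pre δ.ker
    have hL : Nat.card L = 27 := by rw [T.card_pre, hkerδ]
    have hAL : A ≤ L := fun a ha => by
      obtain ⟨ha1, ha2⟩ := Subgroup.mem_inf.1 ha
      refine (T.mem_pre ⟨a, ha1⟩).2 (MonoidHom.mem_ker.2 ?_)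
      rw [hδbar]
      refine T.bar_eq_one.2 ?_
      show com w a ∈ T.toPre.Z
      rw [Pre.com_eq_one_iff.2 (Subgroup.mem_centralizer_singleton_iff.1 ha2).symm]
      exact one_mem _
    have hcomL : ∀ q ∈ T.Q, com q w ∈ L := fun q hq => by
      have e1 : com q w = (com w q)⁻¹ := Pre.com_inv
      rw [e1]
      refine inv_mem ?_
      refine (T.mem_pre ⟨com w q, mul_mem (T.conj_Q hw hq) (inv_mem hq)⟩).2 (hrangeδ ⟨T.bar ⟨q, hq⟩, ?_⟩)
      exact hδbar _
    -- `w` does not centralise `L`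
    obtain ⟨l, hl, hlw⟩ : ∃ l ∈ L, w * l ≠ l * w := by
      by_contra hcon
      push Not at hcon
      obtain ⟨u, huN, hu1, huk⟩ : ∃ u, u ∈ T.img N ∧ u ≠ 1 ∧ u ∈ δ.ker := by
        have h9 := IsNatural.card_img T hN
        obtain ⟨⟨u, hu⟩, hu1⟩ : ∃ u : T.img N, u ≠ 1 :=
          haveI : Nontrivial (T.img N) := Finite.one_lt_card_iff_nontrivial.1 (by omega)
          exists_ne 1
        by_cases hk : δ u = 1
        · exact ⟨u, hu, fun e => hu1 (Subtype.ext e), hk⟩
        · exact ⟨δ u, mul_mem (IsNatural.act_mem T hN X u hu) (inv_mem hu), hk, hrangeδ ⟨u, rfl⟩⟩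
      obtain ⟨x, rfl⟩ := T.bar_surj u
      refine hu1 (T.bar_eq_one.2 (hP.cent_small hw hw3 hwQ hwc ((T.bar_mem_img hN.z_mem x).1 huN) ?_))
      exact hcon x ((T.mem_pre x).2 huk)
    have hlt : A < L := lt_of_le_of_ne hAL fun e => hlw
      (Subgroup.mem_centralizer_singleton_iff.1 (Subgroup.mem_inf.1 (show l ∈ A by rw [e]; exact hl)).2).symm
    have hA9 : Nat.card A ≤ 9 := by
      have h1 : Nat.card A ∣ 3 ^ 3 := by
        rw [show (3 : ℕ) ^ 3 = 27 by norm_num, ← hL]; exact Subgroup.card_dvd_of_le hAL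
      obtain ⟨k, hk, hk'⟩ := (Nat.dvd_prime_pow Nat.prime_three).1 h1
      interval_cases k <;> try (rw [hk']; norm_num; done)
      exact absurd (Subgroup.eq_of_le_of_card_ge hAL (by rw [hL, hk']; norm_num)) hlt.ne
    let φ : ↥T.Q ⧸ A.subgroupOf T.Q → L := Quotient.lift
      (fun q => (⟨com (q : G) w, hcomL q q.2⟩ : L))
      (fun q q' hqq => by
        have h' := Subgroup.mem_subgroupOf.1 (QuotientGroup.leftRel_apply.1 hqq)
        obtain ⟨-, hc⟩ := Subgroup.mem_inf.1 h'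
        push_cast at hc
        have hc' := Subgroup.mem_centralizer_singleton_iff.1 hc
        refine Subtype.ext ?_
        show com (q : G) w = com (q' : G) w
        calc com (q : G) w = (q : G) * (w * ((q : G)⁻¹ * q')) * (q' : G)⁻¹ * w⁻¹ := by simp only [com]; group
          _ = com (q' : G) w := by rw [← hc']; simp only [com]; group)
    have hφ : Function.Injective φ := by
      intro p r
      induction p using QuotientGroup.induction_on with | H q => ?_
      induction r using QuotientGroup.induction_on with | H q' => ?_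
      intro hqq
      have h' : com (q : G) w = com (q' : G) w := congrArg Subtype.val hqq
      refine QuotientGroup.eq.2 (Subgroup.mem_subgroupOf.2 (Subgroup.mem_inf.2
        ⟨mul_mem (inv_mem q.2) q'.2, Subgroup.mem_centralizer_singleton_iff.2 ?_⟩))
      push_cast
      calc (q : G)⁻¹ * q' * w = (q : G)⁻¹ * (com (q' : G) w * w) * q' := by simp only [com]; group
        _ = w * ((q : G)⁻¹ * q') := by rw [← h']; simp only [com]; group
    have hcard := (A.subgroupOf T.Q).card_eq_card_quotient_mul_card_subgroup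
    rw [T.card_Q, Nat.card_congr (Subgroup.subgroupOfEquivOfLe (inf_le_left : A ≤ T.Q)).toEquiv] at hcard
    have h27 := Nat.card_le_card_of_injective φ hφ
    rw [hL] at h27
    have hA : Nat.card A = 9 := le_antisymm hA9 (by nlinarith)
    refine ⟨A, hA, inf_le_left, fun a ha => (Subgroup.mem_centralizer_singleton_iff.1 (Subgroup.mem_inf.1 ha).2).symm, fun a ha => ?_⟩
    obtain ⟨p, hp⟩ := ((Nat.bijective_iff_injective_and_card φ).2 ⟨hφ, by rw [hL]; rw [hA] at hcard; omega⟩).2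
      ⟨a, hAL ha⟩
    induction p using QuotientGroup.induction_on with | H q => ?_
    exact ⟨q, q.2, congrArg Subtype.val hp⟩
  have hv'3 : v' ^ 3 = 1 := by
    rw [hv', show h⁻¹ * T.z * h = h⁻¹ * T.z * h⁻¹⁻¹ by rw [inv_inv], conj_pow, T.z_cube]; simp
  obtain ⟨A, hA, hAQ, hAc, hAcom⟩ := key v' hv'C hv'3 hv'Q ⟨h⁻¹, by rw [hv', inv_inv]⟩
  -- a nontrivial element of `Q ∩ Q^h` centralising `v`
  have hAconj : ∀ a ∈ A, h * a * h⁻¹ ∈ T.C := fun a ha => T.mem_C.2 (by
    have := hAc a ha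
    calc h * a * h⁻¹ * T.z = h * (a * v') * h⁻¹ := by simp only [hv']; group
      _ = h * (v' * a) * h⁻¹ := by rw [this]
      _ = T.z * (h * a * h⁻¹) := by simp only [hv']; group)
  let f : A →* SL2 := MonoidHom.mk' (fun a => T.ρ ⟨h * a * h⁻¹, hAconj a a.2⟩)
    fun a b => by rw [← map_mul]; exact congrArg T.ρ (Subtype.ext (by push_cast; group))
  obtain ⟨a, haQ, ha1⟩ : ∃ a : A, h * (a : G) * h⁻¹ ∈ T.Q ∧ a ≠ 1 := by
    by_contra hcon
    push Not at hcon
    have hinj : Function.Injective f := by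
      rw [← MonoidHom.ker_eq_bot_iff, eq_bot_iff]
      exact fun x hx => Subgroup.mem_bot.2 (hcon x ((T.ρker _).1 hx))
    exact no_nine_in_sl2 f.range (by rw [← Nat.card_congr (MonoidHom.ofInjective hinj).toEquiv, hA])
  set r := h * (a : G) * h⁻¹ with hr
  have hrv : v * r = r * v := by
    have h0 := T.mem_C.1 (T.Q_le_C (hAQ a.2))
    calc v * r = h * (T.z * a) * h⁻¹ := by simp only [hv, hr]; group
      _ = h * (a * T.z) * h⁻¹ := by rw [h0]
      _ = r * v := by simp only [hv, hr]; group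
  obtain ⟨q, hq, hqa⟩ := hAcom a a.2
  -- then `r z` is conjugate to `z` and lies in `Q`
  have hrz : (h * q * h⁻¹) * T.z * (h * q * h⁻¹)⁻¹ = r * T.z := by
    calc (h * q * h⁻¹) * T.z * (h * q * h⁻¹)⁻¹ = h * (com q v' * v') * h⁻¹ := by simp only [com, hv']; group
      _ = r * T.z := by rw [hqa]; simp only [hr, hv']; group
  have hrzN := hP.par (h * q * h⁻¹) (hrz ▸ mul_mem haQ T.hzQ)
  rw [hrz] at hrzN
  have hrN : r ∈ N := by simpa using mul_mem hrzN (inv_mem (hN.z_mem T.z_mem))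
  have hrZ := hP.cent_small hh hv3 hvQ ⟨h, rfl⟩ hrN hrv
  -- but `r` is not in `Z`
  have hz : T.z ∉ T.Qc h := fun hz => hv'Q (by simpa [hv'] using T.mem_Qc.1 hz)
  have hrQc : r ∈ T.Qc h := T.conj_mem_Qc (hAQ a.2)
  rcases T.z_pow_cases hrZ with e | e | e
  · exact ha1 (Subtype.ext (conj_eq_one_iff.1 e))
  · exact hz (e ▸ hrQc)
  · exact hz (inv_inv T.z ▸ inv_mem (e ▸ hrQc))

/-- (a) Conjugates of `z` in `N(N)` lie in `N`. -/
theorem conj_mem (hP : T.Par N) {h : G} (hh : h * T.z * h⁻¹ ∈ Subgroup.normalizer (N : Set G)) :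
    h * T.z * h⁻¹ ∈ N := by
  classical
  haveI : Fact (Nat.Prime 3) := ⟨Nat.prime_three⟩
  set M := Subgroup.normalizer (N : Set G) with hM
  obtain ⟨S, hS⟩ : ∃ S : Sylow 3 M, (S : Subgroup M).map M.subtype ≤ T.C := by
    obtain ⟨P⟩ := (inferInstance : Nonempty (Sylow 3 T.C))
    have hPc : Nat.card (P : Subgroup T.C) = 729 := by
      rw [P.card_eq_multiplicity, T.card_C, show 5832 = 3 ^ 6 * 8 by norm_num,
        Nat.factorization_mul (by norm_num) (by norm_num), Finsupp.add_apply,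
        Nat.factorization_eq_zero_of_not_dvd (show ¬ 3 ∣ 8 by norm_num),
        Nat.Prime.factorization_pow Nat.prime_three, Finsupp.single_eq_same]
      norm_num
    set R : Subgroup M := ((P : Subgroup T.C).map T.C.subtype).subgroupOf M with hRdef
    have hRle : (P : Subgroup T.C).map T.C.subtype ≤ M := (Subgroup.map_subtype_le _).trans hP.nat.norm
    have hRcard : Nat.card R = 729 := by
      rw [hRdef, Nat.card_congr (Subgroup.subgroupOfEquivOfLe hRle).toEquiv,
        Subgroup.card_map_of_injective T.C.subtype_injective, hPc]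
    have hRp : IsPGroup 3 R := IsPGroup.of_card (n := 6) (by rw [hRcard]; norm_num)
    obtain ⟨S, hS⟩ := hRp.exists_le_sylow
    have hSc : Nat.card (S : Subgroup M) ≤ 729 := by
      rw [← Subgroup.card_map_of_injective M.subtype_injective]
      exact T.sylow _ (S.isPGroup'.map _)
    refine ⟨S, ?_⟩
    rw [← Subgroup.eq_of_le_of_card_ge hS (hRcard.symm ▸ hSc), hRdef, Subgroup.map_subgroupOf_eq_of_le hRle]
    exact Subgroup.map_subtype_le _
  set v : M := ⟨h * T.z * h⁻¹, hh⟩ with hv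
  have hv3 : IsPGroup 3 (Subgroup.zpowers v) := by
    refine IsPGroup.of_card (n := 1) ?_
    rw [Nat.card_zpowers, pow_one, ← Subgroup.orderOf_coe]
    exact (orderOf_injective (MulAut.conj h).toMonoidHom (MulAut.conj h).injective T.z).trans T.hz
  obtain ⟨S', hS'⟩ := hv3.exists_le_sylow
  obtain ⟨m, hm⟩ := MulAction.exists_smul_eq M S' S
  have hmem : m * v * m⁻¹ ∈ (S : Subgroup M) := by
    rw [← hm]
    show m * v * m⁻¹ ∈ MulAut.conj m • (S' : Subgroup M)
    exact ⟨v, hS' (Subgroup.mem_zpowers v), rfl⟩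
  have hC : ((m : G) * h) * T.z * ((m : G) * h)⁻¹ ∈ T.C := by
    have h1 := hS (Subgroup.mem_map_of_mem M.subtype hmem)
    simpa [hv, mul_assoc] using h1
  have hN' := hP.conj_mem_C hC
  refine (Subgroup.mem_normalizer_iff.1 m.2 _).2 ?_
  simpa [mul_assoc] using hN'

theorem norm_C (hP : T.Par N) : T.C ≤ Subgroup.normalizer (N : Set G) := hP.nat.norm

theorem mem_of_conj_z (hP : T.Par N) {g : G} (hg : g * T.z * g⁻¹ ∈ Subgroup.normalizer (N : Set G)) :
    g ∈ Subgroup.normalizer (N : Set G) := by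
  obtain ⟨m, hm, hmz⟩ := hP.trans (hP.conj_mem hg) fun e => T.z_ne (conj_eq_one_iff.1 e)
  have hc : m⁻¹ * g ∈ T.C := T.mem_C.2 (by
    calc m⁻¹ * g * T.z = m⁻¹ * (g * T.z * g⁻¹) * g := by group
      _ = m⁻¹ * (m * T.z * m⁻¹) * g := by rw [hmz]
      _ = T.z * (m⁻¹ * g) := by group)
  simpa using mul_mem hm (hP.norm_C hc)

theorem mem_of_conj (hP : T.Par N) {g x : G} (hx : x ∈ N) (hx1 : x ≠ 1)
    (hg : g * x * g⁻¹ ∈ Subgroup.normalizer (N : Set G)) : g ∈ Subgroup.normalizer (N : Set G) := by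
  obtain ⟨m, hm, rfl⟩ := hP.trans hx hx1
  have h := hP.mem_of_conj_z (g := g * m) (by simpa [mul_assoc] using hg)
  simpa using mul_mem h (inv_mem hm)

/-- (b) Centralisers of nontrivial elements of `N` lie in `N(N)`. -/
theorem cent_le (hP : T.Par N) {x : G} (hx : x ∈ N) (hx1 : x ≠ 1) :
    Subgroup.centralizer ({x} : Set G) ≤ Subgroup.normalizer (N : Set G) := fun g hg => by
  refine hP.mem_of_conj hx hx1 ?_
  rw [Subgroup.mem_centralizer_singleton_iff.1 hg, mul_inv_cancel_right]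
  exact Subgroup.le_normalizer hx

/-- An involution of `N(N)` fixes a nontrivial element of `N`. -/
theorem invol_fix (hP : T.Par N) {t : G} (htM : t ∈ Subgroup.normalizer (N : Set G)) (ht : t * t = 1) :
    ∃ x ∈ N, x ≠ 1 ∧ t * x = x * t := by
  classical
  obtain ⟨g, hg, hy⟩ := hP.pair
  obtain ⟨e, π, -, -, hact, -⟩ := T.side hP.nat hg hy
  by_contra hcon
  push Not at hcon
  have hinv : ∀ x ∈ N, t * x * t⁻¹ = x⁻¹ := by
    intro x hx
    have hx' : t * x * t⁻¹ ∈ N := (Subgroup.mem_normalizer_iff.1 htM x).1 hx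
    have hfix : t * (x * (t * x * t⁻¹)) * t⁻¹ = x * (t * x * t⁻¹) := by
      calc t * (x * (t * x * t⁻¹)) * t⁻¹ = t * x * t⁻¹ * ((t * t) * x * (t * t)⁻¹) := by group
        _ = t * x * t⁻¹ * x := by rw [ht]; group
        _ = x * (t * x * t⁻¹) := hP.nat.comm _ hx' _ hx
    have h1 : x * (t * x * t⁻¹) = 1 := by
      by_contra hne
      exact hcon _ (mul_mem hx hx') hne (mul_inv_eq_iff_eq_mul.1 hfix)
    exact eq_inv_of_mul_eq_one_right h1
  have hM : (π ⟨t, htM⟩ : Matrix (Fin 3) (Fin 3) (ZMod 3)) = -1 := by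
    refine Matrix.toLin'.injective (LinearMap.ext fun v => ?_)
    simp only [Matrix.toLin'_apply, Matrix.neg_mulVec, Matrix.one_mulVec]
    refine Multiplicative.ofAdd.injective (e.injective (Subtype.ext ?_))
    rw [← hact, ofAdd_neg, map_inv]
    exact hinv _ (e _).2
  have hdet := (π ⟨t, htM⟩).2
  rw [hM] at hdet
  exact absurd hdet (by decide)

/-- (b) Involutions of `N(N)` are conjugate there. -/
theorem invol_conj (hP : T.Par N) {s t : G} (hs : s ∈ Subgroup.normalizer (N : Set G)) (hs2 : s * s = 1)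
    (hs1 : s ≠ 1) (ht : t ∈ Subgroup.normalizer (N : Set G)) (ht2 : t * t = 1) (ht1 : t ≠ 1) :
    ∃ m ∈ Subgroup.normalizer (N : Set G), m * s * m⁻¹ = t := by
  have red : ∀ s, s ∈ Subgroup.normalizer (N : Set G) → s * s = 1 → s ≠ 1 →
      ∃ m ∈ Subgroup.normalizer (N : Set G), m * s * m⁻¹ ∈ T.C := by
    intro s hs hs2 _
    obtain ⟨x, hx, hx1, hsx⟩ := hP.invol_fix hs hs2
    obtain ⟨m, hm, hmz⟩ := hP.trans hx hx1
    refine ⟨m⁻¹, inv_mem hm, T.mem_C.2 ?_⟩
    calc m⁻¹ * s * m⁻¹⁻¹ * T.z = m⁻¹ * (s * (m * T.z * m⁻¹)) * m := by group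
      _ = m⁻¹ * ((m * T.z * m⁻¹) * s) * m := by rw [hmz, hsx]
      _ = T.z * (m⁻¹ * s * m⁻¹⁻¹) := by group
  obtain ⟨a, ha, has⟩ := red s hs hs2 hs1
  obtain ⟨b, hb, hbt⟩ := red t ht ht2 ht1
  set s' := a * s * a⁻¹ with hs'
  set t' := b * t * b⁻¹ with ht'
  have hsq : ∀ (c u : G), u * u = 1 → (c * u * c⁻¹) * (c * u * c⁻¹) = 1 := fun c u hu => by
    rw [show (c * u * c⁻¹) * (c * u * c⁻¹) = c * (u * u) * c⁻¹ by group, hu]; group
  have hρ : ∀ u (hu : u ∈ T.C), u * u = 1 → u ≠ 1 → T.ρ ⟨u, hu⟩ = -1 := by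
    intro u hu hu2 hu1
    refine (sl2_unique_involution _ ?_).resolve_left fun h => ?_
    · rw [← map_mul, show (⟨u, hu⟩ : T.C) * ⟨u, hu⟩ = 1 from Subtype.ext hu2, map_one]
    · have h3 := T.cube_iff ((T.ρker _).1 h)
      rw [hu2, one_mul] at h3
      exact hu1 h3
  have hne : ∀ (c u : G), u ≠ 1 → c * u * c⁻¹ ≠ 1 := fun c u hu h => hu (conj_eq_one_iff.1 h)
  have hx : s' * t' ∈ T.Q := by
    refine (T.ρker ⟨s' * t', mul_mem has hbt⟩).1 ?_
    rw [show (⟨s' * t', mul_mem has hbt⟩ : T.C) = ⟨s', has⟩ * ⟨t', hbt⟩ from rfl, map_mul,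
      hρ _ has (hsq a s hs2) (hne a s hs1), hρ _ hbt (hsq b t ht2) (hne b t ht1)]
    decide +kernel
  have hxc := T.cube_iff hx
  have hst : (s' * t') * s' * (s' * t')⁻¹ = t' := by
    have h1 := hsq a s hs2
    have h2 := hsq b t ht2
    rw [← hs'] at h1
    rw [← ht'] at h2
    have i1 : s'⁻¹ = s' := inv_eq_of_mul_eq_one_right h1
    have i2 : t'⁻¹ = t' := inv_eq_of_mul_eq_one_right h2
    rw [mul_inv_rev, i1, i2]
    calc s' * t' * s' * (t' * s') = s' * t' * (s' * t') * (s' * t') * t'⁻¹ := by group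
      _ = t' := by rw [hxc, one_mul, i2]
  refine ⟨b⁻¹ * (s' * t') * a, mul_mem (mul_mem (inv_mem hb) (hP.norm_C (mul_mem has hbt))) ha, ?_⟩
  calc b⁻¹ * (s' * t') * a * s * (b⁻¹ * (s' * t') * a)⁻¹
      = b⁻¹ * ((s' * t') * s' * (s' * t')⁻¹) * b := by simp only [hs']; group
    _ = t := by rw [hst]; simp only [ht']; group

end Par

end Loc

end Cfsg.Agent.Spor.PSLFourThree
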