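import Cfsg.Agent.Lib.Spor.PSLFourThree.CopyTop
import Cfsg.Agent.Lib.Spor.PSLFourThree.PSLBranch
import Cfsg.Agent.Lib.Spor.PSLFourThree.Parabolic

/-!
# The two alternatives
-/

set_option autoImplicit false
set_option linter.unusedSectionVars false

namespace Cfsg.Agent.Spor.PSLFourThree

universe u

/-- Either `PSL₄(3)` or the parabolic alternative. -/
theorem dichotomy {G : Type u} [Group G] [Finite G] (T : Loc G)
    (hpair : ∃ x : G, x * T.z * x⁻¹ ∈ T.Q ∧ x * T.z * x⁻¹ ∉ T.toPre.Z) :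
    Nonempty (G ≃* PSLF) ∨ ∃ N : Subgroup G, T.Par N := by
  obtain ⟨g, hg⟩ := hpair
  obtain ⟨D, D', hD, hD', hcap, -, -, hy, hall⟩ := T.exists_naturals hg
  by_cases h : ∃ g', T.IsPair g' ∧ g' * T.z * g'⁻¹ ∈ D'
  · obtain ⟨g', hg', hy'⟩ := h
    obtain ⟨f, hf, hz⟩ := exists_copy T hD hD' hcap hall hg hy hg' hy'
    exact Or.inl ⟨((MonoidHom.ofInjective hf).trans
      ((MulEquiv.subgroupCongr (copy_top f hf hz)).trans Subgroup.topEquiv)).symm⟩
  · refine Or.inr ⟨D, ⟨hD, ⟨g, hg, hy⟩, fun k hk => ?_⟩⟩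
    rcases T.conj_mem_natural hD hall hk with h1 | h1
    · exact h1
    · by_cases hzk : k * T.z * k⁻¹ ∈ T.toPre.Z
      · exact hD.z_mem hzk
      · exact absurd ⟨k, ⟨hk, hzk⟩, h1⟩ h

end Cfsg.Agent.Spor.PSLFourThree
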