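import Cfsg.Agent.Lib.Lie.CTA.AN

/-!
Gluing two Levi factors `SL₃(3)` to `PSL₄(3)`.
-/

set_option autoImplicit false
set_option linter.unusedSectionVars false

namespace Cfsg.Agent.Spor.PSLFourThree

open Cfsg.Agent.Lie.CTA Matrix

local notation "SL2" => Matrix.SpecialLinearGroup (Fin 2) (ZMod 3)
local notation "SL3" => Matrix.SpecialLinearGroup (Fin 3) (ZMod 3)
local notation "SL4" => Matrix.SpecialLinearGroup (Fin 4) (ZMod 3)

theorem four_even : Fact (Even (Fintype.card (Fin 4))) := ⟨by decide⟩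

attribute [local instance] four_even

theorem pow_four_cases : ∀ r : ZMod 3, r ^ 4 = 1 → r = 1 ∨ r = -1 := by decide

theorem center_cases {c : SL4} (hc : c ∈ Subgroup.center SL4) : c = 1 ∨ c = -1 := by
  obtain ⟨r, hr, e⟩ := Matrix.SpecialLinearGroup.mem_center_iff.1 hc
  have h0 : r = 1 ∨ r = -1 := pow_four_cases r (by simpa using hr)
  rcases h0 with rfl | rfl
  · exact Or.inl (Subtype.ext (by rw [← e]; simp))
  · exact Or.inr (Subtype.ext (by rw [← e]; ext i j; by_cases h : i = j <;> simp [Matrix.scalar, h]))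

theorem neg_one_blocks : (-1 : SL4) =
    emb2 (show (0 : Fin 4) ≠ 1 by decide) (-1 : SL2) * emb2 (show (2 : Fin 4) ≠ 3 by decide) (-1 : SL2) := by
  decide +kernel

theorem sl2_nontrivial : (-1 : SL2) ≠ 1 := by decide +kernel

variable {G : Type*} [Group G]

/-- Two copies of `SL₃(3)` sharing a block, the outer blocks commuting, generate `PSL₄(3)`. -/
theorem glue (ψL ψR : SL3 →* G) (hmid : ψL.comp b23 = ψR.comp b12)
    (hout : ∀ g h : SL2, Commute (ψL (b12 g)) (ψR (b23 h)))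
    (hZ : ψL (b12 (-1)) = ψR (b23 (-1))) (hne : ψL (b12 (-1)) ≠ 1) :
    ∃ f : Matrix.ProjectiveSpecialLinearGroup (Fin 4) (ZMod 3) →* G, Function.Injective f ∧
      f.range = ψL.range ⊔ ψR.range ∧
      ∀ g : SL2, f (QuotientGroup.mk (emb2 (show (0 : Fin 4) ≠ 1 by decide) g)) = ψL (b12 g) ∧
        f (QuotientGroup.mk (emb2 (show (1 : Fin 4) ≠ 2 by decide) g)) = ψL (b23 g) ∧
        f (QuotientGroup.mk (emb2 (show (2 : Fin 4) ≠ 3 by decide) g)) = ψR (b23 g) := by
  let φ : Fin 3 → (SL2 →* G) := ![ψL.comp b12, ψL.comp b23, ψR.comp b23]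
  have hedge : ∀ i j : Fin 3, i.val + 1 = j.val → ∃ ψ : SL3 →* G, ψ.comp b12 = φ i ∧ ψ.comp b23 = φ j := by
    intro i j hij
    fin_cases i <;> fin_cases j <;> simp_all [φ]
    · exact ⟨ψL, rfl, hmid⟩
    · exact ⟨ψR, rfl, rfl⟩
  have hcomm : ∀ i j : Fin 3, i.val + 1 < j.val → ∀ g h, Commute (φ i g) (φ j h) := by
    intro i j hij g h
    fin_cases i <;> fin_cases j <;> simp_all [φ]
  obtain ⟨Φ, hΦ⟩ := an_hom φ hedge hcomm 3 (by omega) le_rfl
  have hb : ∀ (i : Fin 3) (g : SL2), Φ (emb2 (show i.castSucc ≠ i.succ from (Fin.castSucc_lt_succ).ne) g) = φ i g :=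
    fun i g => DFunLike.congr_fun (hΦ i i.isLt) g
  have hker : Subgroup.center SL4 ≤ Φ.ker := fun c hc => by
    rcases center_cases hc with rfl | rfl
    · exact one_mem _
    · rw [MonoidHom.mem_ker, neg_one_blocks, map_mul]
      have h0 := hb 0 (-1)
      have h2 := hb 2 (-1)
      have e : (-1 : SL2) * -1 = 1 := by simp
      calc Φ (emb2 _ (-1 : SL2)) * Φ (emb2 _ (-1 : SL2)) = φ 0 (-1) * φ 2 (-1) := congrArg₂ _ h0 h2
        _ = ψR (b23 (-1)) * ψR (b23 (-1)) := by
          show ψL (b12 (-1)) * _ = _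
          rw [hZ]
          rfl
        _ = 1 := by rw [← map_mul, ← map_mul, e, map_one, map_one]
  haveI := Cfsg.Agent.Small.PSLn.psl_simple (F := ZMod 3) (show 3 ≤ 4 by omega)
  let f : Matrix.ProjectiveSpecialLinearGroup (Fin 4) (ZMod 3) →* G := QuotientGroup.lift _ Φ hker
  refine ⟨f, ?_, ?_, fun g => ⟨hb 0 g, hb 1 g, hb 2 g⟩⟩
  · rw [← MonoidHom.ker_eq_bot_iff]
    refine (IsSimpleGroup.eq_bot_or_eq_top_of_normal f.ker inferInstance).resolve_right fun h => hne ?_
    have h1 : f (QuotientGroup.mk (emb2 (show (0 : Fin 3).castSucc ≠ (0 : Fin 3).succ from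
        (Fin.castSucc_lt_succ).ne) (-1 : SL2))) = 1 := MonoidHom.mem_ker.1 (by rw [h]; trivial)
    exact (hb 0 (-1)).symm.trans h1
  · have hfr : f.range = Φ.range := by
      ext y
      constructor
      · rintro ⟨x, rfl⟩
        obtain ⟨x, rfl⟩ := QuotientGroup.mk_surjective x
        exact ⟨x, rfl⟩
      · rintro ⟨x, rfl⟩
        exact ⟨QuotientGroup.mk x, rfl⟩
    have htv : ∀ i : Fin 3, ∀ t, Φ (tv' i.castSucc i.succ t) = φ i (ue t) ∧ Φ (tv' i.succ i.castSucc t) = φ i (le' t) :=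
      fun i t => by
      rw [← hb, ← hb, emb2_ue, emb2_le']
      exact ⟨rfl, rfl⟩
    have h3 : ∀ ψ : SL3 →* G, ∀ H : Subgroup G, (∀ g, ψ (b12 g) ∈ H) → (∀ g, ψ (b23 g) ∈ H) → ψ.range ≤ H := by
      intro ψ H h12 h23
      rintro _ ⟨x, rfl⟩
      have e12 : ∀ t, ψ (tv' 0 1 t) ∈ H ∧ ψ (tv' 1 0 t) ∈ H := fun t =>
        ⟨by rw [← emb2_ue (show (0 : Fin 3) ≠ 1 by decide) t]; exact h12 _,
          by rw [← emb2_le' (show (0 : Fin 3) ≠ 1 by decide) t]; exact h12 _⟩
      have e23 : ∀ t, ψ (tv' 1 2 t) ∈ H ∧ ψ (tv' 2 1 t) ∈ H := fun t =>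
        ⟨by rw [← emb2_ue (show (1 : Fin 3) ≠ 2 by decide) t]; exact h23 _,
          by rw [← emb2_le' (show (1 : Fin 3) ≠ 2 by decide) t]; exact h23 _⟩
      have hall : ∀ i j : Fin 3, i ≠ j → ∀ t, ψ (tv' i j t) ∈ H := by
        have hc : ∀ i j l : Fin 3, i ≠ j → j ≠ l → i ≠ l → (∀ t, ψ (tv' i j t) ∈ H) → (∀ t, ψ (tv' j l t) ∈ H) →
            ∀ t, ψ (tv' i l t) ∈ H := by
          intro i j l h1 h2 h4 a b t
          have e := tv'_comm3 (F := ZMod 3) h1 h2 h4 t 1
          rw [mul_one] at e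
          have e' : tv' i l t = tv' i j t * tv' j l 1 * (tv' i j t)⁻¹ * (tv' j l 1)⁻¹ := by rw [e]; group
          rw [e', map_mul, map_mul, map_mul, map_inv, map_inv]
          exact H.mul_mem (H.mul_mem (H.mul_mem (a t) (b 1)) (H.inv_mem (a t))) (H.inv_mem (b 1))
        intro i j hij t
        fin_cases i <;> fin_cases j <;> first | exact absurd rfl hij | skip
        · exact (e12 t).1
        · exact hc 0 1 2 (by decide) (by decide) (by decide) (fun t => (e12 t).1) (fun t => (e23 t).1) t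
        · exact (e12 t).2
        · exact (e23 t).1
        · exact hc 2 1 0 (by decide) (by decide) (by decide) (fun t => (e23 t).2) (fun t => (e12 t).2) t
        · exact (e23 t).2
      have hx : x ∈ H.comap ψ := by
        have htop := Cfsg.Agent.Classical.sl_closure_transvections (F := ZMod 3) (ι := Fin 3)
        refine (Subgroup.closure_le (K := H.comap ψ)).2 ?_ (htop ▸ Subgroup.mem_top x)
        rintro _ ⟨i, j, hij, t, rfl⟩
        have := hall i j hij t
        simpa [tv', hij] using this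
      exact hx
    rw [hfr]
    refine le_antisymm ?_ (sup_le ?_ ?_)
    · rintro _ ⟨x, rfl⟩
      have htop := Cfsg.Agent.Classical.sl_closure_transvections (F := ZMod 3) (ι := Fin 4)
      refine (Subgroup.closure_le (K := (ψL.range ⊔ ψR.range).comap Φ)).2 ?_ (htop ▸ Subgroup.mem_top x)
      have hsimple : ∀ i j : Fin 4, i ≠ j → ∀ t, Φ (tv' i j t) ∈ ψL.range ⊔ ψR.range := by
        have hφ : ∀ (i : Fin 3) g, φ i g ∈ ψL.range ⊔ ψR.range := fun i g => by
          fin_cases i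
          · exact Subgroup.mem_sup_left ⟨_, rfl⟩
          · exact Subgroup.mem_sup_left ⟨_, rfl⟩
          · exact Subgroup.mem_sup_right ⟨_, rfl⟩
        have hc : ∀ i j l : Fin 4, i ≠ j → j ≠ l → i ≠ l → (∀ t, Φ (tv' i j t) ∈ ψL.range ⊔ ψR.range) →
            (∀ t, Φ (tv' j l t) ∈ ψL.range ⊔ ψR.range) → ∀ t, Φ (tv' i l t) ∈ ψL.range ⊔ ψR.range := by
          intro i j l h1 h2 h4 a b t
          have e := tv'_comm3 (F := ZMod 3) h1 h2 h4 t 1
          rw [mul_one] at e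
          have e' : tv' i l t = tv' i j t * tv' j l 1 * (tv' i j t)⁻¹ * (tv' j l 1)⁻¹ := by rw [e]; group
          rw [e', map_mul, map_mul, map_mul, map_inv, map_inv]
          exact mul_mem (mul_mem (mul_mem (a t) (b 1)) (inv_mem (a t))) (inv_mem (b 1))
        have p01 : ∀ t, Φ (tv' 0 1 t) ∈ ψL.range ⊔ ψR.range := fun t => (htv 0 t).1 ▸ hφ _ _
        have p10 : ∀ t, Φ (tv' 1 0 t) ∈ ψL.range ⊔ ψR.range := fun t => (htv 0 t).2 ▸ hφ _ _
        have p12 : ∀ t, Φ (tv' 1 2 t) ∈ ψL.range ⊔ ψR.range := fun t => (htv 1 t).1 ▸ hφ _ _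
        have p21 : ∀ t, Φ (tv' 2 1 t) ∈ ψL.range ⊔ ψR.range := fun t => (htv 1 t).2 ▸ hφ _ _
        have p23 : ∀ t, Φ (tv' 2 3 t) ∈ ψL.range ⊔ ψR.range := fun t => (htv 2 t).1 ▸ hφ _ _
        have p32 : ∀ t, Φ (tv' 3 2 t) ∈ ψL.range ⊔ ψR.range := fun t => (htv 2 t).2 ▸ hφ _ _
        have p02 := hc 0 1 2 (by decide) (by decide) (by decide) p01 p12
        have p20 := hc 2 1 0 (by decide) (by decide) (by decide) p21 p10
        have p13 := hc 1 2 3 (by decide) (by decide) (by decide) p12 p23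
        have p31 := hc 3 2 1 (by decide) (by decide) (by decide) p32 p21
        have p03 := hc 0 2 3 (by decide) (by decide) (by decide) p02 p23
        have p30 := hc 3 2 0 (by decide) (by decide) (by decide) p32 p20
        intro i j hij
        fin_cases i <;> fin_cases j <;> first | exact absurd rfl hij | assumption
      rintro _ ⟨i, j, hij, t, rfl⟩
      have := hsimple i j hij t
      simpa [tv', hij] using this
    · refine h3 ψL _ (fun g => ?_) fun g => ?_
      · exact ⟨_, hb 0 g⟩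
      · exact ⟨_, hb 1 g⟩
    · refine h3 ψR _ (fun g => ?_) fun g => ?_
      · exact ⟨_, (hb 1 g).trans (DFunLike.congr_fun hmid g)⟩
      · exact ⟨_, hb 2 g⟩

end Cfsg.Agent.Spor.PSLFourThree
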