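import Cfsg.Agent.Lib.Spor.PSLFourThree.JCase.Sub
import Cfsg.Agent.Lib.Lie.PSpFourThreeFull.TransferFix

/-!
The centraliser of an involution of the second class stays in `PSL₄(3)`.
-/

set_option autoImplicit false
set_option linter.unusedSectionVars false
set_option linter.style.haveILetI false

namespace Cfsg.Agent.Spor.PSLFourThree

open JCase

universe u

/-- The two classes of involutions of `PSL₄(3)`. -/
theorem invol_cases (t : PSLF) (ht : t * t = 1) (ht1 : t ≠ 1) : IsConj sP t ∨ IsConj jP t :=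
  JCase.invol_cases t ht ht1

namespace JCase

/-- A normal form up to sign. -/
def PosU (u : Q2) : Prop :=
  if u.1 = (0, 0) then
    (if u.2.1.1 = 0 then u.2.1.2 = 1 else u.2.1.1 = 1)
  else (if u.1.1 = 0 then u.1.2 = 1 else u.1.1 = 1)

instance : DecidablePred PosU := fun u => by unfold PosU; infer_instance

/-- Representatives of the kernel. -/
def kerReps : Finset Q2 := Finset.univ.filter fun u => InM0 u ∧ PosU u

set_option maxRecDepth 100000 in
theorem card_kerReps : kerReps.card = 720 := by decide +kernel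

set_option maxRecDepth 100000 in
theorem kerReps_cover : ∀ u : Q2, InM0 u →
    (PosU u ∨ PosU (qm (sc (-1, 0)) u)) ∧ ¬ (PosU u ∧ PosU (qm (sc (-1, 0)) u)) := by decide +kernel

theorem card_ker : Nat.card chi.ker = 720 := by
  have e : {u : Q2 // u ∈ kerReps} ≃ chi.ker := Equiv.ofBijective
    (fun u => ⟨⟨pz u.1, pz_mem (Finset.mem_filter.1 u.2).2.1⟩,
      chi_pz (Finset.mem_filter.1 u.2).2.1 _⟩) ⟨?_, ?_⟩
  · rw [← Nat.card_congr e, Nat.card_eq_fintype_card, Fintype.card_coe, card_kerReps]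
  · rintro ⟨u, hu⟩ ⟨v, hv⟩ h
    have h' : pz u = pz v := congrArg (fun z : chi.ker => ((z : P0) : PSLF)) h
    obtain ⟨hu1, hu2⟩ := (Finset.mem_filter.1 hu).2
    obtain ⟨hv1, hv2⟩ := (Finset.mem_filter.1 hv).2
    rw [pz_eq hu1, pz_eq hv1, pr_eq_iff, coe_RS, coe_RS] at h'
    refine Subtype.ext ?_
    rcases h' with q | q
    · exact R_injective q
    · exfalso
      have e' : u = qm (sc (-1, 0)) v := R_injective (by rw [← R_mul, R_neg_one, neg_mul, one_mul]; exact q)
      exact (kerReps_cover v hv1).2 ⟨hv2, e' ▸ hu2⟩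
  · rintro ⟨x, hx⟩
    obtain ⟨u, hu, hxu⟩ := ker_form hx
    rcases (kerReps_cover u hu).1 with h | h
    · exact ⟨⟨u, Finset.mem_filter.2 ⟨Finset.mem_univ _, hu, h⟩⟩, Subtype.ext (Subtype.ext hxu.symm)⟩
    · refine ⟨⟨qm (sc (-1, 0)) u, Finset.mem_filter.2 ⟨Finset.mem_univ _, inM0_mul inM0_consts.2.1 hu, h⟩⟩,
        Subtype.ext (Subtype.ext ?_)⟩
      show pz (qm (sc (-1, 0)) u) = x
      rw [← pz_mul inM0_consts.2.1 hu, pz_neg_one, one_mul, hxu]

theorem divisors_big : ∀ n ∈ Nat.divisors 720, 45 ≤ n → ¬ 4 ∣ n → n = 45 ∨ n = 90 := by decide +kernel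

theorem divisors_eighteen : ∀ n ∈ Nat.divisors 18, n ≡ 1 [MOD 5] → n = 1 ∨ n = 6 := by decide +kernel

theorem cube_mod_five : ∀ r : Fin 5, r.val ^ 3 % 5 = 1 → r.val = 1 := by decide

/-- A group of order ninety with an involution in the centre has an element of order fifteen. -/
theorem exists_fifteen {K : Type u} [Group K] [Finite K] (hK : Nat.card K = 90) {z : K}
    (hz : orderOf z = 2) (hzc : z ∈ Subgroup.center K) :
    ∃ c : K, c ^ 15 = 1 ∧ c ^ 3 ≠ 1 ∧ c ^ 5 ≠ 1 := by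
  haveI : Fact (Nat.Prime 5) := ⟨by norm_num⟩
  haveI : Fact (Nat.Prime 3) := ⟨by norm_num⟩
  obtain ⟨a, ha⟩ := exists_prime_orderOf_dvd_card' (G := K) 5 (by rw [hK]; norm_num)
  obtain ⟨b, hb⟩ := exists_prime_orderOf_dvd_card' (G := K) 3 (by rw [hK]; norm_num)
  set P : Sylow 5 K := default
  have hP : Nat.card (P : Subgroup K) = 5 := by
    rw [Sylow.card_eq_multiplicity, hK, show (90 : ℕ).factorization 5 = 1 by decide +kernel, pow_one]
  have hidx : (P : Subgroup K).index = 18 := by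
    have := Subgroup.card_mul_index (P : Subgroup K)
    rw [hP, hK] at this
    omega
  have h1 : Nat.card (Sylow 5 K) = 1 := by
    have hd := Sylow.card_dvd_index P
    rw [hidx] at hd
    rcases divisors_eighteen _ (Nat.mem_divisors.2 ⟨hd, by norm_num⟩) (card_sylow_modEq_one 5 K) with h | h
    · exact h
    exfalso
    have hN := Subgroup.card_mul_index (Subgroup.normalizer ((P : Subgroup K) : Set K))
    have hi : (Subgroup.normalizer ((P : Subgroup K) : Set K)).index = 6 :=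
      (Sylow.card_eq_index_normalizer P).symm.trans h
    rw [hi, hK] at hN
    have hzN : z ∈ Subgroup.normalizer ((P : Subgroup K) : Set K) := by
      rw [Subgroup.mem_normalizer_iff]
      intro y
      rw [← Subgroup.mem_center_iff.1 hzc y, mul_inv_cancel_right]
    have h2 : orderOf z ∣ Nat.card (Subgroup.normalizer ((P : Subgroup K) : Set K)) := by
      rw [← Subgroup.orderOf_mk z hzN]
      exact orderOf_dvd_natCard _
    rw [hz] at h2
    omega
  haveI : Subsingleton (Sylow 5 K) := (Nat.card_eq_one_iff_unique.1 h1).1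
  haveI hPn : (P : Subgroup K).Normal := inferInstance
  have haP : a ∈ (P : Subgroup K) := by
    obtain ⟨Q, hQ⟩ := (IsPGroup.of_card (p := 5) (G := Subgroup.zpowers a) (n := 1)
      (by rw [Nat.card_zpowers, ha, pow_one])).exists_le_sylow
    rw [Subsingleton.elim P Q]
    exact hQ (Subgroup.mem_zpowers a)
  have hPa : (P : Subgroup K) = Subgroup.zpowers a := by
    refine (Subgroup.eq_of_le_of_card_ge (Subgroup.zpowers_le.2 haP) ?_).symm
    rw [Nat.card_zpowers, ha, hP]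
  have hba : b * a * b⁻¹ ∈ Subgroup.zpowers a := hPa ▸ hPn.conj_mem a haP b
  obtain ⟨k, hk⟩ := (mem_powers_iff_mem_zpowers).2 hba
  simp only at hk
  set r : Fin 5 := ⟨k % 5, Nat.mod_lt _ (by norm_num)⟩ with hr
  have hkr : b * a * b⁻¹ = a ^ r.val := by
    rw [← hk, ← pow_mod_orderOf a k, ha]
  have hiter : ∀ n : ℕ, b ^ n * a * (b ^ n)⁻¹ = a ^ (r.val ^ n) := by
    intro n
    induction n with
    | zero => simp
    | succ n ih =>
      calc b ^ (n + 1) * a * (b ^ (n + 1))⁻¹ = b ^ n * (b * a * b⁻¹) * (b ^ n)⁻¹ := by group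
        _ = (b ^ n * a * (b ^ n)⁻¹) ^ r.val := by rw [hkr, conj_pow]
        _ = _ := by rw [ih, ← pow_mul, ← pow_succ]
  have h3 := hiter 3
  rw [show b ^ 3 = 1 by rw [← hb]; exact pow_orderOf_eq_one b, one_mul, inv_one, mul_one] at h3
  have hr1 : r.val = 1 := by
    refine cube_mod_five r ?_
    have := pow_eq_pow_iff_modEq.1 (show a ^ 1 = a ^ (r.val ^ 3) by rw [pow_one]; exact h3)
    rw [ha] at this
    exact this.symm
  rw [hr1, pow_one, mul_inv_eq_iff_eq_mul] at hkr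
  have hc : Commute a b := hkr.symm
  have a5 : a ^ 5 = 1 := by rw [← ha]; exact pow_orderOf_eq_one a
  have b3 : b ^ 3 = 1 := by rw [← hb]; exact pow_orderOf_eq_one b
  refine ⟨a * b, ?_, ?_, ?_⟩
  · rw [hc.mul_pow, show (15 : ℕ) = 5 * 3 from rfl, pow_mul, a5, one_pow, mul_comm 5 3, pow_mul, b3, one_pow,
      one_mul]
  · rw [hc.mul_pow, b3, mul_one]
    intro h
    have := orderOf_dvd_of_pow_eq_one h
    rw [ha] at this
    omega
  · rw [hc.mul_pow, a5, one_mul]
    intro h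
    have := orderOf_dvd_of_pow_eq_one h
    rw [hb] at this
    omega

/-- A subgroup of the kernel containing the centre and avoiding the involutions of the second kind is small. -/
theorem small_subgroup (D : Subgroup P0) (hDk : D ≤ chi.ker) (hj : (⟨jP, mem_P0.2 rfl⟩ : P0) ∈ D)
    (hT : ∀ x ∈ D, ((x : P0) : PSLF) ∉ Tset) : Nat.card D < 45 := by
  by_contra hlt
  push Not at hlt
  set j : P0 := ⟨jP, mem_P0.2 rfl⟩
  have hjj : j * j = 1 := Subtype.ext jP_sq
  have hj1 : j ≠ 1 := fun h => jP_ne_one (congrArg Subtype.val h)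
  have hinv : ∀ x ∈ D, x * x = 1 → x = 1 ∨ x = j := by
    intro x hx h
    rcases ker_sq (hDk hx) (congrArg Subtype.val h) with q | q | q | q
    · exact Or.inl (Subtype.ext q)
    · exact Or.inr (Subtype.ext q)
    · exact absurd q (hT x hx)
    · exact absurd q (hT (j * x) (mul_mem hj hx))
  have h4 : ¬ 4 ∣ Nat.card D := by
    intro h
    haveI : Fact (Nat.Prime 2) := ⟨Nat.prime_two⟩
    obtain ⟨Q, hQ⟩ := Sylow.exists_subgroup_card_pow_prime (G := D) 2 (n := 2) h
    haveI : Fintype Q := Fintype.ofFinite Q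
    have hle : ∀ q : Q, ((q : D) : P0) = 1 ∨ ((q : D) : P0) = j := by
      intro q
      have hq4 : ((q : D) : P0) ^ 4 = 1 := by
        have := pow_card_eq_one' (x := q)
        rw [hQ] at this
        exact congrArg (fun z : Q => ((z : D) : P0)) this
      have h2 : ((q : D) : P0) ^ 2 * ((q : D) : P0) ^ 2 = 1 := by rw [← pow_add]; exact hq4
      rcases hinv _ (pow_mem (q : D).2 2) h2 with e | e
      · exact hinv _ (q : D).2 (by rw [← pow_two]; exact e)
      · refine absurd ?_ (ker_sq_ne (hDk (q : D).2))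
        rw [pow_two] at e
        exact congrArg Subtype.val e
    have hinj : Function.Injective fun q : Q => decide (((q : D) : P0) = 1) := by
      intro q q' e
      simp only [decide_eq_decide] at e
      refine Subtype.ext (Subtype.ext ?_)
      rcases hle q with h1 | h1 <;> rcases hle q' with h2 | h2
      · rw [h1, h2]
      · exact absurd (h2.symm.trans (e.1 h1)) hj1
      · exact absurd (h1.symm.trans (e.2 h2)) hj1
      · rw [h1, h2]
    have := Fintype.card_le_of_injective _ hinj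
    rw [← Nat.card_eq_fintype_card, hQ, Fintype.card_bool] at this
    omega
  have hdvd : Nat.card D ∣ 720 := card_ker ▸ Subgroup.card_dvd_of_le hDk
  have hj2 : orderOf (⟨j, hj⟩ : D) = 2 :=
    orderOf_eq_prime (Subtype.ext (by rw [Subgroup.coe_pow, pow_two]; exact hjj))
      fun h => hj1 (congrArg Subtype.val h)
  have hev : 2 ∣ Nat.card D := hj2 ▸ orderOf_dvd_natCard _
  rcases divisors_big _ (Nat.mem_divisors.2 ⟨hdvd, by norm_num⟩) hlt h4 with h | h
  · omega
  · have hcen : (⟨j, hj⟩ : D) ∈ Subgroup.center D := by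
      rw [Subgroup.mem_center_iff]
      intro y
      exact Subtype.ext (Subtype.ext (mem_P0.1 (y : P0).2))
    obtain ⟨c, h15, h3, h5⟩ := exists_fifteen h hj2 hcen
    have hk : chi (c : P0) = 1 := hDk c.2
    have e15 : (((c : P0) : PSLF)) ^ 15 = 1 := congrArg (fun z : D => ((z : P0) : PSLF)) h15
    rcases ker_fifteen hk e15 with e | e
    · exact h3 (Subtype.ext (Subtype.ext e))
    · exact h5 (Subtype.ext (Subtype.ext e))

variable {G : Type u} [Group G] (f : PSLF →* G)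

/-- The map of the centralisers. -/
def iota : P0 →* Subgroup.centralizer ({f jP} : Set G) :=
  (f.comp P0.subtype).codRestrict _ fun x => Subgroup.mem_centralizer_singleton_iff.2 (by
    show f (x : PSLF) * f jP = f jP * f (x : PSLF)
    rw [← map_mul, ← map_mul, mem_P0.1 x.2])

theorem coe_iota (x : P0) : (iota f x : G) = f (x : PSLF) := rfl

end JCase

/-- The centraliser of an involution of the second class. -/
theorem cent_j_le {G : Type u} [Group G] [Finite G] (f : PSLF →* G) (hf : Function.Injective f)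
    (hs : ∀ g : G, g * f sP * g⁻¹ ∈ f.range → g ∈ f.range)
    (hsj : ∀ g : G, g * f sP * g⁻¹ ≠ f jP) :
    Subgroup.centralizer ({f jP} : Set G) ≤ f.range := by
  classical
  set H := Subgroup.centralizer ({f jP} : Set G)
  set ι : P0 →* H := iota f
  have hι : Function.Injective ι := fun x y e => Subtype.ext (hf (congrArg Subtype.val e))
  set MH : Subgroup H := ι.range with hMH
  have hmem : ∀ g : H, (g : G) ∈ f.range → g ∈ MH := by
    rintro g ⟨p, hp⟩
    refine ⟨⟨p, mem_P0.2 (hf ?_)⟩, Subtype.ext hp⟩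
    rw [map_mul, map_mul, hp]
    exact Subgroup.mem_centralizer_singleton_iff.1 g.2
  have strong : ∀ t : P0, IsConj sP (t : PSLF) → ∀ g : H, g * ι t * g⁻¹ ∈ MH → g ∈ MH := by
    intro t ht g hg
    obtain ⟨p, hp⟩ := isConj_iff.1 ht
    obtain ⟨y, hy⟩ := hg
    have hy' : f (y : PSLF) = (g : G) * f (t : PSLF) * (g : G)⁻¹ := congrArg Subtype.val hy
    refine hmem g ?_
    have h1 : (g : G) * f p ∈ f.range := hs _ ⟨y, by
      rw [hy', ← hp, map_mul, map_mul, map_inv]; group⟩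
    have := f.range.mul_mem h1 (f.range.inv_mem ⟨p, rfl⟩)
    rwa [mul_inv_cancel_right] at this
  let χH : MH →* A := chi.comp (MonoidHom.ofInjective hι).symm.toMonoidHom
  have hχH : ∀ x : P0, χH ⟨ι x, ⟨x, rfl⟩⟩ = chi x := fun x => by
    show chi ((MonoidHom.ofInjective hι).symm _) = _
    congr 1
    rw [MulEquiv.symm_apply_eq]
    exact Subtype.ext rfl
  set V : H →* A := MonoidHom.transfer χH with hV
  have hsingle : ∀ r : P0, (r : PSLF) * r = 1 → IsConj sP (r : PSLF) → V (ι r) = chi r := by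
    intro r hr hc
    rw [hV, Lie.PSpFourThreeFull.transfer_single χH (r := ι r) ?_ ⟨r, rfl⟩ ?_]
    · exact hχH r
    · rw [← map_mul, show r * r = 1 from Subtype.ext hr, map_one]
    · intro g hg
      exact inv_mem_iff.1 (strong r hc g⁻¹ (by rwa [inv_inv]))
  obtain ⟨h1m, h1s, h1c, h1v⟩ := r1_facts
  obtain ⟨h2m, h2s, h2c, h2v⟩ := r2_facts
  have hVι : ∀ x : P0, V (ι x) = chi x := by
    intro x
    have hk : ∀ y : P0, chi y = 1 → V (ι y) = 1 := fun y hy => hom_ker (V.comp ι) hy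
    have hgen : ∃ y : P0, chi y = chi x ∧ V (ι y) = chi y := by
      rcases four_cases (chi x) with e | e | e | e
      · exact ⟨1, by rw [e, map_one], by simp⟩
      · exact ⟨⟨r1, h1m⟩, by rw [e, h1v], hsingle _ h1s h1c⟩
      · exact ⟨⟨r2, h2m⟩, by rw [e, h2v], hsingle _ h2s h2c⟩
      · exact ⟨⟨r1, h1m⟩ * ⟨r2, h2m⟩, by rw [e, map_mul, h1v, h2v], by
          rw [map_mul, map_mul, map_mul, hsingle _ h1s h1c, hsingle _ h2s h2c]⟩
    obtain ⟨y, hy, hVy⟩ := hgen
    have := hk (x * y⁻¹) (by rw [map_mul, map_inv, hy, mul_inv_cancel])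
    rw [map_mul, map_mul, map_inv, map_inv, mul_inv_eq_one] at this
    rw [this, hVy, hy]
  set H0 : Subgroup H := V.ker
  set M0 : Subgroup H0 := MH.subgroupOf H0
  have hT0 : ∀ t ∈ Tset, ∃ h : t ∈ P0, IsConj sP t ∧ ι ⟨t, h⟩ ∈ H0 := fun t ht => by
    obtain ⟨hc, -, hm, hx⟩ := Tset_spec ht
    exact ⟨hm, hc, MonoidHom.mem_ker.2 ((hVι _).trans hx)⟩
  suffices hmain : H0 ≤ MH by
    intro g hg
    have hsurj : ∃ y : P0, chi y = V ⟨g, hg⟩ := by
      rcases four_cases (V ⟨g, hg⟩) with e | e | e | e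
      · exact ⟨1, by rw [e, map_one]⟩
      · exact ⟨⟨r1, h1m⟩, by rw [e, h1v]⟩
      · exact ⟨⟨r2, h2m⟩, by rw [e, h2v]⟩
      · exact ⟨⟨r1, h1m⟩ * ⟨r2, h2m⟩, by rw [e, map_mul, h1v, h2v]⟩
    obtain ⟨y, hy⟩ := hsurj
    have hin : (⟨g, hg⟩ : H) * (ι y)⁻¹ ∈ H0 := by
      rw [MonoidHom.mem_ker, map_mul, map_inv, hVι, hy, mul_inv_cancel]
    obtain ⟨z, hz⟩ := MH.mul_mem (hmain hin) (show ι y ∈ MH from ⟨y, rfl⟩)
    rw [inv_mul_cancel_right] at hz
    exact ⟨(z : PSLF), congrArg Subtype.val hz⟩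
  by_contra hne
  obtain ⟨g₀, hg₀, hg₀M⟩ := SetLike.not_le_iff_exists.1 hne
  haveI := Fintype.ofFinite (H0 ⧸ M0)
  set base : H0 ⧸ M0 := QuotientGroup.mk 1
  have hbase : ∀ g : H0, (g : H) ∈ MH ↔ (QuotientGroup.mk g : H0 ⧸ M0) = base := fun g => by
    rw [QuotientGroup.eq, mul_one, inv_mem_iff, Subgroup.mem_subgroupOf]
  set τ : {t // t ∈ Tset} → H0 := fun t => ⟨ι ⟨t.1, (hT0 t.1 t.2).choose⟩, (hT0 t.1 t.2).choose_spec.2⟩
  set Ψ : (H0 ⧸ M0) × {t // t ∈ Tset} → H0 := fun w => w.1.out * τ w.2 * w.1.out⁻¹ with hΨ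
  have hstr : ∀ (t : {t // t ∈ Tset}) (g : H0), ((g * τ t * g⁻¹ : H0) : H) ∈ MH → (g : H) ∈ MH :=
    fun t g hg => strong _ (hT0 t.1 t.2).choose_spec.1 g hg
  have hτM : ∀ t, ((τ t : H0) : H) ∈ MH := fun t => ⟨_, rfl⟩
  have hΨinj : Function.Injective Ψ := by
    rintro ⟨q, t⟩ ⟨q', t'⟩ e
    simp only [hΨ] at e
    have e' : q'.out⁻¹ * q.out * τ t * (q'.out⁻¹ * q.out)⁻¹ = τ t' := by
      calc _ = q'.out⁻¹ * (q.out * τ t * q.out⁻¹) * q'.out := by group
        _ = _ := by rw [e]; group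
    have hm := hstr t _ (e' ▸ hτM t')
    have hq : q = q' := by
      rw [← QuotientGroup.out_eq' q, ← QuotientGroup.out_eq' q', eq_comm, QuotientGroup.eq]
      exact hm
    subst hq
    simp only [inv_mul_cancel, one_mul, inv_one, mul_one] at e'
    have e'' : f t.1 = f t'.1 := congrArg (fun z : H0 => ((z : H) : G)) e'
    exact Prod.ext rfl (Subtype.ext (hf e''))
  set Out := (Finset.univ : Finset (H0 ⧸ M0)).erase base with hOut
  have hcard : Out.card * 45 ≤ (Out ×ˢ (Finset.univ : Finset {t // t ∈ Tset})).card := by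
    rw [Finset.card_product, Finset.card_univ, Fintype.card_coe, card_Tset]
  have hmaps : ∀ w ∈ Out ×ˢ (Finset.univ : Finset {t // t ∈ Tset}), (QuotientGroup.mk (Ψ w) : H0 ⧸ M0) ∈ Out := by
    intro w hw
    refine Finset.mem_erase.2 ⟨fun h => ?_, Finset.mem_univ _⟩
    have hm := hstr w.2 _ ((hbase _).2 h)
    rw [hbase, QuotientGroup.out_eq'] at hm
    exact (Finset.mem_erase.1 (Finset.mem_product.1 hw).1).1 hm
  have hOne : Out.Nonempty := ⟨QuotientGroup.mk (⟨g₀, hg₀⟩ : H0), Finset.mem_erase.2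
    ⟨fun h => hg₀M ((hbase ⟨g₀, hg₀⟩).2 h), Finset.mem_univ _⟩⟩
  obtain ⟨q₀, hq₀, hfib⟩ := Finset.exists_le_card_fiber_of_mul_le_card_of_maps_to hmaps hOne hcard
  set Fib := (Out ×ˢ (Finset.univ : Finset {t // t ∈ Tset})).filter
    fun w => (QuotientGroup.mk (Ψ w) : H0 ⧸ M0) = q₀ with hFib
  obtain ⟨w₀, hw₀⟩ : Fib.Nonempty := Finset.card_pos.1 (lt_of_lt_of_le (by norm_num) hfib)
  set x₀ : H := ((Ψ w₀ : H0) : H) with hx₀
  have hΨsq : ∀ w, ((Ψ w : H0) : H) * ((Ψ w : H0) : H) = 1 := by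
    intro w
    have ht : τ w.2 * τ w.2 = 1 := by
      refine Subtype.ext (Subtype.ext ?_)
      show f w.2.1 * f w.2.1 = 1
      rw [← map_mul, (Tset_spec w.2.2).2.1, map_one]
    have : Ψ w * Ψ w = 1 := by
      calc Ψ w * Ψ w = w.1.out * (τ w.2 * τ w.2) * w.1.out⁻¹ := by simp only [hΨ]; group
        _ = 1 := by rw [ht]; group
    exact congrArg Subtype.val this
  have hx₀M : x₀ ∉ MH := by
    intro h
    rw [hx₀, hbase] at h
    exact (Finset.mem_erase.1 (hmaps w₀ (Finset.mem_filter.1 hw₀).1)).1 h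
  have hx₀inv : x₀⁻¹ = x₀ := inv_eq_of_mul_eq_one_right (hΨsq w₀)
  set D : Subgroup P0 := chi.ker ⊓ MH.comap ((MulAut.conj x₀).toMonoidHom.comp ι) with hD
  have hsmall : Nat.card D < 45 := by
    refine small_subgroup D inf_le_left ⟨MonoidHom.mem_ker.2 ?_, ?_⟩ ?_
    · rw [show (⟨jP, mem_P0.2 rfl⟩ : P0) = ⟨pz (sc (0, 1)), pz_mem inM0_consts.2.2.1⟩ from Subtype.ext pz_i.symm]
      exact chi_pz inM0_consts.2.2.1 _
    · refine ⟨⟨jP, mem_P0.2 rfl⟩, Subtype.ext ?_⟩
      show f jP = (x₀ : G) * f jP * (x₀ : G)⁻¹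
      rw [Subgroup.mem_centralizer_singleton_iff.1 x₀.2, mul_inv_cancel_right]
    · rintro x ⟨-, hxM⟩ hxT
      exact hx₀M (strong x (Tset_spec hxT).1 x₀ hxM)
  refine absurd hsmall (not_lt.2 (le_trans hfib ?_))
  have hd : ∀ w ∈ Fib, ∃ d : P0, d ∈ D ∧ ι d = x₀ * ((Ψ w : H0) : H) := by
    intro w hw
    have hq : (QuotientGroup.mk (Ψ w₀) : H0 ⧸ M0) = QuotientGroup.mk (Ψ w) :=
      (Finset.mem_filter.1 hw₀).2.trans (Finset.mem_filter.1 hw).2.symm
    rw [QuotientGroup.eq, Subgroup.mem_subgroupOf, Subgroup.coe_mul, Subgroup.coe_inv, ← hx₀, hx₀inv] at hq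
    obtain ⟨d, hd⟩ := hq
    refine ⟨d, ⟨MonoidHom.mem_ker.2 ?_, ?_⟩, hd⟩
    · rw [← hVι, hd, map_mul, MonoidHom.mem_ker.1 (Ψ w₀).2, MonoidHom.mem_ker.1 (Ψ w).2, one_mul]
    · show x₀ * ι d * x₀⁻¹ ∈ MH
      have e : x₀ * ι d * x₀⁻¹ = (ι d)⁻¹ := by
        have hww := hΨsq w
        rw [hd, mul_inv_rev, hx₀inv, inv_eq_of_mul_eq_one_right hww, ← mul_assoc x₀ x₀,
          show x₀ * x₀ = 1 from hΨsq w₀, one_mul]
      rw [e]
      exact MH.inv_mem ⟨d, rfl⟩
  haveI := Fintype.ofFinite D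
  rw [Nat.card_eq_fintype_card, ← Fintype.card_coe]
  refine Fintype.card_le_of_injective (fun w => (⟨(hd w.1 w.2).choose, (hd w.1 w.2).choose_spec.1⟩ : D)) ?_
  intro w w' e
  have e' := congrArg (fun z : D => ι (z : P0)) e
  simp only [(hd w.1 w.2).choose_spec.2, (hd w'.1 w'.2).choose_spec.2] at e'
  exact Subtype.ext (hΨinj (Subtype.ext (mul_left_cancel e')))

end Cfsg.Agent.Spor.PSLFourThree
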