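import Cfsg.Agent.Lib.Spor.PSLFourThree.Radical
import Cfsg.Agent.S0051

/-!
A Levi complement containing the involution and the inverted part of the other radical.
-/

set_option autoImplicit false
set_option linter.unusedSectionVars false
set_option linter.style.haveILetI false
set_option maxRecDepth 100000

namespace Cfsg.Agent.Spor.PSLFourThree

open Cfsg.Agent.Lie.CTA Matrix

/-- The upper unitriangular matrices. -/
def UT : Subgroup L3 where
  carrier := {g | g.1 1 0 = 0 ∧ g.1 2 0 = 0 ∧ g.1 2 1 = 0 ∧ g.1 0 0 = 1 ∧ g.1 1 1 = 1 ∧ g.1 2 2 = 1}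
  one_mem' := by decide
  mul_mem' := by
    rintro a b ⟨a1, a2, a3, a4, a5, a6⟩ ⟨b1, b2, b3, b4, b5, b6⟩
    simp only [Set.mem_setOf_eq, Matrix.SpecialLinearGroup.coe_mul, Matrix.mul_apply, Fin.sum_univ_three]
    simp [a1, a2, a3, a4, a5, a6, b1, b2, b3, b4, b5, b6]
  inv_mem' := by
    intro a ha
    have key : ∀ (x y w : ZMod 3), ∃ p q r : ZMod 3,
        (!![1, x, y; 0, 1, w; 0, 0, 1] : Matrix (Fin 3) (Fin 3) (ZMod 3)) * !![1, p, q; 0, 1, r; 0, 0, 1] = 1 := by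
      decide +kernel
    obtain ⟨a1, a2, a3, a4, a5, a6⟩ := ha
    have e : a.1 = !![1, a.1 0 1, a.1 0 2; 0, 1, a.1 1 2; 0, 0, 1] := by
      ext i j; fin_cases i <;> fin_cases j <;> simp [a1, a2, a3, a4, a5, a6]
    obtain ⟨p, q, r, hpq⟩ := key (a.1 0 1) (a.1 0 2) (a.1 1 2)
    let b : L3 := ⟨!![1, p, q; 0, 1, r; 0, 0, 1], by rw [det_fin_three]; simp⟩
    have hinv : a⁻¹ = b :=
      inv_eq_of_mul_eq_one_right (Subtype.ext (by
        show a.1 * !![1, p, q; 0, 1, r; 0, 0, 1] = 1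
        rw [e]; exact hpq))
    rw [hinv]
    exact ⟨rfl, rfl, rfl, rfl, rfl, rfl⟩

/-- The middle unipotent element. -/
def u12 : L3 := ⟨!![1, 0, 0; 0, 1, 1; 0, 0, 1], by decide⟩

/-- A lower middle unipotent element. -/
def l21 : L3 := ⟨!![1, 0, 0; 0, 1, 0; 0, 1, 1], by decide⟩

/-- The middle Weyl element. -/
def wW : L3 := ⟨!![1, 0, 0; 0, 0, -1; 0, 1, 0], by decide⟩

/-- The cyclic shift. -/
def cyc : L3 := ⟨!![0, 0, 1; 1, 0, 0; 0, 1, 0], by decide⟩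

theorem mid_facts : cyc * uu 1 0 * cyc⁻¹ = u12 ∧ dt * u12 * dt = u12 ∧ u12.1 *ᵥ b0 = b0 ∧
    (1 + u12.1 + u12.1 * u12.1 = 0) ∧ l21 * uu 1 0 * l21⁻¹ = uu 1 0 ∧ dt * l21 = l21 * dt ∧ l21.1 *ᵥ b0 = b0 ∧
    wW * uu 1 0 * wW⁻¹ = uu 0 1 ∧ dt * wW = wW * dt ∧ wW.1 *ᵥ b0 = b0 := by decide +kernel

theorem ut_form : ∀ a b : ZMod 3, ∀ c : Fin 3, uu a b * u12 ^ c.val = 1 → a = 0 ∧ b = 0 ∧ c = 0 := by decide +kernel

theorem ut_words : ∀ g : Fin 3 → ZMod 3, ∃ (a b : ZMod 3) (c : Fin 3),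
    (uu a b * u12 ^ c.val).1 = !![1, g 0, g 1; 0, 1, g 2; 0, 0, 1] := by decide +kernel

theorem ut_mem : ∀ (a b : ZMod 3), uu a b ∈ UT ∧ u12 ∈ UT := fun a b =>
  ⟨⟨rfl, rfl, rfl, rfl, rfl, rfl⟩, ⟨rfl, rfl, rfl, rfl, rfl, rfl⟩⟩

theorem neg_eq_self_zero : ∀ a : ZMod 3, -a = a → a = 0 := by decide

theorem uu_neg10 : uu (-1) (-0) = (uu 1 0)⁻¹ := by decide +kernel

theorem add_self_neg : ∀ a : ZMod 3, a + a = -a ∧ -a + -a = a := by decide

theorem inverted_solve : ∀ x : V, dt.1 *ᵥ x = (uu (-1) 0).1 *ᵥ (-x) → l21.1 *ᵥ x = x →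
    x + (uu 1 0).1 *ᵥ (wW.1 *ᵥ x) = wW.1 *ᵥ x + (uu 0 1).1 *ᵥ x → x = 0 := by decide +kernel

theorem uu_gen : ∀ a b : ZMod 3, uu a b = uu 1 0 ^ a.val * uu 0 1 ^ b.val := by decide +kernel

theorem vec_gen : ∀ a b : ZMod 3, (![0, a, b] : V) = a.val • ![0, 1, 0] + b.val • ![0, 0, 1] := by decide +kernel

theorem dt_axis : ∀ A : Matrix (Fin 3) (Fin 3) (ZMod 3), A *ᵥ b0 = b0 → A *ᵥ ![0, 1, 0] = -![0, 1, 0] →
    A *ᵥ ![0, 0, 1] = -![0, 0, 1] → A = dt.1 := by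
  intro A h0 h1 h2
  ext i j
  have e0 := congrFun h0 i
  have e1 := congrFun h1 i
  have e2 := congrFun h2 i
  simp [b0, Matrix.mulVec, dotProduct, Fin.sum_univ_three] at e0 e1 e2
  fin_cases i <;> fin_cases j <;> simp_all [dt]

namespace Frame

variable {G : Type*} [Group G] [Finite G] (F : Frame G)

theorem t_inv : F.t⁻¹ = F.t := inv_eq_of_mul_eq_one_right F.tt

theorem t_conj_z : F.t * F.z * F.t = F.z := by
  rw [F.mem_C.1 F.tC, mul_assoc, F.tt, mul_one]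

/-- The involution in the coordinates of the right side. -/
theorem tR : F.R.π ⟨F.t, F.CR F.tC⟩ = dt := by
  refine Subtype.ext (dt_axis _ ?_ ?_ ?_)
  · refine (F.R.comm_iff ⟨F.t, F.CR F.tC⟩ b0).1 ?_
    rw [F.zR]
    exact F.mem_C.1 F.tC
  all_goals
    apply F.R.v_inj
    rw [← F.R.act', F.R.v_neg, F.t_inv]
    exact F.rinv _ _

theorem r_mem_L (a b : ZMod 3) : F.R.v ![0, a, b] ∈ F.L.M := F.CL (F.toPara.A_le_C (F.R.v_mem _))

theorem conj_t (x : V) : F.t * F.L.v x * F.t = F.L.v (dt.1 *ᵥ x) := by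
  have := F.L.act' ⟨F.t, F.CL F.tC⟩ x
  rw [F.tL] at this
  rwa [F.t_inv] at this

/-- The middle unipotent element lifts into the centraliser of the involution with order three. -/
theorem exists_y : ∃ y : F.L.M, F.L.π y = u12 ∧ (y : G) ^ 3 = 1 ∧ F.t * (y : G) = (y : G) * F.t := by
  obtain ⟨g, hg⟩ := F.L.surj u12
  obtain ⟨x, hx⟩ := F.L.eq_mul_v (g := ⟨F.t, F.CL F.tC⟩ * g * ⟨F.t, F.CL F.tC⟩) (h := g)
    (by rw [map_mul, map_mul, F.tL, hg, mid_facts.2.1])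
  have hx' : F.t * (g : G) * F.t = F.L.v x * g := hx
  have hdx : dt.1 *ᵥ x = -x := by
    apply F.L.v_inj
    have h1 : F.t * (F.t * (g : G) * F.t) * F.t = g := by
      calc _ = (F.t * F.t) * (g : G) * (F.t * F.t) := by group
        _ = _ := by rw [F.tt, one_mul, mul_one]
    rw [hx', show F.t * (F.L.v x * g) * F.t = (F.t * F.L.v x * F.t) * (F.t * g * F.t) by
      calc _ = F.t * F.L.v x * (F.t * F.t) * g * F.t := by rw [F.tt]; group
        _ = _ := by group, F.conj_t, hx', ← mul_assoc, ← F.L.v_add, mul_eq_right, F.L.v_add] at h1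
    rw [F.L.v_neg]
    exact eq_inv_of_mul_eq_one_left h1
  set y : F.L.M := ⟨F.L.v (-x), F.L.le (F.L.v_mem _)⟩ * g with hy
  have hyπ : F.L.π y = u12 := by
    rw [hy, map_mul, (F.L.ker _).2 (F.L.v_mem _), one_mul, hg]
  refine ⟨y, hyπ, ?_, ?_⟩
  · obtain ⟨m, hm⟩ := F.L.surj cyc
    set p : F.L.M := m * ⟨_, F.r_mem_L 1 0⟩ * m⁻¹ with hp
    have hpπ : F.L.π p = u12 := by
      rw [hp, map_mul, map_mul, map_inv, hm, F.rimg, mid_facts.1]
    have hp3 : (p : G) ^ 3 = 1 := by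
      rw [hp, Subgroup.coe_mul, Subgroup.coe_mul, Subgroup.coe_inv, conj_pow, F.R.v_cube, mul_one, mul_inv_cancel]
    obtain ⟨w, hw⟩ := F.L.eq_mul_v (g := y) (h := p) (by rw [hyπ, hpπ])
    rw [hw]
    calc (F.L.v w * (p : G)) ^ 3 = F.L.v w * ((p : G) * F.L.v w * (p : G)⁻¹) *
          ((p : G) * ((p : G) * F.L.v w * (p : G)⁻¹) * (p : G)⁻¹) * (p : G) ^ 3 := by
            simp only [pow_succ, pow_zero, one_mul]
            group
      _ = 1 := by
        rw [hp3, F.L.act', F.L.act', hpπ, ← F.L.v_add, ← F.L.v_add, mul_one, mulVec_mulVec]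
        conv_lhs => rw [← one_mulVec w]
        rw [mulVec_mulVec, mulVec_mulVec, mul_one, mul_one, ← add_mulVec, ← add_mulVec, mid_facts.2.2.2.1,
          zero_mulVec, F.L.v_zero]
  · show F.t * (F.L.v (-x) * g) = F.L.v (-x) * g * F.t
    calc F.t * (F.L.v (-x) * g) = (F.t * F.L.v (-x) * F.t) * (F.t * g * F.t) * F.t := by
          calc _ = F.t * F.L.v (-x) * (F.t * F.t) * g * (F.t * F.t) := by rw [F.tt]; group
            _ = _ := by group
      _ = _ := by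
        rw [F.conj_t, hx', ← mul_assoc, ← F.L.v_add, mulVec_neg, hdx, neg_neg,
          show x + x = -x from funext fun i => (add_self_neg (x i)).1]

/-- The Levi complement. -/
theorem exists_levi : ∃ s : L3 →* G, (∀ x, ∃ h : s x ∈ F.L.M, F.L.π ⟨s x, h⟩ = x) ∧ s dt = F.t ∧
    ∀ a b, s (uu a b) = F.R.v ![0, a, b] := by
  classical
  haveI : Fact (Nat.Prime 3) := ⟨Nat.prime_three⟩
  let K : Subgroup F.L.M := F.L.A.subgroupOf F.L.M
  have hKker : K = F.L.π.ker := by ext g; exact (F.L.ker g).symm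
  haveI : K.Normal := hKker ▸ inferInstance
  haveI : IsMulCommutative K := ⟨⟨fun a b => Subtype.ext (Subtype.ext (F.L.A_comm a.2 b.2))⟩⟩
  set U : Subgroup F.L.M := UT.comap F.L.π with hU
  have hKU : K ≤ U := fun g hg => by
    show F.L.π g ∈ UT
    rw [(F.L.ker g).2 hg]
    exact UT.one_mem
  obtain ⟨y, hyπ, hy3, hyt⟩ := F.exists_y
  let rh : Multiplicative (ZMod 3 × ZMod 3) →* F.L.M :=
    MonoidHom.mk' (fun w => ⟨_, F.r_mem_L w.toAdd.1 w.toAdd.2⟩) fun w w' => Subtype.ext (by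
      show F.R.v _ = F.R.v _ * F.R.v _
      rw [← F.R.v_add]
      exact congrArg F.R.v (funext fun i => by fin_cases i <;> simp))
  set W := rh.range with hW
  have hWmem : ∀ g : F.L.M, g ∈ W ↔ ∃ a b, (g : G) = F.R.v ![0, a, b] := fun g =>
    ⟨fun ⟨w, hw⟩ => ⟨_, _, congrArg Subtype.val hw.symm⟩,
      fun ⟨a, b, h⟩ => ⟨Multiplicative.ofAdd (a, b), Subtype.ext h.symm⟩⟩
  have hyC : (y : G) ∈ Subgroup.centralizer ({F.z} : Set G) :=
    (F.toPara.fix_iff F.zL y).2 (by rw [hyπ]; exact mid_facts.2.2.1)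
  have hWn : y ∈ Subgroup.normalizer (W : Set F.L.M) := by
    rw [Subgroup.mem_normalizer_iff_map_conj_eq]
    refine Subgroup.eq_of_le_of_card_ge ?_ (by rw [Subgroup.card_map_of_injective (MulEquiv.injective _)])
    rintro _ ⟨g, hg, rfl⟩
    obtain ⟨a, b, hab⟩ := (hWmem g).1 hg
    refine (hWmem _).2 ?_
    have h1 := F.R.conj_mem (F.CR hyC) (show (g : G) ∈ F.R.A by rw [hab]; exact F.R.v_mem _)
    obtain ⟨v, hv⟩ := F.R.exists_v h1
    refine ⟨v 1, v 2, ?_⟩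
    show (y : G) * g * (y : G)⁻¹ = _
    have hinv : F.t * F.R.v v * F.t = (F.R.v v)⁻¹ := by
      rw [hv, hab]
      calc F.t * ((y : G) * F.R.v ![0, a, b] * (y : G)⁻¹) * F.t
          = F.t * (y : G) * F.R.v ![0, a, b] * ((y : G)⁻¹ * F.t) := by group
        _ = (y : G) * (F.t * F.R.v ![0, a, b] * F.t) * (y : G)⁻¹ := by
            rw [hyt, (show Commute F.t (y : G) from hyt).inv_right.symm.eq]; group
        _ = _ := by rw [F.rinv, _root_.mul_inv_rev, _root_.mul_inv_rev, inv_inv]; group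
    have hv0 : v 0 = 0 := by
      have e := F.R.act' ⟨F.t, F.CR F.tC⟩ v
      rw [F.t_inv, hinv, F.tR, ← F.R.v_neg] at e
      have := congrFun (F.R.v_inj e) 0
      revert this
      simp [dt, Matrix.mulVec, dotProduct, Fin.sum_univ_three]
      exact neg_eq_self_zero (v 0)
    rw [← hv]
    exact congrArg F.R.v (funext fun i => by fin_cases i <;> simp [hv0])
  have hy3' : y ^ 3 = 1 := Subtype.ext (by rw [SubgroupClass.coe_pow]; exact hy3)
  set A' := W ⊔ Subgroup.zpowers y with hA'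
  have hA'mem : ∀ g ∈ A', ∃ (a b : ZMod 3) (c : Fin 3), g = rh (Multiplicative.ofAdd (a, b)) * y ^ c.val := by
    intro g hg
    rw [hA', ← SetLike.mem_coe, Subgroup.coe_mul_of_right_le_normalizer_left W _ (Subgroup.zpowers_le.2 hWn)] at hg
    obtain ⟨w, ⟨v, rfl⟩, q, hq, rfl⟩ := Set.mem_mul.1 hg
    obtain ⟨n, rfl⟩ := (isOfFinOrder_of_finite y).mem_powers_iff_mem_zpowers.2 hq
    refine ⟨v.toAdd.1, v.toAdd.2, ⟨n % 3, Nat.mod_lt _ (by norm_num)⟩, ?_⟩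
    show rh v * y ^ n = _
    congr 1
    exact pow_eq_pow_mod n hy3'
  have himg : ∀ (a b : ZMod 3) (c : Fin 3), F.L.π (rh (Multiplicative.ofAdd (a, b)) * y ^ c.val) = uu a b * u12 ^ c.val :=
    fun a b c => by rw [map_mul, map_pow, hyπ]; exact congrArg (· * _) (F.rimg a b _)
  have hA'U : A' ≤ U := by
    intro g hg
    obtain ⟨a, b, c, rfl⟩ := hA'mem g hg
    show F.L.π _ ∈ UT
    rw [himg]
    exact UT.mul_mem (ut_mem a b).1 (UT.pow_mem (ut_mem a b).2 _)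
  have hA'K : A' ⊓ K = ⊥ := by
    rw [eq_bot_iff]
    rintro g ⟨hg, hgK⟩
    obtain ⟨a, b, c, rfl⟩ := hA'mem g hg
    have h1 := (F.L.ker _).2 (Subgroup.mem_subgroupOf.1 hgK)
    rw [himg] at h1
    obtain ⟨rfl, rfl, rfl⟩ := ut_form a b c h1
    rw [Subgroup.mem_bot, show rh (Multiplicative.ofAdd ((0 : ZMod 3), (0 : ZMod 3))) = 1 from map_one rh]
    simp
  have hKA : K ⊔ A' = U := by
    refine le_antisymm (sup_le hKU hA'U) fun g hg => ?_
    obtain ⟨h1, h2, h3, h4, h5, h6⟩ := (show F.L.π g ∈ UT from hg)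
    obtain ⟨a, b, c, e⟩ := ut_words ![(F.L.π g).1 0 1, (F.L.π g).1 0 2, (F.L.π g).1 1 2]
    set g' := rh (Multiplicative.ofAdd (a, b)) * y ^ c.val with hg'
    have hg'A : g' ∈ A' := Subgroup.mul_mem _ (Subgroup.mem_sup_left ⟨_, rfl⟩)
      (Subgroup.pow_mem _ (Subgroup.mem_sup_right (Subgroup.mem_zpowers y)) _)
    have he : F.L.π g = F.L.π g' := by
      rw [hg', himg]
      refine Subtype.ext ?_
      rw [e]
      ext i j
      fin_cases i <;> fin_cases j <;> simp [h1, h2, h3, h4, h5, h6]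
    rw [show g = g * g'⁻¹ * g' by group]
    refine Subgroup.mul_mem_sup ?_ hg'A
    exact Subgroup.mem_subgroupOf.2 ((F.L.ker _).1 (by rw [map_mul, map_inv, he, mul_inv_cancel]))
  have hKc : Nat.card K = 27 := by
    rw [Nat.card_congr (Subgroup.subgroupOfEquivOfLe F.L.le).toEquiv, F.L.card_A]
  have hUc : Nat.card U = 729 := by
    have hUT : Nat.card UT = 27 := by
      rw [← show Nat.card (Fin 3 → ZMod 3) = 27 by rw [Nat.card_eq_fintype_card]; rfl]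
      refine Nat.card_congr ⟨fun g => ![g.1.1 0 1, g.1.1 0 2, g.1.1 1 2],
        fun v => ⟨⟨!![1, v 0, v 1; 0, 1, v 2; 0, 0, 1], by rw [det_fin_three]; simp⟩, ⟨rfl, rfl, rfl, rfl, rfl, rfl⟩⟩, ?_, ?_⟩
      · intro g
        obtain ⟨h1, h2, h3, h4, h5, h6⟩ := g.2
        refine Subtype.ext (Subtype.ext ?_)
        ext i j
        fin_cases i <;> fin_cases j <;> simp [h1, h2, h3, h4, h5, h6]
      · intro v
        funext i
        fin_cases i <;> simp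
    have h1 := (UT.comap F.L.π).card_mul_index
    rw [Subgroup.index_comap_of_surjective _ F.L.surj, ← hU] at h1
    have h2 := F.L.π.ker.card_mul_index
    rw [Subgroup.index_ker, MonoidHom.range_eq_top.2 F.L.surj, Subgroup.card_top, ← hKker, hKc] at h2
    have h3 := UT.card_mul_index
    rw [hUT] at h3
    have hi : 0 < UT.index := Nat.pos_of_ne_zero Subgroup.index_ne_zero_of_finite
    refine Nat.eq_of_mul_eq_mul_right hi ?_
    rw [h1, ← h2, ← h3]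
    ring
  have hcop : (Nat.card K).Coprime U.index := by
    rw [hKc]
    refine (Nat.Coprime.pow_left 3 ((Nat.Prime.coprime_iff_not_dvd Nat.prime_three).2 fun h3 => ?_) : (3 ^ 3).Coprime _)
    have hd : 3 ^ 7 ∣ Nat.card F.L.M := by
      rw [← U.card_mul_index, hUc, show 3 ^ 7 = 729 * 3 from rfl]
      exact Nat.mul_dvd_mul_left _ h3
    obtain ⟨P, hP⟩ := Sylow.exists_subgroup_card_pow_prime 3 hd
    have := F.syl _ ((IsPGroup.of_card hP).map F.L.M.subtype)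
    rw [Subgroup.card_map_of_injective (Subgroup.subtype_injective _), hP] at this
    norm_num at this
  obtain ⟨H, hH⟩ := S0051.result K U hKU hcop A' hA'U hA'K hKA
  have hbij : Function.Bijective (F.L.π.comp H.subtype) := by
    constructor
    · refine (injective_iff_map_eq_one _).2 fun g hg => ?_
      have : (g : F.L.M) ∈ K ⊓ H := ⟨(F.L.ker g).1 hg, g.2⟩
      rw [hH.disjoint.eq_bot] at this
      exact Subtype.ext this
    · intro x
      obtain ⟨g, hg⟩ := F.L.surj x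
      obtain ⟨⟨k, h⟩, e⟩ := hH.2 g
      refine ⟨h, ?_⟩
      show F.L.π (h : F.L.M) = x
      rw [← hg, ← e, map_mul, (F.L.ker _).2 k.2, one_mul]
  set s0 : L3 →* F.L.M := H.subtype.comp (MulEquiv.ofBijective _ hbij).symm.toMonoidHom with hs0
  have hs0π : ∀ x, F.L.π (s0 x) = x := fun x => (MulEquiv.ofBijective _ hbij).apply_symm_apply x
  set t' : G := (s0 dt : G) with ht'
  have t'sq : t' * t' = 1 := by
    rw [ht', ← Subgroup.coe_mul, ← map_mul, dt_facts.2.1, map_one]; rfl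
  obtain ⟨x, hx⟩ := F.L.eq_mul_v (g := ⟨F.t, F.CL F.tC⟩) (h := s0 dt) (by rw [F.tL, hs0π])
  have hx' : F.t = F.L.v x * t' := hx
  have ht'x : t' * F.L.v x * t' = F.L.v (-x) := by
    have h1 := F.tt
    rw [hx'] at h1
    rw [F.L.v_neg]
    refine eq_inv_of_mul_eq_one_right ?_
    rw [← h1]
    group
  set c := F.L.v (-x) with hc
  let s : L3 →* G := (MulAut.conj c).toMonoidHom.comp (F.L.M.subtype.comp s0)
  have hsπ : ∀ q, ∃ h : s q ∈ F.L.M, F.L.π ⟨s q, h⟩ = q := fun q => by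
    refine ⟨F.L.M.mul_mem (F.L.M.mul_mem (F.L.le (F.L.v_mem _)) (s0 q).2) (F.L.M.inv_mem (F.L.le (F.L.v_mem _))), ?_⟩
    have e : (⟨c, F.L.le (F.L.v_mem _)⟩ : F.L.M) * s0 q * (⟨c, F.L.le (F.L.v_mem _)⟩)⁻¹ = ⟨s q, _⟩ := Subtype.ext rfl
    rw [← e, map_mul, map_mul, map_inv, (F.L.ker _).2 (F.L.v_mem _), hs0π, one_mul, inv_one, mul_one]
  have hst : s dt = F.t := by
    show c * t' * c⁻¹ = F.t
    calc c * t' * c⁻¹ = c * (t' * c⁻¹ * t') * t'⁻¹ := by group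
      _ = _ := by
        rw [inv_eq_of_mul_eq_one_right t'sq, hc, F.L.v_neg, inv_inv, ht'x, ← F.L.v_neg, ← F.L.v_add,
          show -x + -x = x from funext fun i => (add_self_neg (x i)).2, hx']
  refine ⟨s, hsπ, hst, ?_⟩
  have hdec : ∀ a b, ∃ v, s (uu a b) = F.L.v v * F.R.v ![0, a, b] := fun a b => by
    obtain ⟨h, e⟩ := hsπ (uu a b)
    obtain ⟨v, hv⟩ := F.L.eq_mul_v (g := ⟨_, h⟩) (h := ⟨_, F.r_mem_L a b⟩) (by rw [e, F.rimg])
    exact ⟨v, hv⟩
  have hmid : ∀ q : L3, q.1 *ᵥ b0 = b0 → dt * q = q * dt → ∀ a b a' b', q * uu a b * q⁻¹ = uu a' b' →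
      s q * F.R.v ![0, a, b] * (s q)⁻¹ = F.R.v ![0, a', b'] := by
    intro q hq0 hqt a b a' b' he
    obtain ⟨h, hπ⟩ := hsπ q
    have hqC : s q ∈ Subgroup.centralizer ({F.z} : Set G) := (F.toPara.fix_iff F.zL ⟨_, h⟩).2 (by rw [hπ]; exact hq0)
    obtain ⟨v, hv⟩ := F.R.exists_v (F.R.conj_mem (F.CR hqC) (F.R.v_mem ![0, a, b]))
    rw [← hv]
    have hcomm : F.t * s q = s q * F.t := by rw [← hst, ← map_mul, ← map_mul, hqt]
    have hinv : F.t * F.R.v v * F.t = (F.R.v v)⁻¹ := by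
      rw [hv]
      calc F.t * (s q * F.R.v ![0, a, b] * (s q)⁻¹) * F.t
          = F.t * s q * F.R.v ![0, a, b] * ((s q)⁻¹ * F.t) := by group
        _ = s q * (F.t * F.R.v ![0, a, b] * F.t) * (s q)⁻¹ := by
            rw [hcomm, (show Commute F.t (s q) from hcomm).inv_right.symm.eq]; group
        _ = _ := by rw [F.rinv, _root_.mul_inv_rev, _root_.mul_inv_rev, inv_inv]; group
    have hv0 : v 0 = 0 := by
      have e := F.R.act' ⟨F.t, F.CR F.tC⟩ v
      rw [F.t_inv, hinv, F.tR, ← F.R.v_neg] at e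
      have := congrFun (F.R.v_inj e) 0
      revert this
      simp [dt, Matrix.mulVec, dotProduct, Fin.sum_univ_three]
      exact neg_eq_self_zero (v 0)
    have hv' : v = ![0, v 1, v 2] := funext fun i => by fin_cases i <;> simp [hv0]
    rw [hv']
    have hL : F.R.v ![0, v 1, v 2] ∈ F.L.M := F.r_mem_L _ _
    have e1 : F.L.π ⟨_, hL⟩ = uu a' b' := by
      have e2 : (⟨_, hL⟩ : F.L.M) = ⟨_, h⟩ * ⟨_, F.r_mem_L a b⟩ * (⟨_, h⟩)⁻¹ := Subtype.ext (by
        show F.R.v ![0, v 1, v 2] = s q * F.R.v ![0, a, b] * (s q)⁻¹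
        rw [← hv', hv])
      rw [e2, map_mul, map_mul, map_inv, hπ, F.rimg, he]
    rw [F.rimg] at e1
    obtain ⟨r1, r2⟩ := uu_inj _ _ _ _ e1
    rw [r1, r2]
  have hact : ∀ q v, s q * F.L.v v * (s q)⁻¹ = F.L.v (q.1 *ᵥ v) := fun q v => by
    obtain ⟨h, e⟩ := hsπ q
    have := F.L.act' ⟨_, h⟩ v
    rwa [e] at this
  obtain ⟨x1, hx1⟩ := hdec 1 0
  have hl : l21.1 *ᵥ x1 = x1 := by
    apply F.L.v_inj
    have e : s l21 * s (uu 1 0) * (s l21)⁻¹ = s (uu 1 0) := by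
      rw [← map_inv, ← map_mul, ← map_mul, mid_facts.2.2.2.2.1]
    rw [hx1, conj_mul.symm, hact, hmid _ mid_facts.2.2.2.2.2.2.1 mid_facts.2.2.2.2.2.1 1 0 1 0 mid_facts.2.2.2.2.1] at e
    exact mul_right_cancel e
  have hw : s (uu 0 1) = F.L.v (wW.1 *ᵥ x1) * F.R.v ![0, 0, 1] := by
    have e : s wW * s (uu 1 0) * (s wW)⁻¹ = s (uu 0 1) := by
      rw [← map_inv, ← map_mul, ← map_mul, mid_facts.2.2.2.2.2.2.2.1]
    rw [← e, hx1, conj_mul.symm, hact, hmid _ mid_facts.2.2.2.2.2.2.2.2.2 mid_facts.2.2.2.2.2.2.2.2.1 1 0 0 1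
      mid_facts.2.2.2.2.2.2.2.1]
  have hract : ∀ a b v, F.R.v ![0, a, b] * F.L.v v = F.L.v ((uu a b).1 *ᵥ v) * F.R.v ![0, a, b] := fun a b v => by
    have h := F.L.act' ⟨_, F.r_mem_L a b⟩ v
    rw [F.rimg] at h
    exact mul_inv_eq_iff_eq_mul.1 h
  have hinv1 : dt.1 *ᵥ x1 = (uu (-1) 0).1 *ᵥ (-x1) := by
    apply F.L.v_inj
    have e : F.t * s (uu 1 0) * F.t = (s (uu 1 0))⁻¹ := by
      rw [← hst, ← map_mul, ← map_mul, dt_facts.2.2, ← map_inv,
        uu_neg10]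
    have hneg : (F.R.v ![0, 1, 0])⁻¹ = F.R.v ![0, -1, 0] := by
      rw [← F.R.v_neg]; exact congrArg F.R.v (funext fun i => by fin_cases i <;> simp)
    rw [hx1, show F.t * (F.L.v x1 * F.R.v ![0, 1, 0]) * F.t =
        (F.t * F.L.v x1 * F.t) * (F.t * F.R.v ![0, 1, 0] * F.t) by
      calc _ = F.t * F.L.v x1 * (F.t * F.t) * F.R.v ![0, 1, 0] * F.t := by rw [F.tt]; group
        _ = _ := by group, F.conj_t, F.rinv, _root_.mul_inv_rev, hneg, ← F.L.v_neg, hract] at e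
    exact mul_right_cancel e
  have hcom : x1 + (uu 1 0).1 *ᵥ (wW.1 *ᵥ x1) = wW.1 *ᵥ x1 + (uu 0 1).1 *ᵥ x1 := by
    apply F.L.v_inj
    have e : s (uu 1 0) * s (uu 0 1) = s (uu 0 1) * s (uu 1 0) := by
      rw [← map_mul, ← map_mul, uu_add, uu_add, add_comm (1 : ZMod 3), add_comm (0 : ZMod 3) 1]
    rw [hx1, hw, mul_assoc, ← mul_assoc (F.R.v ![0, 1, 0]), hract, mul_assoc (F.L.v _) (F.R.v ![0, 1, 0]),
      ← mul_assoc, ← F.L.v_add, mul_assoc (F.L.v (wW.1 *ᵥ x1)), ← mul_assoc (F.R.v ![0, 0, 1]), hract,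
      mul_assoc (F.L.v _) (F.R.v ![0, 0, 1]), ← mul_assoc (F.L.v (wW.1 *ᵥ x1)), ← F.L.v_add, F.R.v_comm] at e
    exact mul_right_cancel e
  have h0 := inverted_solve x1 hinv1 hl hcom
  rw [h0, F.L.v_zero, one_mul] at hx1
  rw [h0, mulVec_zero, F.L.v_zero, one_mul] at hw
  intro a b
  have hsmul : ∀ (n : ℕ) (v : V), F.R.v (n • v) = F.R.v v ^ n := fun n v => by
    induction n with
    | zero => rw [zero_smul, F.R.v_zero, pow_zero]
    | succ n ih => rw [succ_nsmul, F.R.v_add, ih, pow_succ]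
  rw [uu_gen a b, map_mul, map_pow, map_pow, hx1, hw, vec_gen a b, F.R.v_add, hsmul, hsmul]

end Frame

end Cfsg.Agent.Spor.PSLFourThree
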