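import Cfsg.Agent.Lib.Spor.PSLFourThree.Levi

/-!
The two Levi complements and their common middle block, up to a central factor.
-/

set_option autoImplicit false
set_option linter.unusedSectionVars false
set_option linter.style.haveILetI false
set_option maxRecDepth 100000

namespace Cfsg.Agent.Spor.PSLFourThree

open Cfsg.Agent.Lie.CTA Matrix

local notation "SL2" => Matrix.SpecialLinearGroup (Fin 2) (ZMod 3)

theorem dt_sq : dt.1 * dt.1 = 1 := by decide +kernel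

theorem dt_vec : ∀ a b : ZMod 3, dt.1 *ᵥ ![0, a, b] = ![0, -a, -b] := by decide +kernel

theorem uu_vec : ∀ c d p q : ZMod 3, (uu c d).1 *ᵥ ![0, p, q] = (c * p + d * q) • b0 + ![0, p, q] := by decide +kernel

theorem dt_fixed : ∀ x : V, dt.1 *ᵥ x = x → x = x 0 • b0 := by decide +kernel

theorem smul_b0_apply : ∀ k : ZMod 3, (k • b0) 0 = k := by decide +kernel

/-- Transpose-inverse followed by the cyclic shift. -/
def th : L3 →* L3 := (MulAut.conj cyc).toMonoidHom.comp theta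

theorem th_b12 : ∀ k : SL2, th (b12 k) = b23 (theta k) := by decide +kernel

theorem th_uu : ∀ t : ZMod 3, th (uu 0 t) = uu (-t) 0 := by decide +kernel

theorem b23_act : ∀ (g : SL2) (a b : ZMod 3),
    b23 g * uu a b * (b23 g)⁻¹ =
      uu (((b23 (theta g)).1 *ᵥ ![0, a, b]) 1) (((b23 (theta g)).1 *ᵥ ![0, a, b]) 2) ∧
    ((b23 (theta g)).1 *ᵥ ![0, a, b]) 0 = 0 := by decide +kernel

theorem b23_fix_dt : ∀ g : SL2, (b23 g).1 *ᵥ b0 = b0 ∧ dt * b23 g = b23 g * dt := by decide +kernel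

theorem vec_zero_head {v : V} (h : v 0 = 0) : v = ![0, v 1, v 2] :=
  funext fun i => by fin_cases i <;> simp [h]

theorem mat_ext3 {A B : Matrix (Fin 3) (Fin 3) (ZMod 3)} (h0 : A *ᵥ b0 = B *ᵥ b0)
    (h1 : A *ᵥ ![0, 1, 0] = B *ᵥ ![0, 1, 0]) (h2 : A *ᵥ ![0, 0, 1] = B *ᵥ ![0, 0, 1]) : A = B := by
  ext i j
  have e0 := congrFun h0 i
  have e1 := congrFun h1 i
  have e2 := congrFun h2 i
  simp [b0, Matrix.mulVec, dotProduct, Fin.sum_univ_three] at e0 e1 e2
  fin_cases j <;> assumption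

theorem Side.v_smul {G : Type*} [Group G] (S : Side G) (k : ZMod 3) (x : V) : S.v (k • x) = S.v x ^ k.val := by
  have h : k • x = k.val • x := by
    rw [← Nat.cast_smul_eq_nsmul (ZMod 3), ZMod.natCast_zmod_val]
  rw [h]
  show S.e (Multiplicative.ofAdd (k.val • x)) = _
  rw [ofAdd_nsmul, map_pow]
  rfl

namespace Frame

variable {G : Type*} [Group G] [Finite G] (F : Frame G)

theorem zv (k : ZMod 3) : F.L.v (k • b0) = F.R.v (k • b0) := by
  rw [F.L.v_smul, F.R.v_smul, F.zL, F.zR]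

theorem A_le_CL : F.L.A ≤ Subgroup.centralizer ({F.z} : Set G) := F.toPara.flip.A_le_C

theorem l_mem_R (x : V) : F.L.v x ∈ F.R.M := F.CR (F.A_le_CL (F.L.v_mem _))

/-- The left radical in the coordinates of the right side. -/
theorem rimg' (a b : ZMod 3) (h : F.L.v ![0, a, b] ∈ F.R.M) : F.R.π ⟨_, h⟩ = uu (-a) (-b) := by
  obtain ⟨c, d, e⟩ := (F.toPara.flip.radical F.zR).1 ⟨F.L.v ![0, a, b], h⟩ (F.L.v_mem _)
  have e' : F.R.π ⟨_, h⟩ = uu c d := e
  have key : ∀ p q : ZMod 3, c * p + d * q + (p * a + q * b) = 0 := by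
    intro p q
    have e1 := F.R.act' ⟨_, h⟩ ![0, p, q]
    rw [e', uu_vec, F.R.v_add] at e1
    have e2 := F.L.act' ⟨_, F.r_mem_L p q⟩ ![0, a, b]
    rw [F.rimg, uu_vec, F.L.v_add, F.zv] at e2
    set l := F.L.v ![0, a, b]
    set r := F.R.v ![0, p, q]
    have e3 : (1 : G) = F.R.v ((c * p + d * q) • b0) * F.R.v ((p * a + q * b) • b0) := by
      have f1 : l * r = F.R.v ((c * p + d * q) • b0) * r * l := mul_inv_eq_iff_eq_mul.1 e1
      have f2 : r * l = F.R.v ((p * a + q * b) • b0) * l * r := mul_inv_eq_iff_eq_mul.1 e2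
      rw [mul_assoc, f2] at f1
      refine mul_right_cancel (b := l * r) ?_
      rw [one_mul]
      refine f1.trans ?_
      group
    rw [← F.R.v_add, ← F.R.v_zero, ← add_smul] at e3
    have e4 := congrFun (F.R.v_inj e3) 0
    rw [smul_b0_apply] at e4
    exact e4.symm
  have k1 := key 1 0
  have k2 := key 0 1
  have hc : c = -a := eq_neg_of_add_eq_zero_left (by simpa using k1)
  have hd : d = -b := eq_neg_of_add_eq_zero_left (by simpa using k2)
  rw [e', hc, hd]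

/-- The frame with the sides exchanged. -/
def flip : Frame G where
  L := F.R
  R := F.L.reframe dt.1 dt.1 dt_sq dt_sq
  z := F.z
  z_order := F.z_order
  meet := by rw [inf_comm]; exact F.meet
  CL := F.CR
  CR := F.CL
  syl := F.syl
  zL := F.zR
  zR := by
    show F.L.v (dt.1 *ᵥ b0) = F.z
    rw [dt_facts.1, F.zL]
  t := F.t
  tC := F.tC
  tt := F.tt
  tL := F.tR
  rinv := fun a b => by
    show F.t * F.L.v (dt.1 *ᵥ ![0, a, b]) * F.t = (F.L.v (dt.1 *ᵥ ![0, a, b]))⁻¹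
    rw [F.conj_t, dt_vec, dt_vec, ← F.L.v_neg]
    exact congrArg F.L.v (funext fun i => by fin_cases i <;> simp)
  rimg := fun a b h => by
    have h' : F.L.v ![0, -a, -b] ∈ F.R.M := F.l_mem_R _
    have e : (⟨_, h⟩ : F.R.M) = ⟨_, h'⟩ := Subtype.ext (by
      show F.L.v (dt.1 *ᵥ ![0, a, b]) = _
      rw [dt_vec])
    show F.R.π ⟨_, h⟩ = _
    rw [e, F.rimg', neg_neg, neg_neg]

end Frame

/-- Two adapted Levi complements. -/
structure Levis {G : Type*} [Group G] (F : Frame G) where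
  sL : L3 →* G
  sR : L3 →* G
  πL : ∀ x, ∃ h : sL x ∈ F.L.M, F.L.π ⟨sL x, h⟩ = x
  πR : ∀ x, ∃ h : sR x ∈ F.R.M, F.R.π ⟨sR x, h⟩ = x
  dtL : sL dt = F.t
  dtR : sR dt = F.t
  uL : ∀ a b, sL (uu a b) = F.R.v ![0, a, b]
  uR : ∀ a b, sR (uu a b) = F.L.v ![0, -a, -b]

theorem Frame.exists_levis {G : Type*} [Group G] [Finite G] (F : Frame G) : Nonempty (Levis F) := by
  obtain ⟨sL, h1, h2, h3⟩ := F.exists_levi
  obtain ⟨sR, k1, k2, k3⟩ := F.flip.exists_levi
  exact ⟨⟨sL, sR, h1, k1, h2, k2, h3, fun a b => (k3 a b).trans (congrArg F.L.v (dt_vec a b))⟩⟩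

namespace Levis

variable {G : Type*} [Group G] [Finite G] {F : Frame G} (S : Levis F)

theorem actL (q : L3) (x : V) : S.sL q * F.L.v x * (S.sL q)⁻¹ = F.L.v (q.1 *ᵥ x) := by
  obtain ⟨h, e⟩ := S.πL q
  have := F.L.act' ⟨_, h⟩ x
  rwa [e] at this

theorem actR (q : L3) (x : V) : S.sR q * F.R.v x * (S.sR q)⁻¹ = F.R.v (q.1 *ᵥ x) := by
  obtain ⟨h, e⟩ := S.πR q
  have := F.R.act' ⟨_, h⟩ x
  rwa [e] at this

/-- The right complement in the standard coordinates. -/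
def ψ : L3 →* G := S.sR.comp th

theorem actψ (q : L3) (x : V) : S.ψ q * F.R.v x * (S.ψ q)⁻¹ = F.R.v ((th q).1 *ᵥ x) := S.actR _ x

theorem ψ_uu0 (t : ZMod 3) : S.ψ (uu 0 t) = F.L.v ![0, t, 0] := by
  show S.sR (th (uu 0 t)) = _
  rw [th_uu, S.uR, neg_neg, neg_zero]

/-- The two middle blocks agree up to a central factor. -/
theorem mid (g : SL2) : ∃ c : ZMod 3, S.sL (b23 g) = F.R.v (c • b0) * S.ψ (b12 g) := by
  obtain ⟨hM, hπ⟩ := S.πL (b23 g)
  have hC : S.sL (b23 g) ∈ Subgroup.centralizer ({F.z} : Set G) :=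
    (F.toPara.fix_iff F.zL ⟨_, hM⟩).2 (by rw [hπ]; exact (b23_fix_dt g).1)
  set q : F.R.M := ⟨_, F.CR hC⟩ with hq
  have hb : ∀ a b, (F.R.π q).1 *ᵥ ![0, a, b] = (b23 (theta g)).1 *ᵥ ![0, a, b] := by
    intro a b
    apply F.R.v_inj
    rw [← F.R.act', vec_zero_head (b23_act g a b).2, ← S.uL, ← S.uL, ← (b23_act g a b).1, map_mul, map_mul, map_inv]
  have hA : (F.R.π q).1 = (b23 (theta g)).1 := by
    refine mat_ext3 ?_ (hb 1 0) (hb 0 1)
    rw [(b23_fix_dt (theta g)).1]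
    refine (F.R.comm_iff q b0).1 ?_
    rw [F.zR]
    exact F.mem_C.1 hC
  obtain ⟨h', e'⟩ := S.πR (b23 (theta g))
  obtain ⟨x, hx⟩ := F.R.eq_mul_v (g := q) (h := ⟨_, h'⟩) (by rw [e']; exact Subtype.ext hA)
  have hx' : S.sL (b23 g) = F.R.v x * S.sR (b23 (theta g)) := hx
  have c1 : F.t * S.sL (b23 g) = S.sL (b23 g) * F.t := by rw [← S.dtL, ← map_mul, ← map_mul, (b23_fix_dt g).2]
  have c2 : F.t * S.sR (b23 (theta g)) = S.sR (b23 (theta g)) * F.t := by
    rw [← S.dtR, ← map_mul, ← map_mul, (b23_fix_dt (theta g)).2]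
  have c3 : F.t * F.R.v x = F.R.v x * F.t := by
    rw [hx', mul_assoc (F.R.v x), ← c2, ← mul_assoc, ← mul_assoc] at c1
    exact mul_right_cancel c1
  have h5 : dt.1 *ᵥ x = x := by
    have h6 := (F.R.comm_iff ⟨F.t, F.CR F.tC⟩ x).1 c3
    rwa [F.tR] at h6
  refine ⟨x 0, ?_⟩
  rw [← dt_fixed x h5, show S.ψ (b12 g) = S.sR (b23 (theta g)) from congrArg S.sR (th_b12 g)]
  exact hx'

end Levis

end Cfsg.Agent.Spor.PSLFourThree
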