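import Mathlib

/-!
The centraliser of a central `3`-element in the recognition of `PSL₄(3)` from its `3`-centraliser
`3^{1+4}.SL₂(3)`: the extraspecial group `Q`, the quotient `Q/Z` and the action of `SL₂(3)` on it.
-/

set_option autoImplicit false
set_option linter.unusedSectionVars false

namespace Cfsg.Agent.Spor.PSLFourThree

local notation "SL2" => Matrix.SpecialLinearGroup (Fin 2) (ZMod 3)

/-- The commutator `a b a⁻¹ b⁻¹`. -/
def com {G : Type*} [Group G] (a b : G) : G := a * b * a⁻¹ * b⁻¹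

/-- The data of `C_G(z) = 3^{1+4}.SL₂(3)` before anything is known about the module structure. -/
structure Pre (G : Type*) [Group G] where
  z : G
  Q : Subgroup G
  ρ : ↥(Subgroup.centralizer ({z} : Set G)) →* SL2
  hz : orderOf z = 3
  hzQ : z ∈ Q
  card_Q : Nat.card Q = 243
  exp : ∀ a ∈ Q, a ^ 3 = 1
  center : ∀ a ∈ Q, (∀ b ∈ Q, a * b = b * a) → a ∈ Subgroup.zpowers z
  com_mem : ∀ a ∈ Q, ∀ b ∈ Q, com a b ∈ Subgroup.zpowers z
  normQ : Subgroup.centralizer ({z} : Set G) ≤ Subgroup.normalizer (Q : Set G)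
  QC : Q ≤ Subgroup.centralizer ({z} : Set G)
  self : Subgroup.centralizer (Q : Set G) ≤ Q
  ρsurj : Function.Surjective ρ
  ρker : ∀ c, ρ c = 1 ↔ (c : G) ∈ Q
  sylow : ∀ P : Subgroup G, IsPGroup 3 P → Nat.card P ≤ 729

namespace Pre

variable {G : Type*} [Group G] (T : Pre G)

/-- `Z = ⟨z⟩`. -/
def Z : Subgroup G := Subgroup.zpowers T.z

/-- `C = C_G(z)`. -/
abbrev C : Subgroup G := Subgroup.centralizer ({T.z} : Set G)

theorem z_mem : T.z ∈ T.Z := Subgroup.mem_zpowers _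

theorem Z_le : T.Z ≤ T.Q := Subgroup.zpowers_le.2 T.hzQ

theorem card_Z : Nat.card T.Z = 3 := by rw [Z, Nat.card_zpowers, T.hz]

theorem z_cube : T.z ^ 3 = 1 := T.hz ▸ pow_orderOf_eq_one T.z

theorem z_ne : T.z ≠ 1 := fun h => by
  have := T.hz
  rw [h, orderOf_one] at this
  norm_num at this

theorem mem_C {g : G} : g ∈ T.C ↔ g * T.z = T.z * g := Subgroup.mem_centralizer_singleton_iff

theorem Q_le_C : T.Q ≤ T.C := T.QC

theorem Z_central {a : G} (ha : a ∈ T.C) {x : G} (hx : x ∈ T.Z) : a * x = x * a := by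
  obtain ⟨k, rfl⟩ := hx
  exact (Commute.zpow_right (T.mem_C.1 ha) k)

theorem conj_Q {c : G} (hc : c ∈ T.C) {a : G} (ha : a ∈ T.Q) : c * a * c⁻¹ ∈ T.Q :=
  (Subgroup.mem_normalizer_iff.1 (T.normQ hc) a).1 ha

theorem conj_Z {c : G} (hc : c ∈ T.C) {a : G} (ha : a ∈ T.Z) : c * a * c⁻¹ = a := by
  rw [T.Z_central hc ha, mul_inv_cancel_right]

theorem cube_iff {a : G} (ha : a ∈ T.Q) : a * a * a = 1 := by
  rw [← T.exp a ha, pow_succ, pow_two]

theorem inv_eq_sq {a : G} (ha : a ∈ T.Q) : a⁻¹ = a * a :=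
  inv_eq_of_mul_eq_one_right (by rw [← mul_assoc]; exact T.cube_iff ha)

theorem com_mem' {a b : G} (ha : a ∈ T.Q) (hb : b ∈ T.Q) : com a b ∈ T.Z := T.com_mem a ha b hb

theorem com_mul_left {a a' b : G} (ha : a ∈ T.Q) (ha' : a' ∈ T.Q) (hb : b ∈ T.Q) :
    com (a * a') b = com a b * com a' b := by
  have h := T.Z_central (T.Q_le_C ha) (T.com_mem' ha' hb)
  have h2 := T.Z_central (T.Q_le_C (T.Z_le (T.com_mem' ha hb))) (T.com_mem' ha' hb)
  calc com (a * a') b = a * com a' b * a⁻¹ * com a b := by simp only [com]; group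
    _ = com a' b * com a b := by rw [h, mul_inv_cancel_right]
    _ = com a b * com a' b := h2.symm

theorem com_inv {a b : G} : com b a = (com a b)⁻¹ := by simp only [com]; group

theorem com_mul_right {a b b' : G} (ha : a ∈ T.Q) (hb : b ∈ T.Q) (hb' : b' ∈ T.Q) :
    com a (b * b') = com a b * com a b' := by
  rw [com_inv (b := a), T.com_mul_left hb hb' ha, mul_inv_rev, ← com_inv, ← com_inv]
  exact T.Z_central (T.Q_le_C (T.Z_le (T.com_mem' ha hb'))) (T.com_mem' ha hb)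

theorem com_conj {c a b : G} : c * com a b * c⁻¹ = com (c * a * c⁻¹) (c * b * c⁻¹) := by
  simp only [com]; group

theorem com_eq_one_iff {a b : G} : com a b = 1 ↔ a * b = b * a := by
  simp only [com, mul_inv_eq_iff_eq_mul, one_mul]

theorem com_self {a : G} : com a a = 1 := com_eq_one_iff.2 rfl

theorem com_Z_right {a x : G} (ha : a ∈ T.Q) (hx : x ∈ T.Z) : com a x = 1 :=
  com_eq_one_iff.2 (T.Z_central (T.Q_le_C ha) hx)

instance normal_Z_Q : (T.Z.subgroupOf T.Q).Normal where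
  conj_mem n hn q := by
    rw [Subgroup.mem_subgroupOf] at hn ⊢
    push_cast
    rwa [T.conj_Z (T.Q_le_C q.2) hn]

/-- `Q/Z`. -/
abbrev V : Type _ := ↥T.Q ⧸ T.Z.subgroupOf T.Q

/-- The image in `Q/Z`. -/
def bar (a : T.Q) : T.V := QuotientGroup.mk a

@[simp] theorem bar_mul (a b : T.Q) : T.bar (a * b) = T.bar a * T.bar b := rfl

@[simp] theorem bar_inv (a : T.Q) : T.bar a⁻¹ = (T.bar a)⁻¹ := rfl

@[simp] theorem bar_one : T.bar 1 = 1 := rfl

theorem bar_eq_one {a : T.Q} : T.bar a = 1 ↔ (a : G) ∈ T.Z :=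
  (QuotientGroup.eq_one_iff a).trans Subgroup.mem_subgroupOf

theorem bar_eq {a b : T.Q} : T.bar a = T.bar b ↔ (a : G)⁻¹ * b ∈ T.Z :=
  QuotientGroup.eq.trans Subgroup.mem_subgroupOf

theorem bar_surj (v : T.V) : ∃ a : T.Q, T.bar a = v := QuotientGroup.mk_surjective v

instance comm_V : CommGroup T.V :=
  { (inferInstance : Group T.V) with
    mul_comm := fun v w => by
      obtain ⟨a, rfl⟩ := T.bar_surj v
      obtain ⟨b, rfl⟩ := T.bar_surj w
      rw [← bar_mul, ← bar_mul, bar_eq]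
      have h : ((a * b : T.Q) : G)⁻¹ * ((b * a : T.Q) : G) = com (b : G)⁻¹ (a : G)⁻¹ := by
        simp only [com, Subgroup.coe_mul]; group
      rw [h]
      exact T.com_mem' (inv_mem b.2) (inv_mem a.2) }

theorem V_cube (v : T.V) : v ^ 3 = 1 := by
  obtain ⟨a, rfl⟩ := T.bar_surj v
  have h : a ^ 3 = 1 := Subtype.ext (by simpa using T.exp a a.2)
  exact (QuotientGroup.mk_pow _ a 3).symm.trans (by rw [h]; rfl)

theorem card_V : Nat.card T.V = 81 := by
  have h := Subgroup.card_eq_card_quotient_mul_card_subgroup (T.Z.subgroupOf T.Q)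
  rw [Nat.card_congr (Subgroup.subgroupOfEquivOfLe T.Z_le).toEquiv, T.card_Z, T.card_Q] at h
  change Nat.card T.V = 81
  change 243 = Nat.card T.V * 3 at h
  omega

/-- Conjugation of an element of `C` on `Q/Z`. -/
def conjV (c : T.C) : T.V →* T.V :=
  QuotientGroup.map _ _
    { toFun := fun a : T.Q => (⟨c * a * (c : G)⁻¹, T.conj_Q c.2 a.2⟩ : T.Q)
      map_one' := Subtype.ext (by simp)
      map_mul' := fun a b => Subtype.ext (by simp [mul_assoc]) }
    (fun a ha => by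
      rw [Subgroup.mem_subgroupOf] at ha
      show (⟨c * a * (c : G)⁻¹, T.conj_Q c.2 a.2⟩ : T.Q) ∈ T.Z.subgroupOf T.Q
      rw [Subgroup.mem_subgroupOf]
      show (c : G) * a * (c : G)⁻¹ ∈ T.Z
      rwa [T.conj_Z c.2 ha])

theorem conjV_bar (c : T.C) (a : T.Q) :
    T.conjV c (T.bar a) = T.bar ⟨c * a * (c : G)⁻¹, T.conj_Q c.2 a.2⟩ := rfl

/-- Conjugation as a homomorphism to the automorphisms of `Q/Z`. -/
def μ : T.C →* MulAut T.V where
  toFun c := MonoidHom.toMulEquiv (T.conjV c) (T.conjV c⁻¹)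
    (MonoidHom.ext fun v => by
      obtain ⟨a, rfl⟩ := T.bar_surj v
      show T.conjV c⁻¹ (T.conjV c (T.bar a)) = T.bar a
      rw [conjV_bar, conjV_bar]
      exact congrArg T.bar (Subtype.ext (by simp [mul_assoc])))
    (MonoidHom.ext fun v => by
      obtain ⟨a, rfl⟩ := T.bar_surj v
      show T.conjV c (T.conjV c⁻¹ (T.bar a)) = T.bar a
      rw [conjV_bar, conjV_bar]
      exact congrArg T.bar (Subtype.ext (by simp [mul_assoc])))
  map_one' := MulEquiv.ext fun v => by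
    obtain ⟨a, rfl⟩ := T.bar_surj v
    show T.conjV 1 (T.bar a) = T.bar a
    rw [conjV_bar]
    exact congrArg T.bar (Subtype.ext (by simp))
  map_mul' c d := MulEquiv.ext fun v => by
    obtain ⟨a, rfl⟩ := T.bar_surj v
    show T.conjV (c * d) (T.bar a) = T.conjV c (T.conjV d (T.bar a))
    rw [conjV_bar, conjV_bar, conjV_bar]
    exact congrArg T.bar (Subtype.ext (by simp [mul_assoc]))

theorem μ_bar (c : T.C) (a : T.Q) :
    T.μ c (T.bar a) = T.bar ⟨c * a * (c : G)⁻¹, T.conj_Q c.2 a.2⟩ := rfl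

theorem ker_le : (T.ρ).ker ≤ T.μ.ker := fun c hc => by
  have hq : (c : G) ∈ T.Q := (T.ρker c).1 hc
  refine MulEquiv.ext fun v => ?_
  obtain ⟨a, rfl⟩ := T.bar_surj v
  rw [μ_bar]
  show T.bar _ = T.bar a
  rw [bar_eq]
  have h : ((c : G) * a * (c : G)⁻¹)⁻¹ * a = (com (c : G) (a : G)⁻¹) := by simp only [com]; group
  rw [h]
  exact T.com_mem' hq (inv_mem a.2)

/-- The action of `C/Q ≅ SL₂(3)` on `Q/Z`. -/
noncomputable def act : SL2 →* MulAut T.V :=
  MonoidHom.liftOfSurjective T.ρ T.ρsurj ⟨T.μ, T.ker_le⟩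

theorem act_ρ (c : T.C) : T.act (T.ρ c) = T.μ c := by
  show MonoidHom.liftOfRightInverse _ _ _ ⟨T.μ, T.ker_le⟩ (T.ρ c) = T.μ c
  exact MonoidHom.liftOfRightInverse_comp_apply _ _ _ _ c

theorem act_bar (c : T.C) (a : T.Q) :
    T.act (T.ρ c) (T.bar a) = T.bar ⟨c * a * (c : G)⁻¹, T.conj_Q c.2 a.2⟩ := by
  rw [act_ρ, μ_bar]

/-- The central involution of `C/Q` inverts `Q/Z`. -/
def Inverts : Prop := ∀ v : T.V, T.act (-1) v = v⁻¹

end Pre

/-- The data with the central involution of `C/Q` inverting `Q/Z`. -/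
structure Loc (G : Type*) [Group G] extends Pre G where
  inverts : toPre.Inverts

end Cfsg.Agent.Spor.PSLFourThree
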