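import Cfsg.Agent.Lib.Spor.PSLFourThree.LocPair

/-!
The flip of a pair `z, y` and the frame `d, a, b, q` it determines.
-/

set_option autoImplicit false
set_option linter.unusedSectionVars false
set_option maxHeartbeats 800000

namespace Cfsg.Agent.Spor.PSLFourThree

namespace Loc

variable {G : Type*} [Group G] [Finite G] (T : Loc G)

/-- `⟨z, y⟩`. -/
def P (g : G) : Subgroup G := T.toPre.Z ⊔ Subgroup.zpowers (g * T.z * g⁻¹)

theorem y_mem_Qc {g : G} : g * T.z * g⁻¹ ∈ T.Qc g := T.conj_mem_Qc T.hzQ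

theorem P_le {g : G} (hg : T.IsPair g) : T.P g ≤ T.Q ⊓ T.Qc g :=
  sup_le (Subgroup.zpowers_le.2 ⟨T.hzQ, (T.basic hg).1⟩) (Subgroup.zpowers_le.2 ⟨hg.1, T.y_mem_Qc⟩)

theorem Z_le_P {g : G} : T.toPre.Z ≤ T.P g := le_sup_left

theorem y_mem_P {g : G} : g * T.z * g⁻¹ ∈ T.P g := Subgroup.mem_sup_right (Subgroup.mem_zpowers _)

theorem card_y {g : G} : Nat.card (Subgroup.zpowers (g * T.z * g⁻¹)) = 3 := by
  rw [Nat.card_zpowers]
  exact (orderOf_injective (MulAut.conj g).toMonoidHom (MulAut.conj g).injective T.z).trans T.hz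

theorem card_P {g : G} (hg : T.IsPair g) : Nat.card (T.P g) = 9 := by
  have hab := (T.basic hg).2.2.2.1
  let μ : T.toPre.Z × Subgroup.zpowers (g * T.z * g⁻¹) →* G := MonoidHom.mk' (fun p => (p.1 : G) * p.2)
    fun p q => by
      have h1 : (q.1 : G) * p.2 = (p.2 : G) * q.1 :=
        hab _ (T.P_le hg (T.Z_le_P q.1.2)) _ (T.P_le hg (Subgroup.mem_sup_right p.2.2))
      show ((p.1 * q.1 : T.toPre.Z) : G) * ((p.2 * q.2 : Subgroup.zpowers (g * T.z * g⁻¹)) : G) = _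
      simp only [Subgroup.coe_mul]
      rw [mul_assoc, ← mul_assoc (q.1 : G), h1]
      group
  have hrange : μ.range = T.P g := by
    refine le_antisymm ?_ (sup_le ?_ ?_)
    · rintro _ ⟨p, rfl⟩
      exact mul_mem (T.Z_le_P p.1.2) (Subgroup.mem_sup_right p.2.2)
    · exact fun x hx => ⟨(⟨x, hx⟩, 1), mul_one x⟩
    · exact fun x hx => ⟨(1, ⟨x, hx⟩), one_mul x⟩
  have hinj : Function.Injective μ := by
    rw [← MonoidHom.ker_eq_bot_iff, eq_bot_iff]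
    rintro ⟨p, q⟩ h
    have h1 : (p : G) * q = 1 := h
    have hp : (p : G) = 1 := T.y_notMem_pow hg p.2 (by
      rw [eq_inv_of_mul_eq_one_left h1]; exact inv_mem q.2)
    rw [hp, one_mul] at h1
    exact Prod.ext (Subtype.ext hp) (Subtype.ext h1)
  rw [← hrange, ← Nat.card_congr (MonoidHom.ofInjective hinj).toEquiv, Nat.card_prod, T.card_Z, T.card_y]

theorem P_central {g h : G} (hh : h ∈ T.Hy g) {p : G} (hp : p ∈ T.P g) : h * p = p * h := by
  have hh' := T.mem_Hy.1 hh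
  have hle : T.P g ≤ Subgroup.centralizer {h} :=
    sup_le (fun x hx => Subgroup.mem_centralizer_singleton_iff.2 (T.Z_central (T.Q_le_C hh'.1) hx).symm)
      (Subgroup.zpowers_le.2 (Subgroup.mem_centralizer_singleton_iff.2 (Pre.com_eq_one_iff.1 hh'.2).symm))
  exact (Subgroup.mem_centralizer_singleton_iff.1 (hle hp)).symm

theorem com_Qc {g b d : G} (hb : b ∈ T.Qc g) (hd : d ∈ T.Qc g) :
    com b d ∈ Subgroup.zpowers (g * T.z * g⁻¹) := by
  obtain ⟨i, hi⟩ := Subgroup.mem_zpowers_iff.1 (T.com_mem' (T.mem_Qc.1 hb) (T.mem_Qc.1 hd))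
  refine ⟨i, ?_⟩
  show (g * T.z * g⁻¹) ^ i = _
  rw [conj_zpow, hi]
  simp only [com]; group

/-- The elements normalising `P` and acting trivially on `D/P`. -/
def Stab (g : G) : Subgroup G where
  carrier := {v | v ∈ Subgroup.normalizer (T.P g : Set G) ∧ ∀ d ∈ T.Q ⊓ T.Qc g, com v d ∈ T.P g}
  one_mem' := ⟨one_mem _, fun d _ => by simp [com]⟩
  mul_mem' := fun {v w} hv hw => ⟨mul_mem hv.1 hw.1, fun d hd => by
    have e : com (v * w) d = v * com w d * v⁻¹ * com v d := by simp only [com]; group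
    rw [e]
    exact mul_mem ((Subgroup.mem_normalizer_iff.1 hv.1 _).1 (hw.2 d hd)) (hv.2 d hd)⟩
  inv_mem' := fun {v} hv => ⟨inv_mem hv.1, fun d hd => by
    have e : com v⁻¹ d = v⁻¹ * (com v d)⁻¹ * v := by simp only [com]; group
    rw [e]
    exact (Subgroup.mem_normalizer_iff''.1 hv.1 _).1 (inv_mem (hv.2 d hd))⟩

theorem stab_of_com {g v : G} (hg : T.IsPair g) (hv : ∀ d ∈ T.Q ⊓ T.Qc g, com v d ∈ T.P g) :
    v ∈ T.Stab g :=
  ⟨Subgroup.mem_normalizer_fintype fun p hp => by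
    have h : com v p * p ∈ T.P g := mul_mem (hv p (T.P_le hg hp)) hp
    have e : v * p * v⁻¹ = com v p * p := by simp [com]
    exact e ▸ h, hv⟩

theorem exists_flip {g : G} (hg : T.IsPair g) : ∃ u, T.IsFlip g u := by
  classical
  haveI : Fact (Nat.Prime 3) := ⟨Nat.prime_three⟩
  obtain ⟨hz, hg', hcardD, hab, hDH⟩ := T.basic hg
  set y := g * T.z * g⁻¹ with hy
  obtain ⟨q₁, hq₁, hq₁y⟩ := T.exists_com_eq hg
  obtain ⟨q', hq', hq'z⟩ := T.exists_com_eq hg'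
  set q₂ := g * q' * g⁻¹ with hq₂
  have hs₁ : q₁ ∈ T.Stab g := T.stab_of_com hg fun d hd => T.Z_le_P (T.com_mem' hq₁ hd.1)
  have hs₂ : q₂ ∈ T.Stab g := T.stab_of_com hg fun d hd =>
    Subgroup.mem_sup_right (T.com_Qc (T.conj_mem_Qc hq') hd.2)
  have a1 : q₁ * T.z * q₁⁻¹ = T.z := T.conj_Z (T.Q_le_C hq₁) T.z_mem
  have a2 : q₁ * y * q₁⁻¹ = T.z * y := by
    rw [show q₁ * y * q₁⁻¹ = com q₁ y * y by simp [com], hq₁y]
  have hzy : y * T.z = T.z * y := T.mem_C.1 (T.Q_le_C hg.1)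
  have b1 : q₂ * T.z * q₂⁻¹ = y * T.z := by
    have e : q₂ * T.z * q₂⁻¹ = g * (com q' (g⁻¹ * T.z * g⁻¹⁻¹)) * g⁻¹ * T.z := by
      simp only [com, hq₂]; group
    rw [e, hq'z]
  have b2 : q₂ * y * q₂⁻¹ = y := by rw [T.Qc_comm_y (T.conj_mem_Qc hq'), mul_inv_cancel_right]
  have b3 : q₂⁻¹ * T.z * q₂ = y⁻¹ * T.z := by
    have b2' : q₂⁻¹ * y⁻¹ * q₂ = y⁻¹ := by
      conv_lhs => rw [← b2]
      group
    calc q₂⁻¹ * T.z * q₂ = q₂⁻¹ * y⁻¹ * q₂ * (q₂⁻¹ * (y * T.z) * q₂) := by group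
      _ = y⁻¹ * T.z := by rw [b2', ← b1]; group
  have b2'' : q₂⁻¹ * y * q₂ = y := by
    conv_lhs => rw [← b2]
    group
  set w := q₁ * q₂⁻¹ * q₁ with hw
  have w1 : w * T.z * w⁻¹ = y⁻¹ := by
    calc w * T.z * w⁻¹ = q₁ * (q₂⁻¹ * (q₁ * T.z * q₁⁻¹) * q₂) * q₁⁻¹ := by simp only [hw]; group
      _ = q₁ * (y⁻¹ * T.z) * q₁⁻¹ := by rw [a1, b3]
      _ = (q₁ * y * q₁⁻¹)⁻¹ * (q₁ * T.z * q₁⁻¹) := by group
      _ = y⁻¹ := by rw [a1, a2]; group
  have w2 : w * y * w⁻¹ = T.z := by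
    calc w * y * w⁻¹ = q₁ * (q₂⁻¹ * (q₁ * y * q₁⁻¹) * q₂) * q₁⁻¹ := by simp only [hw]; group
      _ = q₁ * ((q₂⁻¹ * T.z * q₂) * (q₂⁻¹ * y * q₂)) * q₁⁻¹ := by rw [a2]; group
      _ = q₁ * (y⁻¹ * T.z * y) * q₁⁻¹ := by
        rw [b3, b2'']
      _ = T.z := by rw [mul_assoc y⁻¹, ← hzy, inv_mul_cancel_left]; exact a1
  set s := w * w with hs
  have s1 : s * T.z * s⁻¹ = T.z⁻¹ := by
    calc s * T.z * s⁻¹ = w * (w * T.z * w⁻¹) * w⁻¹ := by simp only [hs]; group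
      _ = (w * y * w⁻¹)⁻¹ := by rw [w1]; group
      _ = T.z⁻¹ := by rw [w2]
  have s2 : s * y * s⁻¹ = y⁻¹ := by
    calc s * y * s⁻¹ = w * (w * y * w⁻¹) * w⁻¹ := by simp only [hs]; group
      _ = y⁻¹ := by rw [w2, w1]
  have hsS : s ∈ T.Stab g := mul_mem (mul_mem (mul_mem hs₁ (inv_mem hs₂)) hs₁)
    (mul_mem (mul_mem hs₁ (inv_mem hs₂)) hs₁)
  obtain ⟨i, m, hm, horder⟩ := Nat.exists_eq_two_pow_mul_odd (orderOf_pos s).ne'
  set u := s ^ m with hu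
  have odd_pow : ∀ x : G, s * x * s⁻¹ = x⁻¹ → ∀ k, Odd k → s ^ k * x * (s ^ k)⁻¹ = x⁻¹ := by
    intro x hx k ⟨j, hj⟩
    have hx' : s * x⁻¹ * s⁻¹ = x := by rw [← conj_inv, hx, inv_inv]
    subst hj
    induction j with
    | zero => simpa using hx
    | succ j ih =>
      calc s ^ (2 * (j + 1) + 1) * x * (s ^ (2 * (j + 1) + 1))⁻¹
          = s * (s * (s ^ (2 * j + 1) * x * (s ^ (2 * j + 1))⁻¹) * s⁻¹) * s⁻¹ := by
            rw [show 2 * (j + 1) + 1 = 2 * j + 1 + 1 + 1 by omega, pow_succ', pow_succ']; group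
        _ = x⁻¹ := by rw [ih, hx', hx]
  have u1 : u * T.z * u⁻¹ = T.z⁻¹ := odd_pow _ s1 m hm
  have u2 : u * y * u⁻¹ = y⁻¹ := odd_pow _ s2 m hm
  have huS : u ∈ T.Stab g := pow_mem hsS m
  have hupow : u ^ (2 ^ i) = 1 := by rw [hu, ← pow_mul, mul_comm, ← horder, pow_orderOf_eq_one]
  have huQ : u ∈ Subgroup.normalizer (T.Q : Set G) := T.norm_Q (u1 ▸ inv_mem T.z_mem)
  have huQc : u ∈ Subgroup.normalizer (T.Qc g : Set G) := by
    have h : g⁻¹ * u * g ∈ Subgroup.normalizer (T.Q : Set G) := T.norm_Q (by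
      have e : g⁻¹ * u * g * T.z * (g⁻¹ * u * g)⁻¹ = g⁻¹ * (u * y * u⁻¹) * g := by
        simp only [hy]; group
      rw [e, u2, hy]
      have e2 : g⁻¹ * (g * T.z * g⁻¹)⁻¹ * g = T.z⁻¹ := by group
      rw [e2]
      exact inv_mem T.z_mem)
    refine Subgroup.mem_normalizer_fintype fun x hx => T.mem_Qc.2 ?_
    have := (Subgroup.mem_normalizer_iff.1 h _).1 (T.mem_Qc.1 hx)
    have e : g⁻¹ * (u * x * u⁻¹) * g = g⁻¹ * u * g * (g⁻¹ * x * g) * (g⁻¹ * u * g)⁻¹ := by group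
    rw [e]; exact this
  set v := u * u with hv
  have hvpow : v ^ (2 ^ i) = 1 := by rw [hv, ← pow_two, ← pow_mul, mul_comm, pow_mul, hupow, one_pow]
  have vfix : ∀ x : G, u * x * u⁻¹ = x⁻¹ → v * x * v⁻¹ = x := fun x hx => by
    calc v * x * v⁻¹ = u * (u * x * u⁻¹) * u⁻¹ := by simp only [hv]; group
      _ = u * x⁻¹ * u⁻¹ := by rw [hx]
      _ = (u * x * u⁻¹)⁻¹ := by group
      _ = x := by rw [hx, inv_inv]
  let Fix : Subgroup G := Subgroup.centralizer {v}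
  have memFix : ∀ x, x ∈ Fix ↔ v * x * v⁻¹ = x := fun x => by
    rw [Subgroup.mem_centralizer_singleton_iff, mul_inv_eq_iff_eq_mul]
    exact ⟨fun h => h.symm, fun h => h.symm⟩
  have hP : T.P g ≤ Fix := sup_le (Subgroup.zpowers_le.2 ((memFix _).2 (vfix _ u1)))
    (Subgroup.zpowers_le.2 ((memFix _).2 (vfix _ u2)))
  have step : ∀ M N : Subgroup G, M ≤ N → N ≤ T.Q → Nat.card N = 3 * Nat.card M → M ≤ Fix →
      (∀ x ∈ N, ∀ m ∈ M, x * m * x⁻¹ ∈ M) → (∀ x ∈ N, u * x * u⁻¹ ∈ N) →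
      (∀ x ∈ M, u * x * u⁻¹ ∈ M) → N ≤ Fix := by
    intro M N hMN hNQ hc hMF hnorm hN hM n hn
    obtain ⟨x, hx, hxM⟩ : ∃ x ∈ N, x ∉ M := by
      by_contra h
      push Not at h
      have := Subgroup.card_le_of_le (show N ≤ M from h)
      have := Nat.card_pos (α := M)
      omega
    have hxF : x ∈ Fix := by
      obtain ⟨c, hcM, hcx⟩ : ∃ c ∈ M, v * x * v⁻¹ = c * x := by
        rcases mem_three hMN hc hx hxM (T.exp x (hNQ hx)) (hN x hx) with h | h | h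
        · refine ⟨_, ?_, (inv_mul_cancel_right (v * x * v⁻¹) x).symm⟩
          refine absurd ?_ hxM
          have := hM _ h
          rw [show u * (u * x * u⁻¹) * u⁻¹ = v * x * v⁻¹ by simp only [hv]; group] at this
          have hfix := (memFix _).1 (hMF this)
          have e : v * x * v⁻¹ = x := by
            have := congrArg (fun t => v⁻¹ * t * v) hfix
            simp only [mul_assoc, inv_mul_cancel, mul_one, inv_mul_cancel_left] at this
            simpa [mul_assoc] using this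
          rwa [e] at this
        · refine ⟨u * (u * x * u⁻¹ * x⁻¹) * u⁻¹ * (u * x * u⁻¹ * x⁻¹), mul_mem (hM _ h) h, ?_⟩
          simp only [hv]; group
        · refine ⟨u * (u * x * u⁻¹ * x) * u⁻¹ * (x * (u * x * u⁻¹ * x)⁻¹ * x⁻¹),
            mul_mem (hM _ h) (hnorm x hx _ (inv_mem h)), ?_⟩
          simp only [hv]; group
      have hc1 := fixes_of_stab hvpow hcx ((memFix _).1 (hMF hcM)) (T.exp c (hNQ (hMN hcM)))
      rw [hc1, one_mul] at hcx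
      exact (memFix _).2 hcx
    rcases mem_three hMN hc hx hxM (T.exp x (hNQ hx)) hn with h | h | h
    · exact hMF h
    · simpa using mul_mem (hMF h) hxF
    · simpa using mul_mem (hMF h) (inv_mem hxF)
  have huP : ∀ x ∈ T.P g, u * x * u⁻¹ ∈ T.P g := fun x hx => (Subgroup.mem_normalizer_iff.1 huS.1 x).1 hx
  have huD : ∀ x ∈ T.Q ⊓ T.Qc g, u * x * u⁻¹ ∈ T.Q ⊓ T.Qc g := fun x hx =>
    ⟨(Subgroup.mem_normalizer_iff.1 huQ x).1 hx.1, (Subgroup.mem_normalizer_iff.1 huQc x).1 hx.2⟩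
  have huH : ∀ x ∈ T.Hy g, u * x * u⁻¹ ∈ T.Hy g := fun x hx => by
    obtain ⟨h1, h2⟩ := T.mem_Hy.1 hx
    refine T.mem_Hy.2 ⟨(Subgroup.mem_normalizer_iff.1 huQ x).1 h1, Pre.com_eq_one_iff.2 ?_⟩
    have h3 : Commute x y := Pre.com_eq_one_iff.1 h2
    have h4 : Commute (u * x * u⁻¹) (u * y * u⁻¹) := by
      show u * x * u⁻¹ * (u * y * u⁻¹) = u * y * u⁻¹ * (u * x * u⁻¹)
      rw [show u * x * u⁻¹ * (u * y * u⁻¹) = u * (x * y) * u⁻¹ by group, h3.eq]; group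
    rw [u2, Commute.inv_right_iff] at h4
    exact h4.eq
  have hD : T.Q ⊓ T.Qc g ≤ Fix := by
    refine step (T.P g) _ (T.P_le hg) inf_le_left (by rw [hcardD, T.card_P hg]) hP ?_ huD huP
    intro x hx p hp
    rw [hab x hx p (T.P_le hg hp), mul_inv_cancel_right]
    exact hp
  have hH : T.Hy g ≤ Fix := by
    refine step (T.Q ⊓ T.Qc g) (T.Hy g) hDH inf_le_left (by rw [T.card_Hy hg, hcardD]) hD ?_ huH huD
    intro x hx d hd
    have hxQ := (T.mem_Hy.1 hx).1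
    have h : com x d * d ∈ T.Q ⊓ T.Qc g :=
      mul_mem (T.P_le hg (T.Z_le_P (T.com_mem' hxQ hd.1))) hd
    simpa [com] using h
  have hQ : T.Q ≤ Fix := by
    refine step (T.Hy g) T.Q inf_le_left le_rfl (by rw [T.card_Hy hg, T.card_Q]) hH ?_
      (fun x hx => (Subgroup.mem_normalizer_iff.1 huQ x).1 hx) huH
    intro x hx d hd
    have h : com x d * d ∈ T.Hy g :=
      mul_mem (hDH (T.P_le hg (T.Z_le_P (T.com_mem' hx (T.mem_Hy.1 hd).1)))) hd
    simpa [com] using h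
  have hvQ : v ∈ T.Q := T.self (Subgroup.mem_centralizer_iff.2 fun a ha =>
    Subgroup.mem_centralizer_singleton_iff.1 (hQ ha))
  have hv1 : v = 1 := orderOf_eq_one_iff.1 (Nat.eq_one_of_dvd_coprimes
    (Nat.Coprime.pow_left i (by norm_num : Nat.Coprime 2 3))
    (orderOf_dvd_of_pow_eq_one hvpow) (orderOf_dvd_of_pow_eq_one (T.exp v hvQ)))
  exact ⟨u, hv1, u1, u2, huS.2⟩

theorem IsFlip.norm_Qc {g u : G} (hg : T.IsPair g) (hu : T.IsFlip g u) {x : G} (hx : x ∈ T.Qc g) :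
    u * x * u⁻¹ ∈ T.Qc g := by
  refine T.mem_Qc.2 ?_
  have := (Subgroup.mem_normalizer_iff.1 (IsFlip.norm T (IsFlip.back T hg hu)) _).1 (T.mem_Qc.1 hx)
  rwa [show g⁻¹ * u * g * (g⁻¹ * x * g) * (g⁻¹ * u * g)⁻¹ = g⁻¹ * (u * x * u⁻¹) * g by group] at this

theorem IsFlip.conj_com {g u : G} (hu : T.IsFlip g u) {a b : G} (ha : a ∈ T.Q) (hb : b ∈ T.Q) :
    com (u * a * u⁻¹) (u * b * u⁻¹) = (com a b)⁻¹ := by
  obtain ⟨i, hi⟩ := Subgroup.mem_zpowers_iff.1 (T.com_mem' ha hb)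
  rw [← Pre.com_conj, ← hi, ← conj_zpow, hu.inv_z, inv_zpow]

theorem exists_outside (g : G) (hg : T.IsPair g) : ∃ d ∈ T.Q ⊓ T.Qc g, d ∉ T.P g := by
  by_contra h
  push Not at h
  have := Subgroup.card_le_of_le (show T.Q ⊓ T.Qc g ≤ T.P g from h)
  rw [(T.basic hg).2.2.1, T.card_P hg] at this
  omega

theorem cent_D {g x : G} (hg : T.IsPair g) (hx : x ∈ T.Q)
    (h : ∀ d ∈ T.Q ⊓ T.Qc g, x * d = d * x) : x ∈ T.Q ⊓ T.Qc g := by
  classical
  obtain ⟨-, -, hc, hab, -⟩ := T.basic hg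
  set A : Subgroup G := (T.Q ⊓ T.Qc g) ⊔ Subgroup.zpowers x
  have hA : A ≤ T.Q := sup_le inf_le_left (Subgroup.zpowers_le.2 hx)
  have hAc : ∀ a ∈ A, ∀ b ∈ A, a * b = b * a := by
    have h1 : A ≤ Subgroup.centralizer (((T.Q ⊓ T.Qc g : Subgroup G) : Set G) ∪ {x}) := by
      refine sup_le (fun a ha => ?_) (Subgroup.zpowers_le.2 ?_)
      · rw [Subgroup.mem_centralizer_iff]
        rintro b (hb | hb)
        · exact hab b hb a ha
        · rw [Set.mem_singleton_iff.1 hb]; exact h a ha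
      · rw [Subgroup.mem_centralizer_iff]
        rintro b (hb | hb)
        · exact (h b hb).symm
        · rw [Set.mem_singleton_iff.1 hb]
    intro a ha b hb
    have h2 : ∀ c ∈ ((T.Q ⊓ T.Qc g : Subgroup G) : Set G) ∪ {x}, c ∈ Subgroup.centralizer {a} :=
      fun c hc => Subgroup.mem_centralizer_singleton_iff.2 (Subgroup.mem_centralizer_iff.1 (h1 ha) c hc)
    have h3 : A ≤ Subgroup.centralizer {a} := sup_le (fun c hc => h2 c (Or.inl hc))
      (Subgroup.zpowers_le.2 (h2 x (Or.inr rfl)))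
    exact (Subgroup.mem_centralizer_singleton_iff.1 (h3 hb)).symm
  have hDA : T.Q ⊓ T.Qc g ≤ A := le_sup_left
  have := Subgroup.eq_of_le_of_card_ge hDA (by rw [hc]; exact T.comm_card_le A hA hAc)
  rw [this]
  exact Subgroup.mem_sup_right (Subgroup.mem_zpowers x)

theorem weight {g u : G} (hg : T.IsPair g) (hu : T.IsFlip g u) :
    ∃ a ∈ T.Hy g, a ∉ T.Qc g ∧ u * a * u⁻¹ = a⁻¹ := by
  classical
  obtain ⟨-, -, hc, hab, hDH⟩ := T.basic hg
  obtain ⟨a₀, ha₀, ha₀'⟩ : ∃ a ∈ T.Hy g, a ∉ T.Qc g := by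
    by_contra h
    push Not at h
    have := Subgroup.card_le_of_le (show T.Hy g ≤ T.Q ⊓ T.Qc g from fun a ha => ⟨(T.mem_Hy.1 ha).1, h a ha⟩)
    rw [T.card_Hy hg, hc] at this
    omega
  have ha₀Q := (T.mem_Hy.1 ha₀).1
  have hna : u * a₀ * u⁻¹ ∈ T.Hy g := by
    refine T.mem_Hy.2 ⟨(Subgroup.mem_normalizer_iff.1 (IsFlip.norm T hu) _).1 ha₀Q, ?_⟩
    have e := IsFlip.conj_com T hu ha₀Q hg.1
    rw [hu.inv_y, (T.mem_Hy.1 ha₀).2, inv_one, Pre.com_eq_one_iff] at e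
    exact Pre.com_eq_one_iff.2 (Commute.inv_right_iff.1 e).eq
  set h := u * a₀ * u⁻¹ * a₀ with hh
  have hhH : h ∈ T.Hy g := mul_mem hna ha₀
  have hhD : h ∈ T.Q ⊓ T.Qc g := by
    refine T.cent_D hg (T.mem_Hy.1 hhH).1 fun d hd => Pre.com_eq_one_iff.1 ?_
    have hp : com u d ∈ T.P g := hu.on_D d hd
    have hpD := T.P_le hg hp
    have hud : u * d * u⁻¹ = com u d * d := by simp [com]
    have e1 : com (u * a₀ * u⁻¹) (u * d * u⁻¹) = com (u * a₀ * u⁻¹) d := by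
      rw [hud, T.com_mul_right (T.mem_Hy.1 hna).1 hpD.1 hd.1,
        Pre.com_eq_one_iff.2 (T.P_central hna hp), one_mul]
    rw [hh, T.com_mul_left (T.mem_Hy.1 hna).1 ha₀Q hd.1, ← e1, IsFlip.conj_com T hu ha₀Q hd.1,
      inv_mul_cancel]
  refine ⟨a₀ * (u * a₀ * u⁻¹)⁻¹, mul_mem ha₀ (inv_mem hna), fun h1 => ha₀' ?_, ?_⟩
  · have e : a₀ * (u * a₀ * u⁻¹)⁻¹ = a₀ * a₀ * h⁻¹ := by simp only [hh]; group
    rw [e] at h1
    have h2 : a₀ * a₀ ∈ T.Qc g := by simpa using mul_mem h1 hhD.2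
    have h3 := T.exp a₀ ha₀Q
    rw [pow_succ, pow_two] at h3
    have h4 : a₀ = (a₀ * a₀)⁻¹ := eq_inv_of_mul_eq_one_right h3
    rw [h4]; exact inv_mem h2
  · have e : u * (u * a₀ * u⁻¹)⁻¹ * u⁻¹ = a₀⁻¹ := by
      rw [show u * (u * a₀ * u⁻¹)⁻¹ * u⁻¹ = u * u * a₀⁻¹ * (u * u)⁻¹ by group, hu.sq]; group
    rw [show u * (a₀ * (u * a₀ * u⁻¹)⁻¹) * u⁻¹ = u * a₀ * u⁻¹ * (u * (u * a₀ * u⁻¹)⁻¹ * u⁻¹) by group, e]
    group

/-- The frame of a pair. -/
structure Frame (g : G) where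
  pair : T.IsPair g
  u : G
  d : G
  a : G
  b : G
  q : G
  hu : T.IsFlip g u
  d_mem : d ∈ T.Q ⊓ T.Qc g
  d_not : d ∉ T.P g
  a_mem : a ∈ T.Hy g
  a_not : a ∉ T.Qc g
  a_inv : u * a * u⁻¹ = a⁻¹
  q_mem : q ∈ T.Q
  q_not : q ∉ T.Hy g
  b_mem : b ∈ T.Qc g
  b_C : b ∈ T.C
  b_not : b ∉ T.Q
  b_inv : u * b * u⁻¹ = b⁻¹
  b_a : b * a = a * b
  b_d : com b d ∈ Subgroup.zpowers (g * T.z * g⁻¹)
  b_d_ne : com b d ≠ 1
  a1_mem : com b q ∈ T.Hy g
  a1_not : com b q ∉ T.Qc g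
  b_a1 : b * com b q = com b q * b

theorem exists_frame {g : G} (hg : T.IsPair g) : Nonempty (T.Frame g) := by
  classical
  obtain ⟨u, hu⟩ := T.exists_flip hg
  obtain ⟨hz, hg', hc, hab, hDH⟩ := T.basic hg
  obtain ⟨d, hd, hd'⟩ := T.exists_outside g hg
  obtain ⟨a, ha, ha', hau⟩ := T.weight hg hu
  obtain ⟨β, hβ, hβ', hβu⟩ := T.weight hg' (IsFlip.back T hg hu)
  set b := g * β * g⁻¹ with hb
  have hbQc : b ∈ T.Qc g := T.conj_mem_Qc (T.mem_Hy.1 hβ).1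
  have hbC : b ∈ T.C := by
    refine T.mem_C.2 ?_
    have h := Pre.com_eq_one_iff.1 (T.mem_Hy.1 hβ).2
    calc b * T.z = g * (β * (g⁻¹ * T.z * g⁻¹⁻¹)) * g⁻¹ := by simp only [hb]; group
      _ = g * (g⁻¹ * T.z * g⁻¹⁻¹ * β) * g⁻¹ := by rw [h]
      _ = T.z * b := by simp only [hb]; group
  have hbQ : b ∉ T.Q := fun h => hβ' (T.mem_Qc.2 (by simpa [hb] using h))
  have hbu : u * b * u⁻¹ = b⁻¹ := by
    calc u * b * u⁻¹ = g * (g⁻¹ * u * g * β * (g⁻¹ * u * g)⁻¹) * g⁻¹ := by simp only [hb]; group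
      _ = b⁻¹ := by rw [hβu]; simp only [hb]; group
  obtain ⟨q₀, hq₀, hq₀'⟩ : ∃ q ∈ T.Q, q ∉ T.Hy g := by
    by_contra h
    push Not at h
    have := Subgroup.card_le_of_le (show T.Q ≤ T.Hy g from h)
    rw [T.card_Hy hg, T.card_Q] at this
    omega
  set y := g * T.z * g⁻¹ with hy
  have hby : b * y = y * b := T.Qc_comm_y hbQc
  set uq := u * q₀ * u⁻¹ with huq
  have huqQ : uq ∈ T.Q := (Subgroup.mem_normalizer_iff.1 (IsFlip.norm T hu) _).1 hq₀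
  set q := q₀ * uq with hq
  have hqQ : q ∈ T.Q := mul_mem hq₀ huqQ
  have hcomq : com uq y = com q₀ y := by
    have h := IsFlip.conj_com T hu hq₀ (inv_mem hg.1)
    rw [show u * y⁻¹ * u⁻¹ = (u * y * u⁻¹)⁻¹ by group, hu.inv_y, inv_inv] at h
    rw [h]
    have h2 := T.com_mul_right hq₀ hg.1 (inv_mem hg.1)
    rw [mul_inv_cancel, show com q₀ (1 : G) = 1 by simp [com]] at h2
    exact inv_eq_of_mul_eq_one_left h2.symm
  have hqy : com q y ≠ 1 := fun h => hq₀' (T.mem_Hy.2 ⟨hq₀, by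
    rw [hq, T.com_mul_left hq₀ huqQ hg.1, hcomq] at h
    have h3 := T.cube_iff (T.Z_le (T.com_mem' hq₀ hg.1))
    rwa [h, one_mul] at h3⟩)
  have hqH : q ∉ T.Hy g := fun h => hqy (T.mem_Hy.1 h).2
  -- the action of b
  have hnQ : ∀ x ∈ T.Q, b * x * b⁻¹ ∈ T.Q := fun x hx => T.conj_Q hbC hx
  have hbcom : ∀ x ∈ T.Q, com b x ∈ T.Q := fun x hx => mul_mem (hnQ x hx) (inv_mem hx)
  set a₁ := com b q with ha₁
  have ha₁Q : a₁ ∈ T.Q := hbcom q hqQ
  have hbq : b * q * b⁻¹ = a₁ * q := by simp [ha₁, com]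
  have ha₁H : a₁ ∈ T.Hy g := by
    refine T.mem_Hy.2 ⟨ha₁Q, ?_⟩
    have e : com (b * q * b⁻¹) y = com q y := by
      conv_lhs => rw [show y = b * y * b⁻¹ by rw [hby, mul_inv_cancel_right]]
      rw [← Pre.com_conj, T.conj_Z hbC (T.com_mem' hqQ hg.1)]
    rw [hbq, T.com_mul_left ha₁Q hqQ hg.1] at e
    exact mul_eq_right.1 e
  have hbdy : com b d ∈ Subgroup.zpowers y := T.com_Qc hbQc hd.2
  have hbd1 : com b d ≠ 1 := by
    intro h
    -- then β centralises the back copy of D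
    have hD' : ∀ e ∈ T.Q ⊓ T.Qc g, b * e = e * b := by
      intro e he
      have hbP : ∀ p ∈ T.P g, p ∈ Subgroup.centralizer {b} := by
        intro p hp
        refine (sup_le (Subgroup.zpowers_le.2 ?_) (Subgroup.zpowers_le.2 ?_) : T.P g ≤ _) hp
        · exact Subgroup.mem_centralizer_singleton_iff.2 (T.mem_C.1 hbC).symm
        · exact Subgroup.mem_centralizer_singleton_iff.2 hby.symm
      have hdb : d ∈ Subgroup.centralizer {b} :=
        Subgroup.mem_centralizer_singleton_iff.2 (Pre.com_eq_one_iff.1 h).symm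
      refine (Subgroup.mem_centralizer_singleton_iff.1 ?_).symm
      rcases mem_three (T.P_le hg) (by rw [hc, T.card_P hg]) hd hd' (T.exp d hd.1) he with h' | h' | h'
      · exact hbP _ h'
      · simpa using mul_mem (hbP _ h') hdb
      · simpa using mul_mem (hbP _ h') (inv_mem hdb)
    refine hβ' ((T.cent_D hg' (T.mem_Hy.1 hβ).1 fun e he => ?_).2)
    have := hD' (g * e * g⁻¹) ⟨by simpa using T.mem_Qc.1 he.2, T.conj_mem_Qc he.1⟩
    have := congrArg (fun t => g⁻¹ * t * g) this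
    simpa [hb, mul_assoc] using this
  have ha₁D : a₁ ∉ T.Qc g := fun h => by
    have hDa : com a₁ d = 1 := Pre.com_eq_one_iff.2 (hab a₁ ⟨ha₁Q, h⟩ d hd)
    have e : com (b * q * b⁻¹) (b * d * b⁻¹) = com q d := by
      rw [← Pre.com_conj, T.conj_Z hbC (T.com_mem' hqQ hd.1)]
    set c := com b d with hc'
    have hcd : b * d * b⁻¹ = c * d := by simp [hc', com]
    obtain ⟨j, hj⟩ := Subgroup.mem_zpowers_iff.1 hbdy
    have hcQ : c ∈ T.Q := hj ▸ zpow_mem hg.1 j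
    have hcD : c ∈ T.Q ⊓ T.Qc g := ⟨hcQ, hj ▸ zpow_mem T.y_mem_Qc j⟩
    have hca : com a₁ c = 1 := Pre.com_eq_one_iff.2 (hab a₁ ⟨ha₁Q, h⟩ c hcD)
    rw [hbq, hcd, T.com_mul_left ha₁Q hqQ (mul_mem hcQ hd.1), T.com_mul_right ha₁Q hcQ hd.1,
      T.com_mul_right hqQ hcQ hd.1, hDa, hca, one_mul, one_mul, mul_eq_right] at e
    apply hqy
    have h1 : Commute q c := Pre.com_eq_one_iff.1 e
    haveI : Fact (Nat.Prime 3) := ⟨Nat.prime_three⟩
    have hgen := zpowers_eq_top_of_prime_card (T.card_y (g := g))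
      (g := (⟨c, hbdy⟩ : Subgroup.zpowers (g * T.z * g⁻¹))) (fun h => hbd1 (congrArg Subtype.val h))
    obtain ⟨k, hk⟩ : (⟨y, Subgroup.mem_zpowers _⟩ : Subgroup.zpowers (g * T.z * g⁻¹)) ∈
        Subgroup.zpowers _ := hgen.symm ▸ Subgroup.mem_top _
    have := congrArg Subtype.val hk
    push_cast at this
    refine Pre.com_eq_one_iff.2 ?_
    rw [← this]
    exact (h1.zpow_right k).eq
  have hnorm : ∀ x ∈ T.Hy g, ∀ p ∈ T.Qc g, x * p * x⁻¹ ∈ T.Qc g := by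
    intro x hx p hp
    refine T.mem_Qc.2 ?_
    have := (Subgroup.mem_normalizer_iff.1 (T.normQ (T.Hy_le_C hx)) _).1 (T.mem_Qc.1 hp)
    rwa [show g⁻¹ * x * g * (g⁻¹ * p * g) * (g⁻¹ * x * g)⁻¹ = g⁻¹ * (x * p * x⁻¹) * g by group] at this
  have hcbD : ∀ x ∈ T.Hy g, com b x ∈ T.Q ⊓ T.Qc g := fun x hx => by
    refine ⟨hbcom x (T.mem_Hy.1 hx).1, ?_⟩
    rw [show com b x = b * (x * b⁻¹ * x⁻¹) by simp only [com]; group]
    exact mul_mem hbQc (hnorm x hx _ (inv_mem hbQc))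
  -- the action of b on Q/Z has order three
  have hβP : ∀ p ∈ T.P g, b * p * b⁻¹ = p := by
    intro p hp
    have : T.P g ≤ Subgroup.centralizer {b} := sup_le
      (Subgroup.zpowers_le.2 (Subgroup.mem_centralizer_singleton_iff.2 (T.mem_C.1 hbC).symm))
      (Subgroup.zpowers_le.2 (Subgroup.mem_centralizer_singleton_iff.2 hby.symm))
    rw [← Subgroup.mem_centralizer_singleton_iff.1 (this hp), mul_inv_cancel_right]
  set c₁ := com b a₁ with hc₁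
  have hc₁D : c₁ ∈ T.Q ⊓ T.Qc g := hcbD a₁ ha₁H
  set φ := com b c₁ with hφ
  have hφy : φ ∈ Subgroup.zpowers y := T.com_Qc hbQc hc₁D.2
  have hφ1 : φ = 1 := by
    refine T.y_notMem_pow hg ?_ hφy
    have hφQ : φ ∈ T.Q := hbcom _ hc₁D.1
    have hφb : b * φ * b⁻¹ = φ := hβP _ (Subgroup.mem_sup_right hφy)
    have e1 : b * a₁ * b⁻¹ = c₁ * a₁ := by simp [hc₁, com]
    have e2 : b * c₁ * b⁻¹ = φ * c₁ := by simp [hφ, com]
    have hb3 : b * b * b = 1 := by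
      have := T.cube_iff (T.mem_Qc.1 hbQc)
      calc b * b * b = g * (g⁻¹ * b * g * (g⁻¹ * b * g) * (g⁻¹ * b * g)) * g⁻¹ := by group
        _ = 1 := by rw [this]; group
    have e3 : q = φ * c₁ * (c₁ * a₁) * (c₁ * a₁ * (a₁ * q)) := by
      calc q = b * b * b * q * (b * b * b)⁻¹ := by rw [hb3]; group
        _ = b * (b * (b * q * b⁻¹) * b⁻¹) * b⁻¹ := by group
        _ = b * (b * (a₁ * q) * b⁻¹) * b⁻¹ := by rw [hbq]
        _ = b * (b * a₁ * b⁻¹ * (b * q * b⁻¹)) * b⁻¹ := by group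
        _ = b * (c₁ * a₁ * (a₁ * q)) * b⁻¹ := by rw [e1, hbq]
        _ = b * c₁ * b⁻¹ * (b * a₁ * b⁻¹) * ((b * a₁ * b⁻¹) * (b * q * b⁻¹)) := by group
        _ = _ := by rw [e2, e1, hbq]
    have hb : ∀ x y : T.Q, T.bar (x * y) = T.bar x * T.bar y := fun _ _ => rfl
    let φ' : T.Q := ⟨φ, hφQ⟩
    let c' : T.Q := ⟨c₁, hc₁D.1⟩
    let a' : T.Q := ⟨a₁, ha₁Q⟩
    let q' : T.Q := ⟨q, hqQ⟩
    have e4 : T.bar q' = T.bar (φ' * c' * (c' * a') * (c' * a' * (a' * q'))) :=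
      congrArg T.bar (Subtype.ext (by simpa [φ', c', a', q'] using e3))
    simp only [hb] at e4
    have hc3 := T.V_cube (T.bar c')
    have ha3 := T.V_cube (T.bar a')
    simp only [pow_succ, pow_zero, one_mul] at hc3 ha3
    have e5 : T.bar φ' * ((T.bar c' * T.bar c' * T.bar c') * (T.bar a' * T.bar a' * T.bar a')) * T.bar q'
        = 1 * T.bar q' := by
      rw [one_mul]
      conv_rhs => rw [e4]
      ac_rfl
    rw [hc3, ha3, mul_one, mul_one] at e5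
    exact T.bar_eq_one.1 (mul_right_cancel e5)
  have hdc : ∀ x ∈ T.Q ⊓ T.Qc g, b * x = x * b → x ∈ T.P g := by
    intro x hx hxb
    rcases mem_three (T.P_le hg) (by rw [hc, T.card_P hg]) hd hd' (T.exp d hd.1) hx with h | h | h
    · exact h
    · exfalso; apply hbd1; refine Pre.com_eq_one_iff.2 ?_
      have e1 := hβP _ h
      have e : b * d * b⁻¹ = d := by
        calc b * d * b⁻¹ = (b * (x * d⁻¹) * b⁻¹)⁻¹ * (b * x * b⁻¹) := by group
          _ = d := by rw [e1, hxb, mul_inv_cancel_right]; group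
      calc b * d = b * d * b⁻¹ * b := by group
        _ = d * b := by rw [e]
    · exfalso; apply hbd1; refine Pre.com_eq_one_iff.2 ?_
      have e1 := hβP _ h
      have e : b * d * b⁻¹ = d := by
        calc b * d * b⁻¹ = (b * x * b⁻¹)⁻¹ * (b * (x * d) * b⁻¹) := by group
          _ = d := by rw [e1, hxb, mul_inv_cancel_right]; group
      calc b * d = b * d * b⁻¹ * b := by group
        _ = d * b := by rw [e]
  have hc₁P : c₁ ∈ T.P g := hdc _ hc₁D (Pre.com_eq_one_iff.1 hφ1)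
  -- every element of `C_Q(y)` is moved by `b` inside `P`
  have hbH : ∀ x ∈ T.Hy g, com b x ∈ T.P g := by
    intro x hx
    let K : Subgroup G :=
      { carrier := {x | x ∈ T.Hy g ∧ com b x ∈ T.P g}
        one_mem' := ⟨one_mem _, by simp [com]⟩
        mul_mem' := fun {x y} hx hy => ⟨mul_mem hx.1 hy.1, by
          have e : com b (x * y) = com b x * (x * com b y * x⁻¹) := by simp only [com]; group
          rw [e, T.P_central hx.1 hy.2, mul_inv_cancel_right]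
          exact mul_mem hx.2 hy.2⟩
        inv_mem' := fun {x} hx => ⟨inv_mem hx.1, by
          have e : com b x⁻¹ = x⁻¹ * (com b x)⁻¹ * x := by simp only [com]; group
          rw [e, T.P_central (inv_mem hx.1) (inv_mem hx.2), inv_mul_cancel_right]
          exact inv_mem hx.2⟩ }
    have hKD : ∀ e ∈ T.Q ⊓ T.Qc g, e ∈ K := fun e he =>
      ⟨hDH he, Subgroup.mem_sup_right (T.com_Qc hbQc he.2)⟩
    have haK : a₁ ∈ K := ⟨ha₁H, hc₁P⟩
    rcases mem_three hDH (by rw [T.card_Hy hg, hc]) ha₁H (fun h => ha₁D h.2) (T.exp a₁ ha₁Q) hx with h | h | h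
    · exact (hKD _ h).2
    · exact (show x ∈ K by simpa using mul_mem (hKD _ h) haK).2
    · exact (show x ∈ K by simpa using mul_mem (hKD _ h) (inv_mem haK)).2
  have hPinv : ∀ p ∈ T.P g, u * p * u⁻¹ = p⁻¹ := by
    intro p hp
    let I : Subgroup G :=
      { carrier := {x | x ∈ T.P g ∧ u * x * u⁻¹ = x⁻¹}
        one_mem' := ⟨one_mem _, by group⟩
        mul_mem' := fun {x y} hx hy => ⟨mul_mem hx.1 hy.1, by
          rw [show u * (x * y) * u⁻¹ = (u * x * u⁻¹) * (u * y * u⁻¹) by group, hx.2, hy.2, ← mul_inv_rev,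
            hab y (T.P_le hg hy.1) x (T.P_le hg hx.1)]⟩
        inv_mem' := fun {x} hx => ⟨inv_mem hx.1, by
          rw [show u * x⁻¹ * u⁻¹ = (u * x * u⁻¹)⁻¹ by group, hx.2]⟩ }
    have : T.P g ≤ I := sup_le (Subgroup.zpowers_le.2 ⟨T.Z_le_P T.z_mem, hu.inv_z⟩)
      (Subgroup.zpowers_le.2 ⟨T.y_mem_P, hu.inv_y⟩)
    exact (this hp).2
  have hba : b * a = a * b := by
    have hp := hbH a ha
    set c := com b a with hc'
    have e1 : u * c * u⁻¹ = (a * b)⁻¹ * c * (a * b) := by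
      rw [hc', Pre.com_conj, hbu, hau]; simp only [com]; group
    rw [hPinv c hp, mul_assoc (a * b)⁻¹, show c * (a * b) = a * b * c from by
      rw [← mul_assoc c a b, ← T.P_central ha hp, mul_assoc a c b, show c * b = b * c from
        (mul_inv_eq_iff_eq_mul.1 (hβP c hp)).symm, ← mul_assoc a b c], inv_mul_cancel_left] at e1
    refine Pre.com_eq_one_iff.1 ?_
    have h3 := T.cube_iff (T.P_le hg hp).1
    have h4 : c * c = 1 := by conv_lhs => lhs; rw [← e1]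
                              exact inv_mul_cancel c
    rw [h4, one_mul] at h3
    exact h3
  have ha₁b : b * a₁ = a₁ * b := by
    have hπ : u * a₁ * u⁻¹ * a₁ ∈ T.P g := by
      have e1 : u * q * u⁻¹ = (com q₀ uq)⁻¹ * q := by
        simp only [hq, huq, com]
        rw [show u * (q₀ * (u * q₀ * u⁻¹)) * u⁻¹ = u * q₀ * u⁻¹ * (u * u * q₀ * (u * u)⁻¹) by group, hu.sq]
        group
      have hεC : (com q₀ uq)⁻¹ ∈ T.toPre.Z := inv_mem (T.com_mem' hq₀ huqQ)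
      set ε := (com q₀ uq)⁻¹
      have e2 : u * a₁ * u⁻¹ = b⁻¹ * ε * b * (b⁻¹ * q * b) * q⁻¹ * ε⁻¹ := by
        rw [ha₁, Pre.com_conj, hbu, e1]; simp only [com]; group
      have hε' : b⁻¹ * ε * b = ε := by simpa using T.conj_Z (inv_mem hbC) hεC
      have e3 : b⁻¹ * q * b = (b⁻¹ * a₁ * b)⁻¹ * q := by
        calc b⁻¹ * q * b = (b⁻¹ * a₁ * b)⁻¹ * (b⁻¹ * (a₁ * q) * b) := by group
          _ = (b⁻¹ * a₁ * b)⁻¹ * (b⁻¹ * (b * q * b⁻¹) * b) := by rw [hbq]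
          _ = _ := by group
      have hbinv : b⁻¹ * a₁ * b = a₁ * (b⁻¹ * (a₁⁻¹ * c₁ * a₁)⁻¹ * b) := by
        simp only [hc₁, com]; group
      have hc₁' : a₁⁻¹ * c₁ * a₁ = c₁ := by
        rw [mul_assoc, ← T.P_central ha₁H hc₁P, inv_mul_cancel_left]
      have hc₁b : b⁻¹ * c₁⁻¹ * b = c₁⁻¹ := by
        conv_lhs => rw [← hβP _ (inv_mem hc₁P)]
        group
      rw [hc₁', hc₁b] at hbinv
      have hεa : ε * c₁ * a₁⁻¹ * ε⁻¹ * a₁ = c₁ := by
        have h1 := T.Z_central (T.Q_le_C (inv_mem ha₁Q)) (inv_mem hεC)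
        have h2 := T.Z_central (T.Q_le_C hc₁D.1) hεC
        calc ε * c₁ * a₁⁻¹ * ε⁻¹ * a₁ = ε * c₁ * (a₁⁻¹ * ε⁻¹) * a₁ := by group
          _ = c₁ * ε * (ε⁻¹ * a₁⁻¹) * a₁ := by rw [h1, h2]
          _ = c₁ := by group
      rw [e2, hε', e3, hbinv]
      have e4 : ε * ((a₁ * c₁⁻¹)⁻¹ * q) * q⁻¹ * ε⁻¹ * a₁ = ε * c₁ * a₁⁻¹ * ε⁻¹ * a₁ := by group
      rw [e4, hεa]
      exact hc₁P
    set π := u * a₁ * u⁻¹ * a₁ with hπdef
    obtain ⟨a', ha'H, ha'u, hx, hba'⟩ : ∃ a', a' ∈ T.Hy g ∧ u * a' * u⁻¹ = a'⁻¹ ∧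
        a₁ * a' ∈ T.Q ⊓ T.Qc g ∧ b * a' = a' * b := by
      rcases mem_three hDH (by rw [T.card_Hy hg, hc]) ha (fun h => ha' h.2) (T.exp a (T.mem_Hy.1 ha).1)
        ha₁H with h | h | h
      · exact absurd h.2 ha₁D
      · exact ⟨a⁻¹, inv_mem ha, by rw [show u * a⁻¹ * u⁻¹ = (u * a * u⁻¹)⁻¹ by group, hau], h,
          ((show Commute b a from hba).inv_right).eq⟩
      · exact ⟨a, ha, hau, h, hba⟩
    set x := a₁ * a' with hxdef
    have hxP : x ∈ T.P g := by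
      have h1 := hu.on_D x hx
      have hεZ : com a' a₁ ∈ T.toPre.Z := T.com_mem' (T.mem_Hy.1 ha'H).1 ha₁Q
      have e1 : com u x = π * (com a' a₁ * x)⁻¹ * x⁻¹ := by
        have : u * x * u⁻¹ = (u * a₁ * u⁻¹) * (u * a' * u⁻¹) := by simp only [hxdef]; group
        rw [show com u x = u * x * u⁻¹ * x⁻¹ from rfl, this, ha'u]
        simp only [hπdef, hxdef, com]; group
      rw [e1] at h1
      have h2 : (com a' a₁ * x)⁻¹ * x⁻¹ ∈ T.P g := by
        have := mul_mem (inv_mem hπ) h1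
        simpa [mul_assoc] using this
      have h3 : x * x ∈ T.P g := by
        have := mul_mem (inv_mem h2) (inv_mem (T.Z_le_P hεZ))
        have e : ((com a' a₁ * x)⁻¹ * x⁻¹)⁻¹ * (com a' a₁)⁻¹ = x * x := by
          calc ((com a' a₁ * x)⁻¹ * x⁻¹)⁻¹ * (com a' a₁)⁻¹
              = x * com a' a₁ * x * (com a' a₁)⁻¹ := by group
            _ = com a' a₁ * x * x * (com a' a₁)⁻¹ := by rw [T.Z_central (T.Q_le_C hx.1) hεZ]
            _ = x * x := by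
              rw [mul_assoc (com a' a₁) x x, ← T.Z_central (T.Q_le_C (mul_mem hx.1 hx.1)) hεZ]; group
        rwa [e] at this
      have h4 := T.cube_iff hx.1
      rw [eq_inv_of_mul_eq_one_right h4]
      exact inv_mem h3
    have h5 : b * x = x * b := by
      calc b * x = b * x * b⁻¹ * b := by group
        _ = x * b := by rw [hβP x hxP]
    have : a₁ = x * a'⁻¹ := by simp only [hxdef]; group
    rw [this]
    exact (Commute.mul_right (h5 : Commute b x) (Commute.inv_right hba')).eq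
  exact ⟨⟨hg, u, d, a, b, q, hu, hd, hd', ha, ha', hau, hqQ, hqH, hbQc, hbC, hbQ, hbu, hba,
    hbdy, hbd1, ha₁H, ha₁D, ha₁b⟩⟩

end Loc

end Cfsg.Agent.Spor.PSLFourThree
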