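import Mathlib

/-!
The group `(A₄ × A₄) : 2²`: pairs of elements of two copies of the symmetric group of degree four of
equal sign, extended by the exchange, in coordinates, and facts checked on its elements.
-/

set_option autoImplicit false
set_option maxRecDepth 100000
set_option synthInstance.maxSize 4096
set_option synthInstance.maxHeartbeats 200000

namespace Cfsg.Agent.Spor.PSLFourThree

/-- The element `((v, rⁱ mᵉ), (w, rʲ mᵉ)) σˢ`. -/
@[ext] structure Pr where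
  v : Fin 4
  w : Fin 4
  i : Fin 3
  j : Fin 3
  e : Bool
  s : Bool

namespace Pr

instance : DecidableEq Pr := fun a b =>
  decidable_of_iff (a.v = b.v ∧ a.w = b.w ∧ a.i = b.i ∧ a.j = b.j ∧ a.e = b.e ∧ a.s = b.s)
    ⟨fun h => Pr.ext h.1 h.2.1 h.2.2.1 h.2.2.2.1 h.2.2.2.2.1 h.2.2.2.2.2,
      fun h => h ▸ ⟨rfl, rfl, rfl, rfl, rfl, rfl⟩⟩

instance : Fintype Pr := Fintype.ofEquiv (Fin 4 × Fin 4 × Fin 3 × Fin 3 × Bool × Bool)
  ⟨fun x => ⟨x.1, x.2.1, x.2.2.1, x.2.2.2.1, x.2.2.2.2.1, x.2.2.2.2.2⟩,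
    fun m => (m.v, m.w, m.i, m.j, m.e, m.s), fun _ => rfl, fun _ => rfl⟩

/-- The sum in the fours group. -/
def vad (a b : Fin 4) : Fin 4 := ⟨(a.1 ^^^ b.1) % 4, Nat.mod_lt _ (by norm_num)⟩

/-- The action of `rⁱ mᵉ` on the fours group. -/
def act (i : Fin 3) (e : Bool) (x : Fin 4) : Fin 4 :=
  if x = 0 then 0 else
    let k : ℕ := if e then (3 - (x.1 - 1)) % 3 else x.1 - 1
    ⟨(k + i.1) % 3 + 1, by omega⟩

/-- The signed exponent. -/
def sg (e : Bool) (i : Fin 3) : Fin 3 := if e then -i else i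

/-- The product in the symmetric group of degree three. -/
def tmul (a : Fin 3 × Bool) (b : Fin 3 × Bool) : Fin 3 × Bool := (a.1 + sg a.2 b.1, a.2.xor b.2)

theorem vad_facts : ∀ a b c : Fin 4, vad (vad a b) c = vad a (vad b c) ∧ vad 0 a = a ∧ vad a a = 0 := by
  decide +kernel

theorem act_facts : ∀ (i k : Fin 3) (e f : Bool) (a b : Fin 4), act i e (vad a b) = vad (act i e a) (act i e b) ∧
    act i e (act k f a) = act (i + sg e k) (e.xor f) a ∧ act 0 false a = a ∧ act i e 0 = 0 := by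
  decide +kernel

theorem sg_facts : ∀ (i k : Fin 3) (e f : Bool), sg e (i + k) = sg e i + sg e k ∧ sg e (sg f i) = sg (e.xor f) i := by
  decide +kernel

instance : Mul Pr := ⟨fun a b =>
  ⟨vad a.v (act a.i a.e (bif a.s then b.w else b.v)), vad a.w (act a.j a.e (bif a.s then b.v else b.w)),
    a.i + sg a.e (bif a.s then b.j else b.i), a.j + sg a.e (bif a.s then b.i else b.j), a.e.xor b.e,
    a.s.xor b.s⟩⟩

instance : One Pr := ⟨⟨0, 0, 0, 0, false, false⟩⟩

instance : Inv Pr := ⟨fun a =>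
  ⟨act (-sg a.e (bif a.s then a.j else a.i)) a.e (bif a.s then a.w else a.v),
    act (-sg a.e (bif a.s then a.i else a.j)) a.e (bif a.s then a.v else a.w),
    -sg a.e (bif a.s then a.j else a.i), -sg a.e (bif a.s then a.i else a.j), a.e, a.s⟩⟩

theorem mul_def (a b : Pr) : a * b =
    ⟨vad a.v (act a.i a.e (bif a.s then b.w else b.v)), vad a.w (act a.j a.e (bif a.s then b.v else b.w)),
      a.i + sg a.e (bif a.s then b.j else b.i), a.j + sg a.e (bif a.s then b.i else b.j), a.e.xor b.e,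
      a.s.xor b.s⟩ := rfl

theorem mul_assoc' (a b c : Pr) : a * b * c = a * (b * c) := by
  obtain ⟨av, aw, ai, aj, ae, as'⟩ := a
  obtain ⟨bv, bw, bi, bj, be, bs⟩ := b
  obtain ⟨cv, cw, ci, cj, ce, cs⟩ := c
  have h1 := fun a b c => (vad_facts a b c).1
  have h2 := fun i e a b => (act_facts i 0 e false a b).1
  have h3 := fun i k e f a => (act_facts i k e f a 0).2.1
  have h4 := fun i k e => (sg_facts i k e false).1
  have h5 := fun i e f => (sg_facts i 0 e f).2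
  cases as' <;> cases bs <;> simp [mul_def, h1, h2, h3, h4, h5, add_assoc]

theorem one_mul' : ∀ a : Pr, 1 * a = a := by decide +kernel

theorem inv_mul' : ∀ a : Pr, a⁻¹ * a = 1 := by decide +kernel

instance : Group Pr := Group.ofLeftAxioms mul_assoc' one_mul' inv_mul'

/-- An element of the symmetric group of degree three from its coordinates. -/
def toPerm (a : Fin 3 × Bool) : Equiv.Perm (Fin 3) :=
  ⟨fun k => a.1 + sg a.2 k, fun k => sg a.2 (k - a.1), fun k => by revert a k; decide, fun k => by revert a k; decide⟩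

theorem toPerm_mul : ∀ a b : Fin 3 × Bool, toPerm (tmul a b) = toPerm a * toPerm b := by decide +kernel

theorem sum_sg : ∀ (i j k l : Fin 3) (e : Bool),
    i + sg e k + (j + sg e l) = i + j + sg e (k + l) ∧ i + sg e l + (j + sg e k) = i + j + sg e (k + l) := by
  decide +kernel

/-- The projection on the symmetric group of degree three. -/
def pi : Pr →* Equiv.Perm (Fin 3) where
  toFun a := toPerm (a.i + a.j, a.e)
  map_one' := by decide +kernel
  map_mul' a b := by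
    rw [← toPerm_mul, mul_def]
    rcases a with ⟨av, aw, ai, aj, ae, as'⟩
    cases as'
    · simp only [tmul, cond_false]
      rw [(sum_sg _ _ _ _ _).1]
    · simp only [tmul, cond_true]
      rw [(sum_sg _ _ _ _ _).2]

/-- An involution of one fours group. -/
def v0 : Pr := ⟨1, 0, 0, 0, false, false⟩

/-- A three-cycle in the first factor. -/
def c1 : Pr := ⟨0, 0, 1, 0, false, false⟩

/-- A three-cycle in the second factor. -/
def c2 : Pr := ⟨0, 0, 0, 1, false, false⟩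

/-- The exchange. -/
def sx : Pr := ⟨0, 0, 0, 0, false, true⟩

/-- A product of two odd elements. -/
def em : Pr := ⟨0, 0, 0, 0, true, false⟩

/-- Membership in the product of the two fours groups. -/
def inV (x : Pr) : Prop := x.i = 0 ∧ x.j = 0 ∧ x.e = false ∧ x.s = false

instance (x : Pr) : Decidable (inV x) := inferInstanceAs (Decidable (_ ∧ _ ∧ _ ∧ _))

/-- Membership in the elementary group of order nine. -/
def inE (x : Pr) : Prop := x.v = 0 ∧ x.w = 0 ∧ x.e = false ∧ x.s = false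

instance (x : Pr) : Decidable (inE x) := inferInstanceAs (Decidable (_ ∧ _ ∧ _ ∧ _))

theorem pi_surj : ∀ σ : Equiv.Perm (Fin 3), ∃ a : Fin 3 × Bool, toPerm a = σ := by decide +kernel

theorem card_pr : Fintype.card Pr = 576 := by decide +kernel

theorem pi_three : ∀ x : Pr, x.i + x.j ≠ 0 → x.e = false → x * x * x * x * (x * x * x * x) * (x * x * x * x) = 1 ∧
    x * x * x * x ≠ 1 := by decide +kernel

theorem pi_cases : ∀ a : Fin 3 × Bool, toPerm a ^ 3 = 1 → toPerm a ≠ 1 → a.1 ≠ 0 ∧ a.2 = false := by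
  decide +kernel

theorem inV_v0 : inV v0 ∧ v0 * v0 = 1 ∧ v0 ≠ 1 := by decide +kernel

theorem c_facts : c1 * c1 * c1 = 1 ∧ c2 * c2 * c2 = 1 ∧ c1 * c2 = c2 * c1 ∧ c1 ≠ 1 ∧ c2 ≠ 1 ∧
    sx * c1 * sx⁻¹ = c2 ∧ em * c1 * em⁻¹ = c1⁻¹ ∧ em * c2 * em⁻¹ = c2⁻¹ := by decide +kernel

/-- The four elements of one fours group. -/
def vl (i : Fin 4) : Pr := ![1, v0, c1 * v0 * c1⁻¹, c1 * (c1 * v0 * c1⁻¹) * c1⁻¹] i

set_option maxHeartbeats 400000 in
theorem inV_gen : ∀ x : Pr, inV x → ∃ i j : Fin 4, x = vl i * (sx * vl j * sx⁻¹) := by decide +kernel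

theorem no_nine : ∀ x : Pr, x * x * x * (x * x * x) * (x * x * x) = 1 → x * x * x = 1 := by decide +kernel

theorem three_norm : ∀ x : Pr, x * x * x = 1 → inE (x * c1 * x⁻¹) → inE (x * c2 * x⁻¹) → inE x := by
  decide +kernel

theorem moves_three : ∀ x : Pr, ¬ inV x → x ^ 64 = 1 →
    (x * c1 * x⁻¹ * c1⁻¹) ^ 64 ≠ 1 ∨ (x * c2 * x⁻¹ * c2⁻¹) ^ 64 ≠ 1 := by
  decide +kernel

/-- The representatives of the four cosets of the normal subgroup of index four. -/
def rep (e s : Bool) : Pr := ⟨0, 0, 0, 0, e, s⟩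

theorem decompose : ∀ x : Pr,
    x = ⟨x.v, x.w, 0, 0, false, false⟩ * ⟨0, 0, x.i, x.j, false, false⟩ * rep x.e x.s := by decide +kernel

theorem rep_facts : rep false false = 1 ∧ rep false true = sx ∧ rep true false = em ∧ rep true true = em * sx ∧
    sx * sx = 1 ∧ em * em = 1 ∧ em * sx = sx * em := by decide +kernel

theorem norm_comm : ∀ y : Pr, inE (y * c1 * y⁻¹) → inE (y * c2 * y⁻¹) → ∀ i j : Fin 3,
    let t : Pr := ⟨0, 0, i, j, false, false⟩
    let u : Pr := t * y * t⁻¹ * y⁻¹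
    inE u ∧ (y.e = false → y.s = false → u = 1) ∧ (y.e = false → y.s = true → u.i + u.j = 0) ∧
      (y.e = true → y.s = true → u.i = u.j) ∧
      (y.e = true → y.s = false → y * t * y⁻¹ = t⁻¹) ∧ (y.e = false → y.s = false → y * t * y⁻¹ = t) := by
  decide +kernel

/-- The first diagonal. -/
def cp : Pr := c1 * c2

/-- The second diagonal. -/
def cm : Pr := c1 * c2⁻¹

theorem diag_cent : ∀ y : Pr, (y * cp = cp * y →
      inE y ∨ (inE (y * c1 * y⁻¹ * c1⁻¹) ∧ (y * c1 * y⁻¹ * c1⁻¹).i ≠ (y * c1 * y⁻¹ * c1⁻¹).j)) ∧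
    (y * cm = cm * y →
      inE y ∨ (inE (y * c1 * y⁻¹ * c1⁻¹) ∧
        (y * c1 * y⁻¹ * c1⁻¹).i + (y * c1 * y⁻¹ * c1⁻¹).j ≠ 0)) := by decide +kernel

theorem inE_cases : ∀ x : Pr, inE x → x ≠ 1 → x = c1 ∨ x = c1⁻¹ ∨ x = c2 ∨ x = c2⁻¹ ∨
    x = cp ∨ x = cp⁻¹ ∨ x = cm ∨ x = cm⁻¹ := by decide +kernel

theorem diag_span : ∀ x : Pr, inE x → (x.i ≠ x.j → ∃ a b : Fin 3, c1 = cp ^ (a : ℕ) * x ^ (b : ℕ)) ∧
    (x.i + x.j ≠ 0 → ∃ a b : Fin 3, c1 = cm ^ (a : ℕ) * x ^ (b : ℕ)) := by decide +kernel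

theorem inV_min : ∀ x : Pr, inV x → x ≠ 1 → ∃ i : Fin 3,
    c1 ^ (i : ℕ) * (x * c1 * x⁻¹ * c1⁻¹) * (c1 ^ (i : ℕ))⁻¹ = v0 ∨
    c1 ^ (i : ℕ) * (sx * x * sx⁻¹ * c1 * (sx * x * sx⁻¹)⁻¹ * c1⁻¹) * (c1 ^ (i : ℕ))⁻¹ = v0 := by
  decide +kernel

theorem diag_acts : sx * cp * sx⁻¹ = cp ∧ sx * cm * sx⁻¹ = cm⁻¹ ∧ em * sx * cp * (em * sx)⁻¹ = cp⁻¹ ∧
    em * sx * cm * (em * sx)⁻¹ = cm ∧ cp * cp * cp = 1 ∧ cm * cm * cm = 1 ∧ cp * cm = cm * cp := by
  decide +kernel

theorem diag_ne : ∀ i j : Fin 3, cp ^ (i : ℕ) * cm ^ (j : ℕ) = 1 → i = 0 ∧ j = 0 := by decide +kernel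

theorem inE_diag : ∀ x : Pr, inE x ↔ ∃ i j : Fin 3, x = cp ^ (i : ℕ) * cm ^ (j : ℕ) := by decide +kernel

theorem v0_out : ¬ inE (v0 * c1 * v0⁻¹) := by decide +kernel

end Pr

end Cfsg.Agent.Spor.PSLFourThree
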