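import Cfsg.Agent.Lib.Spor.PSLFourThree.Gen
import Cfsg.Agent.Lib.Spor.PSLFourThree.PairModel
import Cfsg.Agent.Lib.Lie.PSpFourThreeAmalgam.Pair
import Cfsg.Agent.Lib.Lie.PSpFourThreeFull.Generic
import Cfsg.Agent.Lib.Char.InvertedSylow.Main
import Cfsg.Agent.S0075

/-!
A group containing `(A₄ × A₄) : 2²` so that the elements of order three move only inside it and an
involution of one fours group stays in their product is that subgroup.
-/

set_option autoImplicit false
set_option linter.unusedSectionVars false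
set_option linter.style.haveILetI false
set_option maxRecDepth 100000

namespace Cfsg.Agent.Spor.PSLFourThree

open Pr (c1 c2 v0 sx cp cm inV inE rep)

universe u

/-- The product of the two fours groups, as a subgroup. -/
def VP : Subgroup Pr where
  carrier := {x | inV x}
  one_mem' := ⟨rfl, rfl, rfl, rfl⟩
  mul_mem' := by
    rintro ⟨av, aw, ai, aj, ae, as'⟩ ⟨bv, bw, bi, bj, be, bs⟩ ⟨h1, h2, h3, h4⟩ ⟨g1, g2, g3, g4⟩
    subst h1 h2 h3 h4 g1 g2 g3 g4
    simp [inV, Pr.mul_def, Pr.sg]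
  inv_mem' := by
    rintro x hx
    revert x
    decide +kernel

/-- The elementary subgroup of order nine. -/
def EP : Subgroup Pr where
  carrier := {x | inE x}
  one_mem' := ⟨rfl, rfl, rfl, rfl⟩
  mul_mem' := by
    rintro ⟨av, aw, ai, aj, ae, as'⟩ ⟨bv, bw, bi, bj, be, bs⟩ ⟨h1, h2, h3, h4⟩ ⟨g1, g2, g3, g4⟩
    subst h1 h2 h3 h4 g1 g2 g3 g4
    simp [inE, Pr.mul_def, (Pr.vad_facts 0 0 0).2.1, fun i e => (Pr.act_facts i 0 e false 0 0).2.2.2]
  inv_mem' := by
    rintro x hx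
    revert x
    decide +kernel

theorem mem_VP {x : Pr} : x ∈ VP ↔ inV x := Iff.rfl

theorem mem_EP {x : Pr} : x ∈ EP ↔ inE x := Iff.rfl

theorem card_EP : Nat.card EP = 9 := by
  rw [Nat.card_congr (Equiv.subtypeEquivRight fun _ => mem_EP), Nat.card_eq_fintype_card]
  decide +kernel

theorem VP_normal : ∀ g x : Pr, inV x → inV (g * x * g⁻¹) := by decide +kernel

theorem VP_four : ∀ x : Pr, inV x → x ^ 4 = 1 := by decide +kernel

theorem EP_three : ∀ x : Pr, inE x → x * x * x = 1 := by decide +kernel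

theorem EP_comm : ∀ x : Pr, inE x → x * c1 = c1 * x ∧ x * c2 = c2 * x := by decide +kernel

theorem EP_comm_all : ∀ i j k l : Fin 3,
    (⟨0, 0, i, j, false, false⟩ : Pr) * ⟨0, 0, k, l, false, false⟩ =
      ⟨0, 0, k, l, false, false⟩ * ⟨0, 0, i, j, false, false⟩ := by decide +kernel

theorem EP_eq {x : Pr} (h : inE x) : x = ⟨0, 0, x.i, x.j, false, false⟩ := by
  obtain ⟨h1, h2, h3, h4⟩ := h
  exact Pr.ext h1 h2 rfl rfl h3 h4

theorem cp_mem : inE cp ∧ inE cm ∧ inE c1 ∧ inE c2 ∧ cp ≠ 1 ∧ cm ≠ 1 := by decide +kernel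

theorem pi_v0 : Pr.pi v0 = 1 := by decide +kernel

theorem pi_inV' : ∀ x : Pr, inV x → Pr.pi x = 1 := by decide +kernel

theorem pi_onto : ∀ σ : Equiv.Perm (Fin 3), ∃ x : Pr, Pr.pi x = σ := by decide +kernel

theorem em_acts : ∀ i j : Fin 3,
    Pr.em * (⟨0, 0, i, j, false, false⟩ : Pr) * Pr.em⁻¹ = (⟨0, 0, i, j, false, false⟩ : Pr)⁻¹ ∧
      inE (Pr.em * (⟨0, 0, i, j, false, false⟩ : Pr) * Pr.em⁻¹) := by decide +kernel

theorem diag_line : ∀ y : Pr, inE y → (y.i = y.j → ∃ i : Fin 3, y = cp ^ (i : ℕ)) ∧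
    (y.i + y.j = 0 → ∃ i : Fin 3, y = cm ^ (i : ℕ)) := by decide +kernel

/-- The configuration. -/
structure PairCfg (Y : Type u) [Group Y] where
  φ : Pr →* Y
  inj : Function.Injective φ
  key : ∀ x : Pr, x * x * x = 1 → x ≠ 1 → ∀ g : Y, g * φ x * g⁻¹ ∈ φ.range → g ∈ φ.range
  hv : ∀ (g : Y) (x : Pr), g * φ v0 * g⁻¹ = φ x → inV x

namespace PairCfg

variable {Y : Type u} [Group Y] (T : PairCfg Y)

/-- The elementary subgroup. -/
def E : Subgroup Y := EP.map T.φ

/-- The product of the two fours groups. -/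
def V : Subgroup Y := VP.map T.φ

theorem mem_E {g : Y} : g ∈ T.E ↔ ∃ x, inE x ∧ T.φ x = g := Subgroup.mem_map

theorem mem_V {g : Y} : g ∈ T.V ↔ ∃ x, inV x ∧ T.φ x = g := Subgroup.mem_map

theorem φ_E {x : Pr} : T.φ x ∈ T.E ↔ inE x := Subgroup.mem_map_iff_mem T.inj

theorem φ_V {x : Pr} : T.φ x ∈ T.V ↔ inV x := Subgroup.mem_map_iff_mem T.inj

theorem card_E : Nat.card T.E = 9 := by rw [E, Subgroup.card_map_of_injective T.inj, card_EP]

theorem E_three {g : Y} (hg : g ∈ T.E) : g ^ 3 = 1 := by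
  obtain ⟨x, hx, rfl⟩ := T.mem_E.1 hg
  rw [← map_pow, pow_succ, pow_two, EP_three x hx, map_one]

theorem E_isPGroup : IsPGroup 3 T.E := IsPGroup.of_card (n := 2) (by rw [T.card_E]; norm_num)

theorem E_comm : IsMulCommutative T.E :=
  ⟨⟨fun a b => Subtype.ext (by
    obtain ⟨x, hx, hxa⟩ := T.mem_E.1 a.2
    obtain ⟨y, hy, hyb⟩ := T.mem_E.1 b.2
    show (a : Y) * b = b * a
    rw [← hxa, ← hyb, ← map_mul, ← map_mul, EP_eq hx, EP_eq hy, EP_comm_all])⟩⟩

theorem mem_range_of_norm {g : Y} (h : g * T.φ c1 * g⁻¹ ∈ T.E) : g ∈ T.φ.range :=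
  T.key c1 Pr.c_facts.1 Pr.c_facts.2.2.2.1 g (Subgroup.map_le_range _ _ h)

theorem norm_E_le : Subgroup.normalizer (T.E : Set Y) ≤ T.φ.range := fun g hg =>
  T.mem_range_of_norm ((Subgroup.mem_normalizer_iff.1 hg _).1 (T.φ_E.2 cp_mem.2.2.1))

theorem cent_le {e : Y} (he : e ∈ T.E) (he1 : e ≠ 1) : Subgroup.centralizer ({e} : Set Y) ≤ T.φ.range := by
  obtain ⟨x, hx, rfl⟩ := T.mem_E.1 he
  intro g hg
  refine T.key x (EP_three x hx) (fun h => he1 (by rw [h, map_one])) g ?_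
  rw [Subgroup.mem_centralizer_singleton_iff.1 hg, mul_inv_cancel_right]
  exact ⟨x, rfl⟩

theorem card_range : Nat.card T.φ.range = 576 := by
  rw [← Nat.card_congr (MonoidHom.ofInjective T.inj).toEquiv, Nat.card_eq_fintype_card, Pr.card_pr]

theorem pow_576 {x : Pr} : x ^ 576 = 1 := Pr.card_pr ▸ pow_card_eq_one

variable [Finite Y]

theorem exists_sylow : ∃ P : Sylow 3 Y, (P : Subgroup Y) = T.E := by
  haveI : Fact (Nat.Prime 3) := ⟨Nat.prime_three⟩
  obtain ⟨P, hP⟩ := T.E_isPGroup.exists_le_sylow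
  refine ⟨P, le_antisymm (fun y hy => ?_) hP⟩
  set S := T.E.subgroupOf P
  suffices htop : S = ⊤ by
    exact Subgroup.mem_subgroupOf.1 (htop ▸ Subgroup.mem_top (⟨y, hy⟩ : (P : Subgroup Y)))
  by_contra hne
  haveI : Group.IsNilpotent (P : Subgroup Y) := P.2.isNilpotent
  obtain ⟨g, hg, hgS⟩ := SetLike.exists_of_lt
    (Group.normalizerCondition_of_isNilpotent (G := (P : Subgroup Y)) S (lt_top_iff_ne_top.2 hne))
  have hc : ∀ x, inE x → (g : Y) * T.φ x * (g : Y)⁻¹ ∈ T.E := fun x hx =>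
    (Subgroup.mem_normalizer_iff.1 hg ⟨_, hP (T.φ_E.2 hx)⟩).1 (T.φ_E.2 hx)
  obtain ⟨x, hx⟩ := T.mem_range_of_norm (hc c1 cp_mem.2.2.1)
  obtain ⟨k, hk⟩ := P.2 g
  have hk' : (g : Y) ^ 3 ^ k = 1 := by simpa using congrArg Subtype.val hk
  rw [← hx, ← map_pow, ← T.φ.map_one] at hk'
  have h9 : x ^ 9 = 1 := by
    refine orderOf_dvd_iff_pow_eq_one.1 (Nat.Coprime.dvd_of_dvd_mul_right (n := 64) ?_
      (show orderOf x ∣ 9 * 64 from orderOf_dvd_iff_pow_eq_one.2 pow_576))
    exact Nat.Coprime.coprime_dvd_left (orderOf_dvd_of_pow_eq_one (T.inj hk')) (Nat.Coprime.pow_left k (by norm_num))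
  refine hgS (Subgroup.mem_subgroupOf.2 ?_)
  rw [← hx, T.φ_E]
  refine Pr.three_norm x (Pr.no_nine x ?_) ?_ ?_
  · rw [← h9]
    simp only [pow_succ, pow_zero, one_mul, mul_assoc]
  · rw [← T.φ_E, map_mul, map_mul, map_inv, hx]
    exact hc c1 cp_mem.2.2.1
  · rw [← T.φ_E, map_mul, map_mul, map_inv, hx]
    exact hc c2 cp_mem.2.2.2.1

include T in
theorem not_dvd_27 : ¬ 27 ∣ Nat.card Y := by
  haveI : Fact (Nat.Prime 3) := ⟨Nat.prime_three⟩
  obtain ⟨P, hP⟩ := T.exists_sylow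
  intro h
  have h1 := P.pow_dvd_card_of_pow_dvd_card (n := 3) (by simpa using h)
  rw [hP, T.card_E] at h1
  norm_num at h1

/-- A group of order prime to three normalised by the elementary subgroup lies in the fours groups. -/
theorem le_V (O : Subgroup Y) (hO : (Nat.card O).Coprime 3) (hEO : T.E ≤ Subgroup.normalizer (O : Set Y)) :
    O ≤ T.V := by
  refine le_of_fixed T.E_comm T.card_E (fun a ha => T.E_three ha) hEO hO fun e he he1 => ?_
  rintro g ⟨hgO, hgC⟩
  obtain ⟨x, rfl⟩ := T.cent_le he he1 hgC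
  have h64 : ∀ y : Pr, T.φ y ∈ O → y ^ 64 = 1 := fun y hy => by
    have h1 : orderOf y ∣ Nat.card O := by
      rw [← orderOf_injective T.φ T.inj y, ← Subgroup.orderOf_mk _ hy]
      exact orderOf_dvd_natCard _
    refine orderOf_dvd_iff_pow_eq_one.1 (Nat.Coprime.dvd_of_dvd_mul_left (m := 9) ?_
      (show orderOf y ∣ 9 * 64 from orderOf_dvd_iff_pow_eq_one.2 pow_576))
    exact Nat.Coprime.coprime_dvd_left h1 (by simpa using hO.pow_right 2)
  rw [T.φ_V]
  by_contra hV
  have hcm : ∀ c, inE c → T.φ (x * c * x⁻¹ * c⁻¹) ∈ O := fun c hc => by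
    have h1 := (Subgroup.mem_normalizer_iff.1 (hEO (T.φ_E.2 hc)) _).1 (O.inv_mem hgO)
    have h2 := O.mul_mem hgO h1
    have e : T.φ x * (T.φ c * (T.φ x)⁻¹ * (T.φ c)⁻¹) = T.φ (x * c * x⁻¹ * c⁻¹) := by
      simp [mul_assoc]
    rwa [e] at h2
  rcases Pr.moves_three x hV (h64 x hgO) with h | h
  · exact h (h64 _ (hcm c1 cp_mem.2.2.1))
  · exact h (h64 _ (hcm c2 cp_mem.2.2.2.1))

theorem V_le {R : Subgroup Y} (h : T.φ v0 ∈ R) (hinv : ∀ y : Pr, ∀ r ∈ R, T.φ y * r * (T.φ y)⁻¹ ∈ R) :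
    T.V ≤ R := by
  intro g hg
  obtain ⟨x, hx, rfl⟩ := T.mem_V.1 hg
  obtain ⟨i, j, rfl⟩ := Pr.inV_gen x hx
  have hvl : ∀ i : Fin 4, T.φ (Pr.vl i) ∈ R := by
    intro i
    have hc : ∀ y : Pr, T.φ y ∈ R → T.φ (c1 * y * c1⁻¹) ∈ R := fun y hy => by
      rw [map_mul, map_mul, map_inv]
      exact hinv c1 _ hy
    fin_cases i
    · exact (map_one T.φ).symm ▸ R.one_mem
    · exact h
    · exact hc _ h
    · exact hc _ (hc _ h)
  rw [map_mul]
  refine R.mul_mem (hvl i) ?_
  rw [map_mul, map_mul, map_inv]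
  exact hinv sx _ (hvl j)

/-- A non-trivial normal subgroup of order prime to three is the product of the fours groups. -/
theorem eq_V (O : Subgroup Y) [hOn : O.Normal] (hO : (Nat.card O).Coprime 3) (hne : O ≠ ⊥) : O = T.V := by
  have hle := T.le_V O hO (by rw [Subgroup.normalizer_eq_top (H := O)]; exact le_top)
  refine le_antisymm hle (T.V_le ?_ fun y r hr => hOn.conj_mem r hr _)
  obtain ⟨g, hg, hg1⟩ := O.bot_or_exists_ne_one.resolve_left hne
  obtain ⟨x, hx, rfl⟩ := T.mem_V.1 (hle hg)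
  have hkey : ∀ y : Pr, T.φ y ∈ O → ∀ i : Fin 3,
      c1 ^ (i : ℕ) * (y * c1 * y⁻¹ * c1⁻¹) * (c1 ^ (i : ℕ))⁻¹ = v0 → T.φ v0 ∈ O := by
    intro y hy i he
    rw [← he, map_mul, map_mul, map_inv]
    refine hOn.conj_mem _ ?_ _
    have h2 := O.mul_mem hy (hOn.conj_mem _ (O.inv_mem hy) (T.φ c1))
    simpa [mul_assoc] using h2
  obtain ⟨i, h | h⟩ := Pr.inV_min x hx (fun h => hg1 (by rw [h, map_one]))
  · exact hkey x hg i h
  · exact hkey _ (by rw [map_mul, map_mul, map_inv]; exact hOn.conj_mem _ hg _) i h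

theorem exists_closure : ∃ N : Subgroup Y, ∃ _ : N.Normal, T.φ v0 ∈ N ∧ N ≠ ⊤ ∧
    (Cfsg.pResidual 3 N = ⊤) := by
  classical
  haveI := Fintype.ofFinite Y
  set W := T.φ.range
  set e := MonoidHom.ofInjective T.inj
  set ρ : W →* Equiv.Perm (Fin 3) := Pr.pi.comp e.symm.toMonoidHom
  have hval : ∀ w : W, T.φ (e.symm w) = (w : Y) := fun w => by
    conv_rhs => rw [← e.apply_symm_apply w]
    rfl
  have hρ : Function.Surjective ρ := fun σ => by
    obtain ⟨x, hx⟩ := pi_onto σ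
    exact ⟨e x, by show Pr.pi (e.symm (e x)) = σ; rw [e.symm_apply_apply, hx]⟩
  have hpow : ∀ w : W, ρ w ^ 3 = 1 → ρ w ≠ 1 → ∀ g : Y, g * (w : Y) * g⁻¹ ∈ W → g ∈ W := by
    intro w h1 h2 g hg
    obtain ⟨y, hy⟩ : ∃ y, y = e.symm w := ⟨_, rfl⟩
    have hsum : y.i + y.j ≠ 0 ∧ y.e = false := by
      have := Pr.pi_cases (y.i + y.j, y.e) (by
        show Pr.pi y ^ 3 = 1
        rw [hy]; exact h1) (by
        show Pr.pi y ≠ 1
        rw [hy]; exact h2)
      exact this
    obtain ⟨h3, h4⟩ := Pr.pi_three y hsum.1 hsum.2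
    refine T.key _ h3 h4 g ?_
    have := W.pow_mem hg 4
    rw [conj_pow, ← hval w, ← map_pow, ← hy] at this
    rwa [show y * y * y * y = y ^ 4 by simp only [pow_succ, pow_zero, one_mul]]
  have hτm : T.φ v0 ∈ W := ⟨v0, rfl⟩
  obtain ⟨K, hK, hvK, hKt⟩ := Cfsg.Agent.Lie.PSpFourThreeAmalgam.exists_proper_normal W ρ hρ
    (fun w h1 h2 g hg _ _ _ _ => hpow w h1 h2 g hg) ⟨T.φ v0, hτm⟩
    (fun _ => by
      show Pr.pi (e.symm ⟨T.φ v0, hτm⟩) = 1
      rw [show e.symm ⟨T.φ v0, hτm⟩ = v0 from T.inj (hval _), pi_v0])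
    (fun g _ w' hw' _ => by
      show Pr.pi (e.symm w') = 1
      exact pi_inV' _ (T.hv g _ ((hval w').trans hw').symm))
    (fun w h1 h2 c g he => by
      set u := g * T.φ v0 * g⁻¹ with hu
      set v := g * c * T.φ v0 * (g * c)⁻¹ with hv
      have huv : u * v = (w : Y) := by
        rw [← he, hu, hv]
        group
      have hsq : ∀ a : Y, a * T.φ v0 * a⁻¹ * (a * T.φ v0 * a⁻¹) = 1 := fun a => by
        rw [show a * T.φ v0 * a⁻¹ * (a * T.φ v0 * a⁻¹) = a * (T.φ v0 * T.φ v0) * a⁻¹ by group,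
          ← map_mul, Pr.inV_v0.2.1, map_one, mul_one, mul_inv_cancel]
      have huu : u * u = 1 := hsq g
      have hvv : v * v = 1 := hsq (g * c)
      have hinv : u * (w : Y) * u⁻¹ = (w : Y)⁻¹ := by
        rw [← huv, mul_inv_rev u v, inv_eq_of_mul_eq_one_right huu, inv_eq_of_mul_eq_one_right hvv,
          ← mul_assoc u u v, huu, one_mul]
      have huW : u ∈ W := hpow w h1 h2 u (by rw [hinv]; exact W.inv_mem w.2)
      have hvW : v ∈ W := by
        rw [show v = u⁻¹ * (w : Y) by rw [← huv, inv_mul_cancel_left]]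
        exact W.mul_mem (W.inv_mem huW) w.2
      obtain ⟨a, ha⟩ := huW
      obtain ⟨b, hb⟩ := hvW
      refine h2 ?_
      show Pr.pi (e.symm w) = 1
      rw [show e.symm w = a * b from T.inj (by rw [hval, map_mul, ha, hb, huv]), map_mul,
        pi_inV' _ (T.hv g a ha.symm), pi_inV' _ (T.hv (g * c) b hb.symm), one_mul])
  refine ⟨Subgroup.normalClosure {T.φ v0}, Subgroup.normalClosure_normal,
    Subgroup.subset_normalClosure rfl,
    fun h => hKt (top_le_iff.1 (h ▸ Subgroup.normalClosure_le_normal (Set.singleton_subset_iff.2 hvK))), ?_⟩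
  set N := Subgroup.normalClosure ({T.φ v0} : Set Y)
  rw [eq_top_iff]
  rintro ⟨x, hx⟩ -
  induction hx using Subgroup.closure_induction with
  | mem y hy =>
    refine Cfsg.Agent.Lie.PSpFourThreeFull.mem_pResidual ?_
    rw [← orderOf_injective N.subtype N.subtype_injective]
    show (orderOf y).Coprime 3
    obtain ⟨a, rfl, hconj⟩ := Group.mem_conjugatesOfSet_iff.1 hy
    obtain ⟨c, hc⟩ := isConj_iff.1 hconj
    have h2 : y ^ 2 = 1 := by
      rw [← hc, conj_pow, ← map_pow, pow_two, Pr.inV_v0.2.1, map_one, mul_one, mul_inv_cancel]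
    exact Nat.Coprime.coprime_dvd_left (orderOf_dvd_of_pow_eq_one h2) (by norm_num)
  | one => exact Subgroup.one_mem _
  | mul a b ha hb iha ihb => exact Subgroup.mul_mem _ iha ihb
  | inv a ha iha => exact Subgroup.inv_mem _ iha

theorem mem_of_inE {N : Subgroup Y} [hN : N.Normal] (h : T.φ c1 ∈ N) {x : Pr} (hx : inE x) : T.φ x ∈ N := by
  have h2 : T.φ c2 ∈ N := by
    rw [← Pr.c_facts.2.2.2.2.2.1, map_mul, map_mul, map_inv]
    exact hN.conj_mem _ h _
  obtain ⟨i, j, rfl⟩ := (Pr.inE_diag x).1 hx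
  have hp : T.φ cp ∈ N := by rw [cp, map_mul]; exact N.mul_mem h h2
  have hm : T.φ cm ∈ N := by rw [cm, map_mul, map_inv]; exact N.mul_mem h (N.inv_mem h2)
  rw [map_mul, map_pow, map_pow]
  exact N.mul_mem (N.pow_mem hp _) (N.pow_mem hm _)

theorem V_ne : T.V ≠ ⊥ := fun h => Pr.inV_v0.2.2 (T.inj (by
  rw [map_one]
  exact Subgroup.mem_bot.1 (h ▸ T.φ_V.2 Pr.inV_v0.1)))

/-- The elementary subgroup inside the closure of the involution. -/
theorem exists_core_big {N : Subgroup Y} [hN : N.Normal] (hv : T.φ v0 ∈ N) (hNt : N ≠ ⊤)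
    (hres : Cfsg.pResidual 3 N = ⊤) (hc : T.φ c1 ∈ N) :
    ∃ O : Subgroup Y, O.Normal ∧ (Nat.card O).Coprime 3 ∧ O ≠ ⊥ := by
  haveI : Fact (Nat.Prime 3) := ⟨Nat.prime_three⟩
  obtain ⟨P, hP⟩ := T.exists_sylow
  have hEN : T.E ≤ N := fun g hg => by
    obtain ⟨x, hx, rfl⟩ := T.mem_E.1 hg
    exact T.mem_of_inE hc hx
  have hVN : T.V ≤ N := T.V_le hv fun y r hr => hN.conj_mem r hr _
  set Q := P.subtype (hP ▸ hEN) with hQdef
  have hQ : (Q : Subgroup N) = T.E.subgroupOf N := by rw [hQdef, Sylow.coe_subtype, hP]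
  have hQc : IsMulCommutative (Q : Subgroup N) := by
    rw [hQ]
    exact ⟨⟨fun a b => Subtype.ext (Subtype.ext (show (a.1.1 : Y) * b.1.1 = b.1.1 * a.1.1 from
      congrArg Subtype.val (T.E_comm.is_comm.comm ⟨_, Subgroup.mem_subgroupOf.1 a.2⟩
        ⟨_, Subgroup.mem_subgroupOf.1 b.2⟩)))⟩⟩
  -- the frattini argument
  have hfrat : ∀ g : Y, ∃ n ∈ N, ∃ r ∈ T.φ.range, g = n * r := by
    intro g
    have hsup := Sylow.normalizer_sup_eq_top Q
    rw [hQ, Subgroup.subgroupOf_map_subtype, inf_eq_left.2 hEN, sup_comm] at hsup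
    have hg : g ∈ N ⊔ Subgroup.normalizer (T.E : Set Y) := hsup ▸ Subgroup.mem_top g
    rw [← SetLike.mem_coe, Subgroup.normal_mul N _] at hg
    obtain ⟨n, hn, r, hr, rfl⟩ := hg
    exact ⟨n, hn, r, T.norm_E_le hr, rfl⟩
  have hrep : ∀ x : Pr, T.φ x ∈ N → T.φ (rep x.e x.s) ∈ N := by
    intro x hx
    have hdec := congrArg T.φ (Pr.decompose x)
    rw [map_mul, map_mul] at hdec
    rw [hdec] at hx
    exact (N.mul_mem_cancel_left (N.mul_mem (hVN (T.φ_V.2 ⟨rfl, rfl, rfl, rfl⟩))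
      (hEN (T.φ_E.2 ⟨rfl, rfl, rfl, rfl⟩)))).1 hx
  have hall : ¬ (T.φ sx ∈ N ∧ T.φ Pr.em ∈ N) := by
    rintro ⟨h1, h2⟩
    refine hNt (eq_top_iff.2 fun g _ => ?_)
    obtain ⟨n, hn, r, ⟨x, rfl⟩, rfl⟩ := hfrat g
    refine N.mul_mem hn ?_
    rw [Pr.decompose x, map_mul, map_mul]
    refine N.mul_mem (N.mul_mem (hVN (T.φ_V.2 ⟨rfl, rfl, rfl, rfl⟩))
      (hEN (T.φ_E.2 ⟨rfl, rfl, rfl, rfl⟩))) ?_
    obtain ⟨r1, r2, r3, r4, -⟩ := Pr.rep_facts
    cases x.e <;> cases x.s
    · rw [r1, map_one]; exact N.one_mem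
    · rw [r2]; exact h1
    · rw [r3]; exact h2
    · rw [r4, map_mul]; exact N.mul_mem h2 h1
  -- the residual is everything, so the commutator is everything
  have hcomm : ∀ L : Subgroup N, (∀ t ∈ (Q : Subgroup N),
      ∀ n ∈ Subgroup.normalizer ((Q : Subgroup N) : Set N), t * n * t⁻¹ * n⁻¹ ∈ L) → (Q : Subgroup N) ≤ L := by
    intro L hL
    have h := Cfsg.Agent.S0075.result Q hQc
    rw [hres, inf_top_eq] at h
    rw [h]
    exact Subgroup.commutator_le.2 fun t ht n hn => hL t ht n hn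
  have hlift : ∀ n ∈ Subgroup.normalizer ((Q : Subgroup N) : Set N), ∃ y : Pr, T.φ y = (n : Y) ∧
      inE (y * c1 * y⁻¹) ∧ inE (y * c2 * y⁻¹) := by
    intro n hn
    have hcon : ∀ c, inE c → (n : Y) * T.φ c * (n : Y)⁻¹ ∈ T.E := fun c hc' => by
      have := (Subgroup.mem_normalizer_iff.1 hn ⟨T.φ c, hEN (T.φ_E.2 hc')⟩).1
        (by rw [hQ]; exact Subgroup.mem_subgroupOf.2 (T.φ_E.2 hc'))
      rw [hQ] at this
      exact Subgroup.mem_subgroupOf.1 this
    obtain ⟨y, hy⟩ := T.mem_range_of_norm (hcon c1 cp_mem.2.2.1)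
    refine ⟨y, hy, ?_, ?_⟩ <;> rw [← T.φ_E, map_mul, map_mul, map_inv, hy]
    exacts [hcon c1 cp_mem.2.2.1, hcon c2 cp_mem.2.2.2.1]
  have hQmem : ∀ t ∈ (Q : Subgroup N), ∃ i j : Fin 3, T.φ ⟨0, 0, i, j, false, false⟩ = (t : Y) := by
    intro t ht
    rw [hQ] at ht
    obtain ⟨x, hx, hxt⟩ := T.mem_E.1 (Subgroup.mem_subgroupOf.1 ht)
    exact ⟨x.i, x.j, by rw [← EP_eq hx, hxt]⟩
  have hc1Q : (⟨T.φ c1, hc⟩ : N) ∈ (Q : Subgroup N) := by
    rw [hQ]; exact Subgroup.mem_subgroupOf.2 (T.φ_E.2 cp_mem.2.2.1)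
  -- a line cannot hold all commutators
  have hline : ∀ p : Fin 3 → Fin 3 → Prop, p 0 0 → ¬ p 1 0 →
      (∀ a b c d : Fin 3, p a b → p c d → p (a + c) (b + d)) → (∀ a b, p a b → p (-a) (-b)) →
      (∀ y : Pr, T.φ y ∈ N → inE (y * c1 * y⁻¹) → inE (y * c2 * y⁻¹) → ∀ i j : Fin 3,
        let u : Pr := ⟨0, 0, i, j, false, false⟩ * y * (⟨0, 0, i, j, false, false⟩ : Pr)⁻¹ * y⁻¹
        inE u → p u.i u.j) → False := by
    intro p p0 p1 padd pneg hp
    let L : Subgroup N :=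
      { carrier := {n | ∃ x, inE x ∧ p x.i x.j ∧ T.φ x = (n : Y)}
        one_mem' := ⟨1, ⟨rfl, rfl, rfl, rfl⟩, p0, by simp⟩
        mul_mem' := by
          rintro a b ⟨x, hx, hpx, hxa⟩ ⟨y, hy, hpy, hyb⟩
          refine ⟨x * y, EP.mul_mem hx hy, ?_, by rw [map_mul, hxa, hyb]; rfl⟩
          rw [EP_eq hx, EP_eq hy]
          simpa [Pr.mul_def, Pr.sg] using padd _ _ _ _ hpx hpy
        inv_mem' := by
          rintro a ⟨x, hx, hpx, hxa⟩
          refine ⟨x⁻¹, EP.inv_mem hx, ?_, by rw [map_inv, hxa]; rfl⟩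
          rw [EP_eq hx]
          exact pneg _ _ hpx }
    have hle : (Q : Subgroup N) ≤ L := hcomm L fun t ht n hn => by
      obtain ⟨y, hy, h1, h2⟩ := hlift n hn
      obtain ⟨i, j, hij⟩ := hQmem t ht
      have hu := (Pr.norm_comm y h1 h2 i j).1
      refine ⟨_, hu, hp y (hy ▸ n.2) h1 h2 i j hu, ?_⟩
      simp only [map_mul, map_inv, hij, hy]
      rfl
    obtain ⟨x, -, hpx, hxe⟩ := hle hc1Q
    rw [T.inj hxe] at hpx
    exact p1 hpx
  have hem : T.φ Pr.em ∈ N := by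
    by_contra hem
    have htriv : ∀ y : Pr, T.φ y ∈ N → y.e = true → y.s = false → False := fun y hy h1 h2 => by
      have := hrep y hy
      rw [h1, h2, Pr.rep_facts.2.2.1] at this
      exact hem this
    by_cases hsx : T.φ sx ∈ N
    · refine hline (fun a b => a + b = 0) rfl (by decide) (by decide) (by decide)
        fun y hy h1 h2 i j _ => ?_
      have hfacts := Pr.norm_comm y h1 h2 i j
      rcases Bool.eq_false_or_eq_true y.e with he | he <;> rcases Bool.eq_false_or_eq_true y.s with hs | hs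
      · exfalso
        have := hrep y hy
        rw [he, hs, Pr.rep_facts.2.2.2.1, map_mul] at this
        exact hem ((N.mul_mem_cancel_right hsx).1 this)
      · exact (htriv y hy he hs).elim
      · exact hfacts.2.2.1 he hs
      · rw [show _ = (1 : Pr) from hfacts.2.1 he hs]; rfl
    · refine hline (fun a b => a = b) rfl (by decide) (by decide) (by decide)
        fun y hy h1 h2 i j _ => ?_
      have hfacts := Pr.norm_comm y h1 h2 i j
      rcases Bool.eq_false_or_eq_true y.e with he | he <;> rcases Bool.eq_false_or_eq_true y.s with hs | hs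
      · exact hfacts.2.2.2.1 he hs
      · exact (htriv y hy he hs).elim
      · exfalso
        have := hrep y hy
        rw [he, hs, Pr.rep_facts.2.1] at this
        exact hsx this
      · rw [show _ = (1 : Pr) from hfacts.2.1 he hs]; rfl
  have hsx : T.φ sx ∉ N := fun h => hall ⟨h, hem⟩
  have hInv : Cfsg.Agent.Char.InvertedSylow.Inv Q := by
    refine ⟨hQc, ?_, by norm_num, ?_, ⟨⟨T.φ Pr.em, hem⟩, ?_, ?_⟩⟩
    · intro hcyc
      obtain ⟨⟨g, hg⟩, hgen⟩ := hcyc.exists_generator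
      have h9 : orderOf (⟨g, hg⟩ : (Q : Subgroup N)) = 9 := by
        rw [orderOf_eq_card_of_forall_mem_zpowers hgen, hQ,
          Nat.card_congr (Subgroup.subgroupOfEquivOfLe hEN).toEquiv, T.card_E]
      rw [Subgroup.orderOf_mk] at h9
      rw [hQ] at hg
      have h3 : g ^ 3 = 1 := Subtype.ext (by simpa using T.E_three (Subgroup.mem_subgroupOf.1 hg))
      have := orderOf_dvd_of_pow_eq_one h3
      rw [h9] at this
      norm_num at this
    · intro n hn
      obtain ⟨y, hy, h1, h2⟩ := hlift n hn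
      have hyN : T.φ y ∈ N := hy ▸ n.2
      rcases Bool.eq_false_or_eq_true y.e with he | he <;> rcases Bool.eq_false_or_eq_true y.s with hs | hs
      · exfalso
        have := hrep y hyN
        rw [he, hs, Pr.rep_facts.2.2.2.1, map_mul] at this
        exact hsx ((N.mul_mem_cancel_left hem).1 this)
      · refine Or.inr fun t ht => Subtype.ext ?_
        obtain ⟨i, j, hij⟩ := hQmem t ht
        show (n : Y) * t * (n : Y)⁻¹ = (t : Y)⁻¹
        rw [← hy, ← hij, ← map_inv, ← map_mul, ← map_mul, ← map_inv, (Pr.norm_comm y h1 h2 i j).2.2.2.2.1 he hs]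
      · exfalso
        have := hrep y hyN
        rw [he, hs, Pr.rep_facts.2.1] at this
        exact hsx this
      · refine Or.inl fun t ht => Subtype.ext ?_
        obtain ⟨i, j, hij⟩ := hQmem t ht
        show (n : Y) * t * (n : Y)⁻¹ = (t : Y)
        rw [← hy, ← hij, ← map_inv, ← map_mul, ← map_mul, (Pr.norm_comm y h1 h2 i j).2.2.2.2.2 he hs]
    · refine Subgroup.mem_normalizer_fintype fun t ht => ?_
      obtain ⟨i, j, hij⟩ := hQmem t ht
      show (⟨T.φ Pr.em, hem⟩ : N) * t * (⟨T.φ Pr.em, hem⟩ : N)⁻¹ ∈ (Q : Subgroup N)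
      rw [hQ, Subgroup.mem_subgroupOf]
      show T.φ Pr.em * t * (T.φ Pr.em)⁻¹ ∈ T.E
      rw [← hij, ← map_inv, ← map_mul, ← map_mul, T.φ_E]
      exact (em_acts i j).2
    · intro t ht
      obtain ⟨i, j, hij⟩ := hQmem t ht
      refine Subtype.ext ?_
      show T.φ Pr.em * t * (T.φ Pr.em)⁻¹ = (t : Y)⁻¹
      rw [← hij, ← map_inv, ← map_inv, ← map_mul, ← map_mul]
      exact congrArg T.φ (em_acts i j).1
  set O := Cfsg.pPrimeCore 3 N with hO
  have hOb : O ≠ ⊥ := fun h => by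
    have hn := Cfsg.Agent.Lie.PSpFourThreeFull.normal_of_length_one hInv.pLength h Q
    have h1 := hn.conj_mem _ hc1Q ⟨T.φ v0, hv⟩
    rw [hQ, Subgroup.mem_subgroupOf] at h1
    refine Pr.v0_out (T.φ_E.1 ?_)
    rw [map_mul, map_mul, map_inv]
    exact h1
  refine ⟨O.map N.subtype, ?_, ?_, fun h => hOb ((Subgroup.map_eq_bot_iff_of_injective _ N.subtype_injective).1 h)⟩
  · haveI : O.Characteristic := inferInstance
    infer_instance
  · rw [Subgroup.card_map_of_injective N.subtype_injective]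
    exact Cfsg.Agent.Fusion.card_pPrimeCore_coprime 3 _

theorem exists_core {N : Subgroup Y} [hN : N.Normal] (hv : T.φ v0 ∈ N) (hNt : N ≠ ⊤)
    (hres : Cfsg.pResidual 3 N = ⊤) : ∃ O : Subgroup Y, O.Normal ∧ (Nat.card O).Coprime 3 ∧ O ≠ ⊥ := by
  haveI : Fact (Nat.Prime 3) := ⟨Nat.prime_three⟩
  by_cases hc : T.φ c1 ∈ N
  · exact T.exists_core_big hv hNt hres hc
  obtain ⟨P, hP⟩ := T.exists_sylow
  by_cases hmeet : ∀ x, inE x → T.φ x ∈ N → x = 1
  · refine ⟨N, hN, ?_, fun h => Pr.inV_v0.2.2 (T.inj (by rw [map_one]; exact Subgroup.mem_bot.1 (h ▸ hv)))⟩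
    by_contra hco
    obtain ⟨a, ha⟩ := exists_prime_orderOf_dvd_card' (G := N) 3
      (Classical.not_not.1 fun h => hco ((Nat.prime_three.coprime_iff_not_dvd.2 h).symm))
    have hap : IsPGroup 3 (Subgroup.zpowers (a : Y)) := IsPGroup.of_card (n := 1) (by
      rw [Nat.card_zpowers, pow_one, ← ha]
      exact (orderOf_injective N.subtype N.subtype_injective a))
    obtain ⟨S, hS⟩ := hap.exists_le_sylow
    obtain ⟨g, hg⟩ := MulAction.exists_smul_eq Y S P
    have h1 : g * (a : Y) * g⁻¹ ∈ T.E := by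
      rw [← hP, ← hg, Sylow.coe_subgroup_smul]
      exact Subgroup.smul_mem_pointwise_smul _ (MulAut.conj g) _ (hS (Subgroup.mem_zpowers _))
    obtain ⟨x, hx, hxe⟩ := T.mem_E.1 h1
    have hx1 := hmeet x hx (hxe ▸ hN.conj_mem _ a.2 g)
    rw [hx1, map_one] at hxe
    rw [show (a : N) = 1 from Subtype.ext (conj_eq_one_iff.1 hxe.symm), orderOf_one] at ha
    norm_num at ha
  push Not at hmeet
  obtain ⟨x, hx, hxN, hx1⟩ := hmeet
  have hd : ∀ d, (d = cp ∨ d = cm) → T.φ d ∈ N →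
      ∃ O : Subgroup Y, O.Normal ∧ (Nat.card O).Coprime 3 ∧ O ≠ ⊥ := by
    intro d hd hdN
    have hd3 : d * d * d = 1 ∧ d ≠ 1 ∧ inE d := by
      rcases hd with rfl | rfl
      exacts [⟨Pr.diag_acts.2.2.2.2.1, cp_mem.2.2.2.2.1, cp_mem.1⟩, ⟨Pr.diag_acts.2.2.2.2.2.1, cp_mem.2.2.2.2.2, cp_mem.2.1⟩]
    have hline : ∀ y, inE y → T.φ y ∈ N → y ∈ Subgroup.zpowers d := by
      intro y hy hyN
      by_contra hout
      refine hc ?_
      obtain ⟨a, b, hab⟩ : ∃ a b : Fin 3, c1 = d ^ (a : ℕ) * y ^ (b : ℕ) := by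
        rcases hd with rfl | rfl
        · refine (Pr.diag_span y hy).1 fun h => hout ?_
          have h' : ∃ i : Fin 3, y = cp ^ (i : ℕ) := (diag_line y hy).1 h
          obtain ⟨i, rfl⟩ := h'
          exact Subgroup.pow_mem _ (Subgroup.mem_zpowers _) _
        · refine (Pr.diag_span y hy).2 fun h => hout ?_
          have h' : ∃ i : Fin 3, y = cm ^ (i : ℕ) := (diag_line y hy).2 h
          obtain ⟨i, rfl⟩ := h'
          exact Subgroup.pow_mem _ (Subgroup.mem_zpowers _) _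
      rw [hab, map_mul, map_pow, map_pow]
      exact N.mul_mem (N.pow_mem hdN _) (N.pow_mem hyN _)
    have hd_ord : orderOf (T.φ d) = 3 := orderOf_eq_prime
      (by rw [← map_pow, pow_succ, pow_two, hd3.1, map_one]) fun h => hd3.2.1 (T.inj (by rw [h, map_one]))
    have h9 : ¬ 9 ∣ Nat.card N := by
      intro h
      obtain ⟨R, hR⟩ := Sylow.exists_subgroup_card_pow_prime (G := N) 3 (n := 2) (by simpa using h)
      obtain ⟨S, hS⟩ := ((IsPGroup.of_card hR).map N.subtype).exists_le_sylow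
      obtain ⟨g, hg⟩ := MulAction.exists_smul_eq Y S P
      have hle : (R.map N.subtype).map (MulAut.conj g).toMonoidHom ≤ Subgroup.zpowers (T.φ d) := by
        rintro _ ⟨a, ha, rfl⟩
        have h1 : g * a * g⁻¹ ∈ T.E := by
          rw [← hP, ← hg, Sylow.coe_subgroup_smul]
          exact Subgroup.smul_mem_pointwise_smul _ (MulAut.conj g) _ (hS ha)
        obtain ⟨y, hy, hye⟩ := T.mem_E.1 h1
        obtain ⟨k, rfl⟩ := Subgroup.mem_zpowers_iff.1
          (hline y hy (hye ▸ hN.conj_mem a (Subgroup.map_subtype_le _ ha) g))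
        exact Subgroup.mem_zpowers_iff.2 ⟨k, by rw [← map_zpow, hye]; rfl⟩
      have h1 := Subgroup.card_le_of_le hle
      rw [Subgroup.card_map_of_injective (MulEquiv.injective _),
        Subgroup.card_map_of_injective N.subtype_injective, hR, Nat.card_zpowers, hd_ord] at h1
      norm_num at h1
    obtain ⟨M', hM'n, -, hM'co, hM'c⟩ := Cfsg.Agent.Lie.PSpFourThreeAmalgam.exists_complement N T.E T.card_E
      T.not_dvd_27 h9 hdN hd_ord (fun g hgN hgd => by
        obtain ⟨y, rfl⟩ := T.cent_le (T.φ_E.2 hd3.2.2) (fun h => hd3.2.1 (T.inj (by rw [h, map_one])))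
          (Subgroup.mem_centralizer_singleton_iff.2 hgd)
        rw [← map_mul, ← map_mul] at hgd
        have hcm : ∀ (y : Pr), T.φ y ∈ N → T.φ (y * c1 * y⁻¹ * c1⁻¹) ∈ N := fun y hy => by
          have h2 := N.mul_mem hy (hN.conj_mem _ (N.inv_mem hy) (T.φ c1))
          simpa [mul_assoc] using h2
        have hnot : ∀ u : Pr, T.φ u ∈ N → inE u → u ∈ Subgroup.zpowers d := fun u hu hu' => hline u hu' hu
        have hyd : y ∈ Subgroup.zpowers d := by
          rcases hd with rfl | rfl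
          · rcases (Pr.diag_cent y).1 (T.inj hgd) with h | ⟨h, hne⟩
            · exact hline y h hgN
            · exfalso
              obtain ⟨a, b, hab⟩ := (Pr.diag_span _ h).1 hne
              refine hc ?_
              rw [hab, map_mul, map_pow, map_pow]
              exact N.mul_mem (N.pow_mem hdN _) (N.pow_mem (hcm y hgN) _)
          · rcases (Pr.diag_cent y).2 (T.inj hgd) with h | ⟨h, hne⟩
            · exact hline y h hgN
            · exfalso
              obtain ⟨a, b, hab⟩ := (Pr.diag_span _ h).2 hne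
              refine hc ?_
              rw [hab, map_mul, map_pow, map_pow]
              exact N.mul_mem (N.pow_mem hdN _) (N.pow_mem (hcm y hgN) _)
        obtain ⟨k, rfl⟩ := Subgroup.mem_zpowers_iff.1 hyd
        exact Subgroup.mem_zpowers_iff.2 ⟨k, by rw [map_zpow]⟩)
      (fun e he he1 => by
        have h576 : Nat.card (N ⊓ Subgroup.centralizer ({e} : Set Y) : Subgroup Y) ∣ 576 :=
          (Subgroup.card_dvd_of_le (inf_le_right.trans (T.cent_le he he1))).trans (dvd_of_eq T.card_range)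
        exact ⟨fun h => absurd (h.trans h576) (by norm_num), fun h => absurd (h.trans h576) (by norm_num)⟩)
    refine ⟨M', hM'n, hM'co, fun h => ?_⟩
    rw [h, Subgroup.card_bot] at hM'c
    have h2 : Nat.card (Subgroup.zpowers (T.φ v0)) ∣ Nat.card N :=
      Subgroup.card_dvd_of_le (Subgroup.zpowers_le.2 hv)
    have h4 : Nat.card T.V ∣ Nat.card N :=
      Subgroup.card_dvd_of_le (T.V_le hv fun y r hr => hN.conj_mem r hr _)
    have hV16 : Nat.card T.V = 16 := by
      rw [V, Subgroup.card_map_of_injective T.inj,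
        Nat.card_congr (Equiv.subtypeEquivRight fun _ => mem_VP), Nat.card_eq_fintype_card]
      decide +kernel
    rw [hV16] at h4
    rcases hM'c with e | e <;> rw [e] at h4 <;> norm_num at h4
  rcases Pr.inE_cases x hx hx1 with h | h | h | h | h | h | h | h <;> subst h
  · exact absurd hxN hc
  · exact absurd (by simpa using N.inv_mem hxN) hc
  · refine absurd ?_ hc
    have := hN.conj_mem _ hxN (T.φ sx)⁻¹
    rw [← Pr.c_facts.2.2.2.2.2.1] at hxN
    simpa [mul_assoc] using hN.conj_mem _ hxN (T.φ sx)⁻¹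
  · refine absurd ?_ hc
    rw [← Pr.c_facts.2.2.2.2.2.1] at hxN
    simpa [mul_assoc] using hN.conj_mem _ (N.inv_mem hxN) (T.φ sx)⁻¹
  · exact hd _ (Or.inl rfl) hxN
  · exact hd _ (Or.inl rfl) (by simpa using N.inv_mem hxN)
  · exact hd _ (Or.inr rfl) hxN
  · exact hd _ (Or.inr rfl) (by simpa using N.inv_mem hxN)

theorem V_normal : T.V.Normal := by
  obtain ⟨N, hN, hv, hNt, hres⟩ := T.exists_closure
  obtain ⟨O, hO, hco, hne⟩ := T.exists_core hv hNt hres
  exact T.eq_V O hco hne ▸ hO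

/-- The subgroup is everything. -/
theorem range_eq_top : T.φ.range = ⊤ := by
  haveI : Fact (Nat.Prime 3) := ⟨Nat.prime_three⟩
  haveI := T.V_normal
  set q := QuotientGroup.mk' T.V
  have hVW : T.V ≤ T.φ.range := Subgroup.map_le_range _ _
  have hker : q.ker = T.V := QuotientGroup.ker_mk' _
  have hinj : ∀ x : Pr, q (T.φ x) = 1 ↔ inV x := fun x => by
    rw [← MonoidHom.mem_ker, hker, T.φ_V]
  have hEeq : ∀ x y : Pr, inE x → inE y → q (T.φ x) = q (T.φ y) → x = y := by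
    intro x y hx hy h
    have hz : inV (x * y⁻¹) := (hinj _).1 (by rw [map_mul, map_mul, map_inv, map_inv, h, mul_inv_cancel])
    have hz' : inE (x * y⁻¹) := EP.mul_mem hx (EP.inv_mem hy)
    refine mul_inv_eq_one.1 ?_
    obtain ⟨z1, z2, -, -⟩ := hz
    rw [EP_eq hz', z1, z2]
    rfl
  have pc : ∀ (a b : Pr), q (T.φ a) * q (T.φ b) = q (T.φ (a * b)) := fun a b => by rw [map_mul, map_mul]
  let D : Cfsg.Agent.Lie.PSpFourThreeAmalgam.PairData (Y ⧸ T.V) :=
    { W := T.φ.range.map q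
      E := T.E.map q
      a := q (T.φ cp)
      b := q (T.φ cm)
      s := q (T.φ sx)
      s' := q (T.φ (Pr.em * sx))
      ha3 := by
        rw [← map_pow, ← map_pow, pow_succ, pow_two, Pr.diag_acts.2.2.2.2.1, map_one, map_one]
      hb3 := by
        rw [← map_pow, ← map_pow, pow_succ, pow_two, Pr.diag_acts.2.2.2.2.2.1, map_one, map_one]
      hab := by rw [pc, pc, Pr.diag_acts.2.2.2.2.2.2]
      hs := by rw [pc, Pr.rep_facts.2.2.2.2.1, map_one, map_one]
      hs' := by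
        rw [pc, show Pr.em * sx * (Pr.em * sx) = (1 : Pr) by decide +kernel, map_one, map_one]
      hss := by
        rw [pc, pc, show sx * (Pr.em * sx) = Pr.em * sx * sx by decide +kernel]
      hsa := by rw [pc, pc, show sx * cp = cp * sx by decide +kernel]
      hsb := by
        rw [← map_inv, ← map_inv, ← map_inv, ← map_inv, pc, pc, Pr.diag_acts.2.1]
      hsa' := by
        rw [← map_inv, ← map_inv, ← map_inv, ← map_inv, pc, pc, Pr.diag_acts.2.2.1]
      hsb' := by rw [pc, pc, show Pr.em * sx * cm = cm * (Pr.em * sx) by decide +kernel]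
      hE := fun x => by
        constructor
        · rintro ⟨_, ⟨y, hy, rfl⟩, rfl⟩
          obtain ⟨i, j, rfl⟩ := (Pr.inE_diag y).1 hy
          exact ⟨i, j, by simp [map_mul, map_pow]⟩
        · rintro ⟨i, j, rfl⟩
          exact ⟨T.φ (cp ^ i * cm ^ j), T.φ_E.2 (EP.mul_mem (EP.pow_mem cp_mem.1 i) (EP.pow_mem cp_mem.2.1 j)),
            by simp [map_mul, map_pow]⟩
      hind := fun i j h => by
        rw [← map_pow, ← map_pow, ← map_pow, ← map_pow, pc] at h
        have h1 := hEeq _ _ (EP.mul_mem (EP.pow_mem cp_mem.1 i) (EP.pow_mem cp_mem.2.1 j)) EP.one_mem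
          (h.trans (by rw [map_one, map_one]))
        rw [pow_eq_pow_mod i (show cp ^ 3 = 1 by decide +kernel),
          pow_eq_pow_mod j (show cm ^ 3 = 1 by decide +kernel)] at h1
        obtain ⟨h2, h3⟩ := Pr.diag_ne ⟨i % 3, Nat.mod_lt _ (by norm_num)⟩ ⟨j % 3, Nat.mod_lt _ (by norm_num)⟩ h1
        exact ⟨Nat.dvd_of_mod_eq_zero (congrArg Fin.val h2), Nat.dvd_of_mod_eq_zero (congrArg Fin.val h3)⟩
      hEc := by
        have hi : Function.Injective (fun g : T.E => (⟨q g, g, g.2, rfl⟩ : T.E.map q)) := by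
          rintro ⟨g, hg⟩ ⟨g', hg'⟩ h
          obtain ⟨x, hx, rfl⟩ := T.mem_E.1 hg
          obtain ⟨y, hy, rfl⟩ := T.mem_E.1 hg'
          exact Subtype.ext (congrArg T.φ (hEeq x y hx hy (congrArg Subtype.val h)))
        rw [← T.card_E]
        exact (Nat.card_congr (Equiv.ofBijective _ ⟨hi, by rintro ⟨_, g, hg, rfl⟩; exact ⟨⟨g, hg⟩, rfl⟩⟩)).symm
      hsW := ⟨_, ⟨sx, rfl⟩, rfl⟩
      hsW' := ⟨_, ⟨Pr.em * sx, rfl⟩, rfl⟩
      hEW := Subgroup.map_mono (Subgroup.map_le_range _ _)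
      hW := by
        rintro _ ⟨_, ⟨x, rfl⟩, rfl⟩
        refine ⟨q (T.φ ⟨0, 0, x.i, x.j, false, false⟩), ⟨_, T.φ_E.2 ⟨rfl, rfl, rfl, rfl⟩, rfl⟩, ?_⟩
        have h1 : q (T.φ x) = q (T.φ ⟨0, 0, x.i, x.j, false, false⟩) * q (T.φ (rep x.e x.s)) := by
          conv_lhs => rw [Pr.decompose x]
          rw [map_mul, map_mul, map_mul, map_mul, (hinj _).2 ⟨rfl, rfl, rfl, rfl⟩, one_mul]
        rw [h1, pc sx]
        obtain ⟨r1, r2, r3, r4, -⟩ := Pr.rep_facts
        cases x.e <;> cases x.s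
        · rw [r1, map_one, map_one, mul_one]; exact Or.inl rfl
        · rw [r2]; exact Or.inr (Or.inl rfl)
        · rw [r3, show Pr.em = sx * (Pr.em * sx) by decide +kernel]; exact Or.inr (Or.inr (Or.inr rfl))
        · rw [r4]; exact Or.inr (Or.inr (Or.inl rfl))
      h27 := fun h => T.not_dvd_27 (h.trans (Subgroup.card_quotient_dvd_card _))
      key := fun g x hx hx1 hgx => by
        obtain ⟨g, rfl⟩ := QuotientGroup.mk'_surjective T.V g
        obtain ⟨_, ⟨y, hy, rfl⟩, rfl⟩ := hx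
        refine ⟨g, T.key y (EP_three y hy) (fun h => hx1 (by rw [h, map_one, map_one])) g ?_, rfl⟩
        obtain ⟨_, ⟨e, he, rfl⟩, heq⟩ := hgx
        rw [← map_inv, ← map_mul, ← map_mul] at heq
        have h1 : (T.φ e)⁻¹ * (g * T.φ y * g⁻¹) ∈ T.V := QuotientGroup.eq.1 heq
        have h2 := T.φ.range.mul_mem ⟨e, rfl⟩ (hVW h1)
        rwa [mul_inv_cancel_left] at h2
      sig := fun R hR hER => by
        have hO : (Nat.card (R.comap q)).Coprime 3 := by
          have hc : Nat.card (R.comap q) = Nat.card R * Nat.card T.V := by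
            rw [Subgroup.card_eq_card_quotient_mul_card_subgroup ((T.V).subgroupOf (R.comap q)),
              Nat.card_congr (Subgroup.subgroupOfEquivOfLe (show T.V ≤ R.comap q from fun g hg => by
                rw [Subgroup.mem_comap, show q g = 1 from (QuotientGroup.eq_one_iff g).2 hg]; exact R.one_mem)).toEquiv]
            congr 1
            rw [← Subgroup.index_eq_card]
            show (T.V).relIndex (R.comap q) = _
            have h1 := Subgroup.relIndex_comap (⊥ : Subgroup (Y ⧸ T.V)) q (R.comap q)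
            rwa [MonoidHom.comap_bot, hker, Subgroup.map_comap_eq_self_of_surjective (QuotientGroup.mk'_surjective _),
              Subgroup.relIndex_bot_left] at h1
          rw [hc]
          refine hR.mul_left ?_
          rw [V, Subgroup.card_map_of_injective T.inj,
            Nat.card_congr (Equiv.subtypeEquivRight fun _ => mem_VP), Nat.card_eq_fintype_card]
          decide +kernel
        have hle := T.le_V (R.comap q) hO (fun g hg => by
          have := hER ⟨g, hg, rfl⟩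
          rw [Subgroup.mem_normalizer_iff] at this ⊢
          intro h
          simp only [Subgroup.mem_comap, map_mul, map_inv]
          exact this (q h))
        rw [Subgroup.eq_bot_iff_forall]
        intro r hr
        obtain ⟨g, rfl⟩ := QuotientGroup.mk'_surjective T.V r
        exact (QuotientGroup.eq_one_iff g).2 (hle (Subgroup.mem_comap.2 hr)) }
  have h := D.eq_top
  refine eq_top_iff.2 fun g _ => ?_
  obtain ⟨w, hw, hwg⟩ : q g ∈ T.φ.range.map q := h.ge (Subgroup.mem_top _)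
  have h1 : w⁻¹ * g ∈ T.V := QuotientGroup.eq.1 hwg
  have h2 := T.φ.range.mul_mem hw (hVW h1)
  rwa [mul_inv_cancel_left] at h2

end PairCfg

end Cfsg.Agent.Spor.PSLFourThree
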