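import Cfsg.Agent.Lib.Spor.PSLFourThree.Gen
import Cfsg.Agent.Lib.Char.InvertedSylow.Main
import Cfsg.Agent.Lib.Lie.PSpFourThreeFull.Generic

/-!
Two general tools: the transfer of an element fixing one coset, and a group with an inverted elementary
Sylow `3`-subgroup generated by the normaliser and the fixed points of a group of order nine.
-/

set_option autoImplicit false
set_option linter.unusedSectionVars false
set_option linter.style.haveILetI false

namespace Cfsg.Agent.Spor.PSLFourThree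

namespace Pb

/-- An element of order three whose only fixed coset of `H` is `H` itself is sent by the transfer to its image. -/
theorem transfer_fix {X A : Type*} [Group X] [Finite X] [CommGroup A] {H : Subgroup X} (φ : H →* A) (g : H)
    (hg3 : (g : X) ^ 3 = 1) (hfix : ∀ y : X, y⁻¹ * g * y ∈ H → y ∈ H) : MonoidHom.transfer φ (g : X) = φ g := by
  classical
  haveI : Fact (Nat.Prime 3) := ⟨Nat.prime_three⟩
  haveI := Fintype.ofFinite (Quotient (MulAction.orbitRel (Subgroup.zpowers (g : X)) (X ⧸ H)))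
  rw [MonoidHom.transfer_eq_prod_quotient_orbitRel_zpowers_quot]
  set q₀ : Quotient (MulAction.orbitRel (Subgroup.zpowers (g : X)) (X ⧸ H)) :=
    Quotient.mk'' (((1 : X) : X ⧸ H)) with hq₀
  have hone : (g : X) • (((1 : X) : X ⧸ H)) = ((1 : X) : X ⧸ H) := by
    rw [MulAction.Quotient.smul_coe, smul_eq_mul, mul_one, QuotientGroup.eq, mul_one]
    exact inv_mem g.2
  have hper : ∀ a : X ⧸ H, Function.minimalPeriod ((g : X) • ·) a = 1 ∨
      Function.minimalPeriod ((g : X) • ·) a = 3 := fun a => by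
    refine (Nat.dvd_prime Nat.prime_three).1 (Function.IsPeriodicPt.minimalPeriod_dvd ?_)
    show ((g : X) • ·)^[3] a = a
    rw [smul_iterate, hg3]
    exact one_smul _ _
  have hout : q₀.out = ((1 : X) : X ⧸ H) := by
    have h1 : (MulAction.orbitRel (Subgroup.zpowers (g : X)) (X ⧸ H)).r q₀.out ((1 : X) : X ⧸ H) :=
      Quotient.exact' (by rw [Quotient.out_eq'])
    obtain ⟨⟨z, hz⟩, hzq⟩ := MulAction.orbitRel_apply.1 h1
    have hzq' : z • (((1 : X) : X ⧸ H)) = q₀.out := hzq
    rw [← hzq']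
    exact (MulAction.mem_stabilizer_iff.1
      ((Subgroup.zpowers_le.2 (MulAction.mem_stabilizer_iff.2 hone)) hz))
  have hval : ∀ (n : ℕ) (y : X) (hy : y⁻¹ * (g : X) ^ n * y ∈ H), n = 1 → y ∈ H →
      φ ⟨y⁻¹ * (g : X) ^ n * y, hy⟩ = φ g := by
    intro n y hy hn hyH
    subst hn
    have e : (⟨y⁻¹ * (g : X) ^ 1 * y, hy⟩ : H) = ⟨y, hyH⟩⁻¹ * g * ⟨y, hyH⟩ :=
      Subtype.ext (by simp)
    rw [e, map_mul, map_mul, map_inv, mul_comm, mul_inv_cancel_left]
  rw [Finset.prod_eq_single q₀]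
  · have hy : q₀.out.out ∈ H := by
      have h1 := QuotientGroup.out_eq' q₀.out
      conv_rhs at h1 => rw [hout]
      simpa using QuotientGroup.eq.1 h1
    refine hval _ _ _ (Function.minimalPeriod_eq_one_iff_isFixedPt.2 ?_) hy
    show (g : X) • q₀.out = q₀.out
    rw [hout, hone]
  · intro q _ hq
    rcases hper q.out with h | h
    · refine absurd ?_ hq
      have hfixq : (g : X) • q.out = q.out := Function.minimalPeriod_eq_one_iff_isFixedPt.1 h
      have hyH : q.out.out ∈ H := by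
        refine hfix _ ?_
        rw [← QuotientGroup.out_eq' q.out, MulAction.Quotient.smul_coe, smul_eq_mul, QuotientGroup.eq] at hfixq
        simpa [mul_inv_rev, mul_assoc] using inv_mem hfixq
      rw [hq₀, ← Quotient.out_eq' q, ← QuotientGroup.out_eq' q.out]
      exact congrArg _ (QuotientGroup.eq.2 (by simpa using hyH))
    · refine (congrArg φ (Subtype.ext ?_)).trans φ.map_one
      show q.out.out⁻¹ * (g : X) ^ Function.minimalPeriod ((g : X) • ·) q.out * q.out.out = 1
      rw [h, hg3, mul_one, inv_mul_cancel]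
  · exact fun h => absurd (Finset.mem_univ _) h

/-- A normal subgroup with an inverted elementary Sylow `3`-subgroup is inside `H` when the normaliser and
the fixed points of a group of order nine are. -/
theorem le_of_inverted {X : Type*} [Group X] [Finite X] (K : Subgroup X) [hK : K.Normal] (P A H : Subgroup X)
    {S : X} (hPK : P ≤ K) (hSK : S ∈ K) (hcomm : ∀ a ∈ P, ∀ b ∈ P, a * b = b * a) (hexp : ∀ a ∈ P, a ^ 3 = 1)
    (hnc : ∃ a ∈ P, ∃ b ∈ P, a ≠ 1 ∧ b ∉ Subgroup.zpowers a) (hS : ∀ a ∈ P, S * a * S⁻¹ = a⁻¹)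
    (hN : ∀ g ∈ K, (∀ a ∈ P, g * a * g⁻¹ ∈ P) →
      g ∈ H ∧ ((∀ a ∈ P, g * a * g⁻¹ = a) ∨ (∀ a ∈ P, g * a * g⁻¹ = a⁻¹)) ∧
        ((∃ n : ℕ, g ^ 3 ^ n = 1) → g ∈ P))
    (hA : IsMulCommutative A) (hAcard : Nat.card A = 9) (hAexp : ∀ a ∈ A, a ^ 3 = 1)
    (hfix : ∀ a ∈ A, a ≠ 1 → K ⊓ Subgroup.centralizer ({a} : Set X) ≤ H) : K ≤ H := by
  classical
  haveI : Fact (Nat.Prime 3) := ⟨Nat.prime_three⟩
  set P' : Subgroup K := P.subgroupOf K with hP'
  have hp : IsPGroup 3 P' := fun y => ⟨1, by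
    refine Subtype.ext (Subtype.ext ?_)
    simpa using hexp _ (Subgroup.mem_subgroupOf.1 y.2)⟩
  obtain ⟨Q, hQ⟩ := hp.exists_le_sylow
  have hNQ : ∀ g : K, g ∈ Subgroup.normalizer (P' : Set K) → ∀ a ∈ P, (g : X) * a * (g : X)⁻¹ ∈ P := by
    intro g hg a ha
    have := (Subgroup.mem_normalizer_iff.1 hg ⟨a, hPK ha⟩).1 (Subgroup.mem_subgroupOf.2 ha)
    exact Subgroup.mem_subgroupOf.1 this
  have hQP : (Q : Subgroup K) = P' := by
    by_contra hne
    haveI : Group.IsNilpotent (Q : Subgroup K) := Q.2.isNilpotent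
    have hlt : P'.subgroupOf Q < ⊤ := by
      refine lt_top_iff_ne_top.2 fun h => hne (le_antisymm ?_ hQ)
      exact Subgroup.subgroupOf_eq_top.1 h
    obtain ⟨g, hg, hg'⟩ := SetLike.exists_of_lt (normalizerCondition_of_isNilpotent _ hlt)
    refine hg' ?_
    rw [Subgroup.mem_subgroupOf, hP', Subgroup.mem_subgroupOf]
    refine (hN _ g.1.2 fun a ha => ?_).2.2 ?_
    · have := (Subgroup.mem_normalizer_iff.1 hg ⟨⟨a, hPK ha⟩, hQ (Subgroup.mem_subgroupOf.2 ha)⟩).1
        (Subgroup.mem_subgroupOf.2 (Subgroup.mem_subgroupOf.2 ha))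
      exact Subgroup.mem_subgroupOf.1 (Subgroup.mem_subgroupOf.1 this)
    · obtain ⟨n, hn⟩ := Q.2 g
      exact ⟨n, by simpa using congrArg (fun y : (Q : Subgroup K) => ((y : K) : X)) hn⟩
  have hInv : Cfsg.Agent.Char.InvertedSylow.Inv Q := by
    refine ⟨?_, ?_, by norm_num, ?_, ⟨⟨S, hSK⟩, ?_, ?_⟩⟩
    · rw [hQP]
      exact ⟨⟨fun a b => Subtype.ext (Subtype.ext
        (hcomm _ (Subgroup.mem_subgroupOf.1 a.2) _ (Subgroup.mem_subgroupOf.1 b.2)))⟩⟩
    · intro hcyc
      rw [hQP] at hcyc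
      obtain ⟨a, ha, b, hb, ha1, hba⟩ := hnc
      obtain ⟨⟨⟨g, hgK⟩, hg⟩, hgen⟩ := hcyc.exists_generator
      have hmem : ∀ y ∈ P, y ∈ Subgroup.zpowers g := fun y hy => by
        obtain ⟨i, hi⟩ := hgen ⟨⟨y, hPK hy⟩, Subgroup.mem_subgroupOf.2 hy⟩
        exact ⟨i, congrArg (fun z : P' => ((z : K) : X)) hi⟩
      have hg3 : orderOf g = 3 := by
        refine orderOf_eq_prime (hexp g (Subgroup.mem_subgroupOf.1 hg)) fun h => ?_
        have := hmem a ha
        rw [h, Subgroup.zpowers_one_eq_bot, Subgroup.mem_bot] at this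
        exact ha1 this
      have hle : Subgroup.zpowers a ≤ Subgroup.zpowers g := Subgroup.zpowers_le.2 (hmem a ha)
      have heq : Subgroup.zpowers a = Subgroup.zpowers g := Subgroup.eq_of_le_of_card_ge hle (by
        rw [Nat.card_zpowers, Nat.card_zpowers, hg3, orderOf_eq_prime (hexp a ha) ha1])
      exact hba (heq ▸ hmem b hb)
    · intro n hn
      rw [hQP] at hn ⊢
      rcases (hN _ n.2 (hNQ n hn)).2.1 with h | h
      · exact Or.inl fun y hy => Subtype.ext (h _ (Subgroup.mem_subgroupOf.1 hy))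
      · exact Or.inr fun y hy => Subtype.ext (h _ (Subgroup.mem_subgroupOf.1 hy))
    · rw [hQP]
      refine Subgroup.mem_normalizer_fintype fun y hy => ?_
      rw [SetLike.mem_coe, hP', Subgroup.mem_subgroupOf] at hy ⊢
      show S * y * S⁻¹ ∈ P
      rw [hS _ hy]
      exact inv_mem hy
    · intro y hy
      rw [hQP] at hy
      exact Subtype.ext (hS _ (Subgroup.mem_subgroupOf.1 hy))
  set O : Subgroup K := Cfsg.pPrimeCore 3 K with hO
  haveI : O.Characteristic := inferInstance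
  set O' : Subgroup X := O.map K.subtype with hO'
  have hO'n : O'.Normal := inferInstance
  have hO'co : (Nat.card O').Coprime 3 := by
    rw [hO', Subgroup.card_map_of_injective K.subtype_injective]
    exact Cfsg.Agent.Fusion.card_pPrimeCore_coprime 3 _
  have hO'H : O' ≤ H := le_of_fixed hA hAcard hAexp
    ((Subgroup.normalizer_eq_top_iff.2 hO'n).symm ▸ le_top) hO'co fun a ha ha1 =>
      le_trans (inf_le_inf_right _ (Subgroup.map_subtype_le O)) (hfix a ha ha1)
  intro g hg
  have htop := Cfsg.Agent.Lie.PSpFourThreeFull.length_one hInv.pLength Q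
  have hle : O ⊔ Subgroup.normalizer ((Q : Subgroup K) : Set K) ≤ H.comap K.subtype := by
    refine sup_le (fun y hy => hO'H (Subgroup.mem_map_of_mem _ hy)) fun y hy => ?_
    rw [hQP] at hy
    exact (hN _ y.2 (hNQ y hy)).1
  rw [htop] at hle
  exact hle (Subgroup.mem_top (⟨g, hg⟩ : K))

end Pb

end Cfsg.Agent.Spor.PSLFourThree
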