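import Cfsg.Agent.Lib.Spor.PSLFourThree.ParabolicLine
import Cfsg.Agent.Lib.Spor.PSLFourThree.ParabolicTools

/-!
The centraliser of `h` (transfer and an inverted Sylow subgroup of order `27`) and of the involution `s`.
-/

set_option autoImplicit false
set_option linter.unusedSectionVars false
set_option linter.style.haveILetI false
set_option maxHeartbeats 800000

namespace Cfsg.Agent.Spor.PSLFourThree

open scoped Matrix

namespace Pb

local notation "SL3" => Matrix.SpecialLinearGroup (Fin 3) (ZMod 3)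
local notation "mat" g:max => ((g : SL3) : Matrix (Fin 3) (Fin 3) (ZMod 3))
local notation "V3" => Multiplicative (Fin 3 → ZMod 3)

namespace Coord

variable {G : Type*} [Group G] (C : Coord G)

theorem c_zero : C.c 0 = C.h := by
  rw [c, show (![0, 0, 0] : Fin 3 → ZMod 3) = 0 by decide +kernel, C.E_zero, mul_one]

theorem xk_zero : C.xk 0 = C.x := by
  rw [xk, show (![0, 0, 0] : Fin 3 → ZMod 3) = 0 by decide +kernel, C.E_zero, one_mul]

/-- Powers by residues add. -/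
theorem val_pow {M : Type*} [Monoid M] {g : M} (hg : g ^ 3 = 1) (a b : ZMod 3) :
    g ^ (a + b).val = g ^ a.val * g ^ b.val := by rw [← pow_add, ZMod.val_add, ← pow_eq_pow_mod _ hg]

theorem three_zero : ∀ a : ZMod 3, a + a + a = 0 := by decide +kernel

variable [Finite G]

/-- The elementary part modulo `⟨h⟩`. -/
def flat : V3 →* C.Cc 0 ⧸ C.Kc 0 :=
  MonoidHom.mk' (fun v => C.f 0 (C.dE 0 (v.toAdd 0) 0) * C.f 0 (C.dx 0) ^ (v.toAdd 1).val *
    C.f 0 (C.du 0) ^ (v.toAdd 2).val) fun v w => by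
    set A := fun a => C.f 0 (C.dE 0 a 0)
    set x := C.f 0 (C.dx 0) with hx
    set u := C.f 0 (C.du 0) with hu
    have hx3 : x ^ 3 = 1 := by rw [hx, ← map_pow, show C.dx 0 ^ 3 = 1 from Subtype.ext (C.xk3 0), map_one]
    have hu3 : u ^ 3 = 1 := by
      rw [hu, ← map_pow, show C.du 0 ^ 3 = 1 from Subtype.ext (by
        rw [SubgroupClass.coe_pow, pow_succ, pow_two]; exact C.u3), map_one]
    have hxu : Commute x u := by
      refine mul_inv_eq_iff_eq_mul.1 ?_
      rw [hx, hu, ← map_inv, ← map_mul, ← map_mul, C.dx_conj_du, map_mul, C.f_dc, mul_one, neg_zero, C.dE_zero,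
        one_mul]
    have hxA : ∀ a, Commute x (A a) := fun a => by
      refine mul_inv_eq_iff_eq_mul.1 ?_
      simp only [hx, A, ← map_inv, ← map_mul, C.dx_conj_dE, add_zero]
    have huA : ∀ a, Commute u (A a) := fun a => by
      show u * A a = A a * u
      simp only [hu, A, ← map_mul, C.du_dE]
    simp only [toAdd_mul, Pi.add_apply, val_pow hx3, val_pow hu3]
    have hA : C.f 0 (C.dE 0 (v.toAdd 0 + w.toAdd 0) 0) = A (v.toAdd 0) * A (w.toAdd 0) := by
      simp only [A, ← map_mul, C.dE_mul, add_zero]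
    rw [hA]
    calc A (v.toAdd 0) * A (w.toAdd 0) * (x ^ (v.toAdd 1).val * x ^ (w.toAdd 1).val) *
          (u ^ (v.toAdd 2).val * u ^ (w.toAdd 2).val)
        = A (v.toAdd 0) * (A (w.toAdd 0) * x ^ (v.toAdd 1).val) *
            (x ^ (w.toAdd 1).val * u ^ (v.toAdd 2).val) * u ^ (w.toAdd 2).val := by group
      _ = A (v.toAdd 0) * x ^ (v.toAdd 1).val * ((A (w.toAdd 0) * u ^ (v.toAdd 2).val) *
            x ^ (w.toAdd 1).val) * u ^ (w.toAdd 2).val := by
          rw [← ((hxA _).pow_left _).eq, ((hxu.pow_pow _ _)).eq]; group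
      _ = _ := by rw [← ((huA _).pow_left _).eq]; simp only [A]; group

theorem flat_apply (a q r : ZMod 3) : C.flat (Multiplicative.ofAdd ![a, q, r]) =
    C.f 0 (C.dE 0 a 0) * C.f 0 (C.dx 0) ^ q.val * C.f 0 (C.du 0) ^ r.val := rfl

theorem inv_flat (v : V3) : C.f 0 (C.ds 0) * C.flat v * C.f 0 (C.ds 0) = (C.flat v)⁻¹ := by
  set S := C.f 0 (C.ds 0) with hS
  have hSi : S⁻¹ = S := inv_eq_of_mul_eq_one_right (by
    rw [hS, ← map_mul, show C.ds 0 * C.ds 0 = 1 from Subtype.ext C.s2, map_one])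
  let I : V3 →* V3 := MonoidHom.mk' (fun v => v⁻¹) fun a b => mul_inv a b
  have key : (MulAut.conj S).toMonoidHom.comp C.flat = C.flat.comp I := by
    have hsE : ∀ a : ZMod 3, S * C.f 0 (C.dE 0 a 0) * S = C.f 0 (C.dE 0 (-a) 0) := fun a => by
      rw [hS, ← map_mul, ← map_mul, C.ds_conj_dE]
    have hone : ((1 : ZMod 3).val = 1) ∧ ((0 : ZMod 3).val = 0) ∧ ((-1 : ZMod 3).val = 2) ∧
        ((-0 : ZMod 3).val = 0) ∧ (-0 : ZMod 3) = 0 := by decide +kernel
    obtain ⟨h1, h0, h2, h0', hn0⟩ := hone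
    refine hom_ext3 ?_ ?_ ?_
    · show S * C.flat (Multiplicative.ofAdd ![1, 0, 0]) * S⁻¹ = C.flat (Multiplicative.ofAdd (-![1, 0, 0]))
      rw [show (-![1, 0, 0] : Fin 3 → ZMod 3) = ![-1, 0, 0] by decide +kernel, C.flat_apply, C.flat_apply, h0,
        pow_zero, pow_zero, mul_one, mul_one, mul_one, mul_one, hSi, hsE]
    · show S * C.flat (Multiplicative.ofAdd ![0, 1, 0]) * S⁻¹ = C.flat (Multiplicative.ofAdd (-![0, 1, 0]))
      rw [show (-![0, 1, 0] : Fin 3 → ZMod 3) = ![0, -1, 0] by decide +kernel, C.flat_apply, C.flat_apply, h0, h1, h2,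
        C.dE_zero, map_one, one_mul, one_mul, pow_zero, mul_one, mul_one, pow_one, hSi, hS, ← map_mul, ← map_mul,
        ← map_pow]
      refine congrArg _ (Subtype.ext ?_)
      show C.s * C.xk 0 * C.s = C.xk 0 ^ 2
      rw [C.s_xk]
      exact inv_eq_of_mul_eq_one_right (by rw [← pow_succ']; exact C.xk3 0)
    · show S * C.flat (Multiplicative.ofAdd ![0, 0, 1]) * S⁻¹ = C.flat (Multiplicative.ofAdd (-![0, 0, 1]))
      rw [show (-![0, 0, 1] : Fin 3 → ZMod 3) = ![0, 0, -1] by decide +kernel, C.flat_apply, C.flat_apply, h0, h1, h2,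
        C.dE_zero, map_one, pow_zero, one_mul, one_mul, one_mul, pow_one, hSi, hS, ← map_mul, ← map_mul,
        ← map_pow]
      refine congrArg _ (Subtype.ext ?_)
      show C.s * C.u * C.s = C.u ^ 2
      rw [C.su]
      exact inv_eq_of_mul_eq_one_right (by rw [← pow_succ', pow_succ, pow_two]; exact C.u3)
  have := DFunLike.congr_fun key v
  rw [← map_inv]
  conv_lhs => arg 2; rw [← hSi]
  exact this

/-- The centraliser of `h` lies in `M`. -/
theorem cent_h : Subgroup.centralizer ({(C.c 0 : G)} : Set G) ≤ C.M := by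
  classical
  set τ := C.flat with hτ
  set S := C.f 0 (C.ds 0) with hS
  set A3 := C.f 0 (C.dE 0 0 1) with hA3
  have hS2 : S * S = 1 := by rw [hS, ← map_mul, show C.ds 0 * C.ds 0 = 1 from Subtype.ext C.s2, map_one]
  have hSi : S⁻¹ = S := inv_eq_of_mul_eq_one_right hS2
  have hA33 : A3 ^ 3 = 1 := by
    rw [hA3, ← map_pow, show C.dE 0 0 1 ^ 3 = 1 from ?_, map_one]
    rw [pow_succ, pow_two, C.dE_mul, C.dE_mul]
    exact C.dE_zero 0
  have hSτ : ∀ v, S * τ v = τ v⁻¹ * S := fun v => by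
    rw [map_inv, ← C.inv_flat v, mul_assoc, hS2, mul_one]
  let R : Subgroup (C.Cc 0 ⧸ C.Kc 0) :=
    { carrier := {y | ∃ v, y = τ v ∨ y = τ v * S}
      one_mem' := ⟨1, Or.inl (map_one τ).symm⟩
      mul_mem' := by
        rintro a b ⟨v, hv | hv⟩ ⟨w, hw | hw⟩ <;> subst hv hw
        · exact ⟨v * w, Or.inl (map_mul τ v w).symm⟩
        · exact ⟨v * w, Or.inr (by rw [map_mul, mul_assoc])⟩
        · exact ⟨v * w⁻¹, Or.inr (by rw [map_mul, mul_assoc, hSτ, mul_assoc])⟩
        · exact ⟨v * w⁻¹, Or.inl (by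
            rw [map_mul, show τ v * S * (τ w * S) = τ v * (S * τ w) * S by group, hSτ, ← mul_assoc (τ v),
              mul_assoc, hS2, mul_one])⟩
      inv_mem' := by
        rintro a ⟨v, hv | hv⟩ <;> subst hv
        · exact ⟨v⁻¹, Or.inl (map_inv τ v).symm⟩
        · exact ⟨v, Or.inr (by rw [mul_inv_rev, hSi, ← map_inv, hSτ, inv_inv])⟩ }
  have hτR : ∀ v, τ v ∈ R := fun v => ⟨v, Or.inl rfl⟩
  have hSR : S ∈ R := ⟨1, Or.inr (by rw [map_one, one_mul])⟩
  have hdec : ∀ y ∈ (C.f 0).range, ∃ (b : ZMod 3) (r : C.Cc 0 ⧸ C.Kc 0), r ∈ R ∧ y = A3 ^ b.val * r := by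
    rintro _ ⟨d, rfl⟩
    obtain ⟨a, b, e, q, r, h⟩ := C.f_form 0 d
    refine ⟨b, C.f 0 (C.dE 0 a 0) * S ^ e * C.f 0 (C.dx 0) ^ q * C.f 0 (C.du 0) ^ r, ?_, ?_⟩
    · refine mul_mem (mul_mem (mul_mem ?_ (pow_mem hSR e)) (pow_mem ?_ q)) (pow_mem ?_ r)
      · exact ⟨Multiplicative.ofAdd ![a, 0, 0], Or.inl (by
          rw [hτ, C.flat_apply, ZMod.val_zero, pow_zero, pow_zero, mul_one, mul_one])⟩
      · exact ⟨Multiplicative.ofAdd ![0, 1, 0], Or.inl (by
          rw [hτ, C.flat_apply, C.dE_zero, map_one, one_mul, ZMod.val_zero, pow_zero, mul_one]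
          exact (pow_one _).symm)⟩
      · exact ⟨Multiplicative.ofAdd ![0, 0, 1], Or.inl (by
          rw [hτ, C.flat_apply, C.dE_zero, map_one, one_mul, ZMod.val_zero, pow_zero, one_mul]
          exact (pow_one _).symm)⟩
    · have e1 : C.dE 0 a b = C.dE 0 0 1 ^ b.val * C.dE 0 a 0 := by
        have hb : ∀ n : ℕ, C.dE 0 0 1 ^ n = C.dE 0 0 (n : ZMod 3) := fun n => by
          induction n with
          | zero => rw [pow_zero, Nat.cast_zero, C.dE_zero]
          | succ n ih => rw [pow_succ, ih, C.dE_mul, add_zero, Nat.cast_succ]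
        rw [hb, C.dE_mul, ZMod.natCast_zmod_val, zero_add, add_zero]
      rw [h, e1, map_mul, map_pow, ← hA3, ← hS]
      simp only [mul_assoc]
  let H := (C.f 0).range
  have hRH : R ≤ H := by
    rintro y ⟨v, hv | hv⟩ <;> subst hv
    · exact mul_mem (mul_mem ⟨_, rfl⟩ (pow_mem (show C.f 0 (C.dx 0) ∈ H from ⟨_, rfl⟩) _))
        (pow_mem (show C.f 0 (C.du 0) ∈ H from ⟨_, rfl⟩) _)
    · exact mul_mem (mul_mem (mul_mem ⟨_, rfl⟩ (pow_mem (show C.f 0 (C.dx 0) ∈ H from ⟨_, rfl⟩) _))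
        (pow_mem (show C.f 0 (C.du 0) ∈ H from ⟨_, rfl⟩) _)) ⟨_, rfl⟩
  have hA3H : A3 ∈ H := ⟨_, rfl⟩
  have hA3n : A3 ∈ Subgroup.normalizer (R : Set (C.Cc 0 ⧸ C.Kc 0)) := by
    let L : V3 →* V3 := MonoidHom.mk'
      (fun w => Multiplicative.ofAdd ![w.toAdd 0 - w.toAdd 1, w.toAdd 1, w.toAdd 2]) (by decide +kernel)
    have hconj : (MulAut.conj A3).toMonoidHom.comp τ = τ.comp L := by
      have hE : ∀ a, A3 * C.f 0 (C.dE 0 a 0) * A3⁻¹ = C.f 0 (C.dE 0 a 0) := fun a => by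
        rw [hA3, ← map_mul, C.dE_mul, zero_add, add_zero, mul_inv_eq_iff_eq_mul, ← map_mul, C.dE_mul, add_zero,
          zero_add]
      refine hom_ext3 ?_ ?_ ?_
      · show A3 * τ (Multiplicative.ofAdd ![1, 0, 0]) * A3⁻¹ = τ (Multiplicative.ofAdd ![1 - 0, 0, 0])
        rw [sub_zero, hτ, C.flat_apply, ZMod.val_zero, pow_zero, pow_zero, mul_one, mul_one, hE]
      · show A3 * τ (Multiplicative.ofAdd ![0, 1, 0]) * A3⁻¹ = τ (Multiplicative.ofAdd ![0 - 1, 1, 0])
        rw [hτ, C.flat_apply, C.flat_apply, C.dE_zero, map_one, one_mul, ZMod.val_zero, pow_zero, mul_one, mul_one,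
          show C.f 0 (C.dx 0) ^ (1 : ZMod 3).val = C.f 0 (C.dx 0) from pow_one _, mul_inv_eq_iff_eq_mul, hA3,
          ← map_mul, ← map_mul, ← map_mul]
        refine congrArg _ ?_
        have h2 := C.dx_conj_dE 0 0 1
        rw [mul_inv_eq_iff_eq_mul] at h2
        rw [mul_assoc, h2, ← mul_assoc, C.dE_mul]
        congr 2
      · show A3 * τ (Multiplicative.ofAdd ![0, 0, 1]) * A3⁻¹ = τ (Multiplicative.ofAdd ![0 - 0, 0, 1])
        rw [sub_zero, hτ, C.flat_apply, C.dE_zero, map_one, one_mul, ZMod.val_zero, pow_zero, one_mul,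
          show C.f 0 (C.du 0) ^ (1 : ZMod 3).val = C.f 0 (C.du 0) from pow_one _, mul_inv_eq_iff_eq_mul, hA3,
          ← map_mul, ← map_mul, C.du_dE]
    have hA3S : A3 * S * A3⁻¹ = S := by
      rw [mul_inv_eq_iff_eq_mul, hA3, hS, ← map_mul, ← map_mul]
      refine congrArg _ (Subtype.ext ?_)
      exact (C.commE (v := ![0, 0, 1]) (m := C.s) (by rw [C.πs]; decide +kernel)).symm
    refine Subgroup.mem_normalizer_fintype ?_
    rintro y ⟨v, hv | hv⟩ <;> subst hv
    · exact ⟨L v, Or.inl (DFunLike.congr_fun hconj v)⟩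
    · refine ⟨L v, Or.inr ?_⟩
      rw [show τ (L v) = A3 * τ v * A3⁻¹ from (DFunLike.congr_fun hconj v).symm,
        show A3 * (τ v * S) * A3⁻¹ = (A3 * τ v * A3⁻¹) * (A3 * S * A3⁻¹) by group, hA3S]
  have hA3R : A3 ∉ R := by
    intro h
    obtain ⟨v, e, hve⟩ : ∃ (v : V3) (e : ℕ), A3 = τ v * S ^ e := by
      obtain ⟨v, hv | hv⟩ := h
      · exact ⟨v, 0, by rw [pow_zero, mul_one]; exact hv⟩
      · exact ⟨v, 1, by rw [pow_one]; exact hv⟩
    have hker : C.f 0 ((C.dE 0 0 1)⁻¹ * (C.dE 0 (v.toAdd 0) 0 * C.dx 0 ^ (v.toAdd 1).val *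
        C.du 0 ^ (v.toAdd 2).val * C.ds 0 ^ e)) = 1 := by
      rw [map_mul, map_inv, map_mul, map_mul, map_mul, map_pow, map_pow, map_pow, ← hS, ← hA3, inv_mul_eq_one]
      exact hve
    obtain ⟨p, hp⟩ := C.f_eq_one hker
    simp only [Subgroup.coe_mul, InvMemClass.coe_inv, SubgroupClass.coe_pow] at hp
    have hp' : (C.E ![0, 0, 1])⁻¹ * (C.E ![v.toAdd 0, 0, 0] * C.xk 0 ^ (v.toAdd 1).val *
        C.u ^ (v.toAdd 2).val * C.s ^ e) = C.c 0 ^ p := hp
    rw [pow_eq_pow_mod e (show C.s ^ 2 = 1 by rw [pow_two]; exact C.s2),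
      pow_eq_pow_mod p (show C.c 0 ^ 3 = 1 by rw [pow_succ, pow_two, C.c3])] at hp'
    have h1 := congrArg C.π hp'
    simp only [map_mul, map_inv, map_pow, C.π_E, C.π_xk, C.πu, C.πs, C.π_c, inv_one, one_mul] at h1
    have key : ∀ q r p : Fin 3, ∀ e : Fin 2, m13 ^ (q : ℕ) * m32 ^ (r : ℕ) * sS ^ (e : ℕ) = m12 ^ (p : ℕ) →
        (q : ℕ) = 0 ∧ (r : ℕ) = 0 ∧ (e : ℕ) = 0 ∧ (p : ℕ) = 0 := by decide +kernel
    obtain ⟨hq, hr, he, hp0⟩ := key ⟨_, ZMod.val_lt (v.toAdd 1)⟩ ⟨_, ZMod.val_lt (v.toAdd 2)⟩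
      ⟨p % 3, Nat.mod_lt _ (by norm_num)⟩ ⟨e % 2, Nat.mod_lt _ (by norm_num)⟩ h1
    dsimp only at hq hr he hp0
    rw [hq, hr, he, hp0, pow_zero, pow_zero, pow_zero, pow_zero, mul_one, mul_one, mul_one, inv_mul_eq_one] at hp'
    exact absurd (congrFun (C.E_inj hp') 2) (by simp)
  -- the quotient of order three
  haveI hRn : (R.subgroupOf H).Normal := by
    refine (Subgroup.normal_subgroupOf_iff_le_normalizer hRH).2 fun y hy => ?_
    obtain ⟨b, r, hr, rfl⟩ := hdec y hy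
    exact mul_mem (pow_mem hA3n _) (Subgroup.le_normalizer hr)
  let a3 : H ⧸ R.subgroupOf H := QuotientGroup.mk ⟨A3, hA3H⟩
  have hgen : ∀ z : H ⧸ R.subgroupOf H, ∃ b : ℕ, z = a3 ^ b := by
    intro z
    obtain ⟨⟨y, hy⟩, rfl⟩ := QuotientGroup.mk_surjective z
    obtain ⟨b, r, hr, rfl⟩ := hdec y hy
    refine ⟨b.val, QuotientGroup.eq.2 (Subgroup.mem_subgroupOf.2 ?_)⟩
    show (A3 ^ b.val * r)⁻¹ * A3 ^ b.val ∈ R
    rw [mul_inv_rev, mul_assoc, inv_mul_cancel, mul_one]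
    exact inv_mem hr
  letI : CommGroup (H ⧸ R.subgroupOf H) :=
    { (inferInstance : Group (H ⧸ R.subgroupOf H)) with
      mul_comm := fun z w => by
        obtain ⟨b, rfl⟩ := hgen z
        obtain ⟨b', rfl⟩ := hgen w
        rw [← pow_add, ← pow_add, add_comm] }
  have hkey : ∀ (a b : ZMod 3), ![a, 0, b] ≠ (0 : Fin 3 → ZMod 3) → ∀ y : C.Cc 0 ⧸ C.Kc 0,
      y * C.f 0 (C.dE 0 a b) * y⁻¹ ∈ H → y ∈ H := by
    intro a b hab y hy
    obtain ⟨g, rfl⟩ := QuotientGroup.mk_surjective y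
    have h1 : ((g * C.incl 0 (C.dE 0 a b) * g⁻¹ : C.Cc 0) : G) ∈ C.M := C.mem_range.1 hy
    exact C.mem_range.2 (C.key g _ hab h1)
  set Vt := MonoidHom.transfer (QuotientGroup.mk' (R.subgroupOf H)) with hVt
  have hVA3 : Vt A3 = a3 := by
    refine transfer_fix _ ⟨A3, hA3H⟩ hA33 fun y hy => inv_mem_iff.1 ?_
    exact hkey 0 1 (by decide +kernel) y⁻¹ (by rwa [inv_inv])
  have ha3 : orderOf a3 = 3 := by
    haveI : Fact (Nat.Prime 3) := ⟨Nat.prime_three⟩
    refine orderOf_eq_prime ?_ fun h => hA3R (Subgroup.mem_subgroupOf.1 ((QuotientGroup.eq_one_iff _).1 h))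
    exact (QuotientGroup.mk_pow _ _ 3).symm.trans (congrArg QuotientGroup.mk (Subtype.ext hA33 : (⟨A3, hA3H⟩ : H) ^ 3 = 1))
  have hcube : ∀ z : H ⧸ R.subgroupOf H, z ^ 3 = 1 := fun z => by
    obtain ⟨b, rfl⟩ := hgen z
    rw [← pow_mul, mul_comm, pow_mul, show a3 ^ 3 = 1 by have := pow_orderOf_eq_one a3; rwa [ha3] at this, one_pow]
  have hsq : ∀ z : H ⧸ R.subgroupOf H, z * z = 1 → z = 1 := fun z h => by
    have h3 := hcube z
    rwa [pow_succ, pow_two, h, one_mul] at h3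
  set K := Vt.ker with hK
  have hSK : S ∈ K := MonoidHom.mem_ker.2 (hsq _ (by rw [← map_mul, hS2, map_one]))
  have hτK : ∀ v, τ v ∈ K := fun v => MonoidHom.mem_ker.2 (hsq _ (by
    have h1 := congrArg Vt (C.inv_flat v)
    rw [← hτ, ← hS, map_mul, map_mul, MonoidHom.mem_ker.1 hSK, one_mul, mul_one, map_inv] at h1
    calc Vt (τ v) * Vt (τ v) = Vt (τ v) * (Vt (τ v))⁻¹ := by rw [← h1]
      _ = 1 := mul_inv_cancel _))
  have hKH : ∀ y ∈ K, y ∈ H → y ∈ R := by
    intro y hyK hyH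
    obtain ⟨b, r, hr, rfl⟩ := hdec y hyH
    have hrK : r ∈ K := by
      obtain ⟨v, hv | hv⟩ := hr <;> subst hv
      · exact hτK v
      · exact mul_mem (hτK v) hSK
    have h1 : Vt (A3 ^ b.val) = 1 := MonoidHom.mem_ker.1 ((Subgroup.mul_mem_cancel_right K hrK).1 hyK)
    rw [map_pow, hVA3] at h1
    have h2 := orderOf_dvd_of_pow_eq_one h1
    rw [ha3] at h2
    have h3 : b.val = 0 := Nat.eq_zero_of_dvd_of_lt h2 (ZMod.val_lt b)
    rw [h3, pow_zero, one_mul]
    exact hr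
  have ha1 : C.f 0 (C.dE 0 1 0) = τ (Multiplicative.ofAdd ![1, 0, 0]) := by
    rw [hτ, C.flat_apply, ZMod.val_zero, pow_zero, pow_zero, mul_one, mul_one]
  have hKle : K ≤ H := by
    let α : V3 →* C.Cc 0 ⧸ C.Kc 0 := MonoidHom.mk' (fun v => C.f 0 (C.dE 0 (v.toAdd 0) (v.toAdd 2))) fun v w => by
      rw [← map_mul, C.dE_mul]; rfl
    let A : Subgroup (C.Cc 0 ⧸ C.Kc 0) :=
      (α.comp (MonoidHom.mk' (fun v : Multiplicative (Fin 2 → ZMod 3) =>
        Multiplicative.ofAdd ![v.toAdd 0, 0, v.toAdd 1]) (by decide +kernel))).range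
    have hAmem : ∀ y ∈ A, ∃ a b : ZMod 3, y = C.f 0 (C.dE 0 a b) := by
      rintro _ ⟨v, rfl⟩
      exact ⟨_, _, rfl⟩
    have hinj : ∀ a b : ZMod 3, C.f 0 (C.dE 0 a b) = 1 → a = 0 ∧ b = 0 := fun a b h => by
      obtain ⟨h1, h2, -⟩ := C.f_du_pow (k := 0) (a := a) (b := b) (i := 0) (by rw [pow_zero, mul_one]; exact h)
      exact ⟨h1, h2⟩
    refine le_of_inverted K (τ.range) A H (S := S) (by rintro _ ⟨v, rfl⟩; exact hτK v) hSK ?_ ?_ ?_ ?_ ?_ ?_ ?_ ?_ ?_
    · rintro _ ⟨v, rfl⟩ _ ⟨w, rfl⟩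
      rw [← map_mul, ← map_mul, mul_comm]
    · rintro _ ⟨v, rfl⟩
      rw [← map_pow, show v ^ 3 = 1 by revert v; decide +kernel, map_one]
    · refine ⟨_, ⟨Multiplicative.ofAdd ![1, 0, 0], rfl⟩, _, ⟨Multiplicative.ofAdd ![0, 0, 1], rfl⟩, ?_, ?_⟩
      · rw [← ha1]
        exact fun h => absurd (hinj 1 0 h).1 (by decide +kernel)
      · rw [← ha1, hτ, C.flat_apply, C.dE_zero, map_one, one_mul, ZMod.val_zero, pow_zero, one_mul,
          show C.f 0 (C.du 0) ^ (1 : ZMod 3).val = C.f 0 (C.du 0) from pow_one _]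
        rintro ⟨i, hi⟩
        dsimp only at hi
        have h1 : C.f 0 (C.du 0 * (C.dE 0 1 0 ^ i)⁻¹) = 1 := by
          rw [map_mul, map_inv, map_zpow, hi, mul_inv_cancel]
        obtain ⟨p, hp⟩ := C.f_eq_one h1
        have h2 := congrArg C.π hp
        simp only [Subgroup.coe_mul, InvMemClass.coe_inv, SubgroupClass.coe_zpow, map_mul, map_inv, map_zpow,
          show C.π (C.du 0 : C.M) = m32 from C.πu, show C.π (C.dE 0 1 0 : C.M) = 1 from C.π_E _, one_zpow, inv_one,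
          mul_one, map_pow, C.π_c] at h2
        rw [pow_eq_pow_mod p (show m12 ^ 3 = 1 by decide +kernel)] at h2
        have key : ∀ p : Fin 3, m32 ≠ m12 ^ (p : ℕ) := by decide +kernel
        exact key ⟨p % 3, Nat.mod_lt _ (by norm_num)⟩ h2
    · rintro _ ⟨v, rfl⟩
      rw [hSi]
      exact C.inv_flat v
    · intro g hgK hg
      have hgH : g ∈ H := by
        refine hkey 1 0 (by decide +kernel) g ?_
        rw [ha1]
        exact hRH (by obtain ⟨w, hw⟩ := hg _ ⟨_, rfl⟩; exact hw ▸ hτR w)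
      obtain ⟨v, hv | hv⟩ := hKH g hgK hgH <;> subst hv
      · refine ⟨hgH, Or.inl ?_, fun _ => ⟨v, rfl⟩⟩
        rintro _ ⟨w, rfl⟩
        rw [mul_inv_eq_iff_eq_mul, ← map_mul, ← map_mul, mul_comm]
      · refine ⟨hgH, Or.inr ?_, fun ⟨n, hn⟩ => ?_⟩
        · rintro _ ⟨w, rfl⟩
          rw [show τ v * S * τ w * (τ v * S)⁻¹ = τ v * (S * τ w * S⁻¹) * (τ v)⁻¹ by group, hSi, C.inv_flat,
            ← map_inv, ← map_inv, ← map_mul, ← map_mul, mul_inv_cancel_comm]
        · have h2 : (τ v * S) ^ 2 = 1 := by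
            rw [pow_two, show τ v * S * (τ v * S) = τ v * (S * τ v * S) by group, C.inv_flat, mul_inv_cancel]
          have h3 : τ v * S = 1 := by
            have hco : Nat.Coprime 2 (3 ^ n) := (Nat.coprime_primes Nat.prime_two Nat.prime_three).2 (by norm_num) |>.pow_right n
            have := pow_gcd_eq_one (a := τ v * S) |>.2 ⟨h2, hn⟩
            rwa [hco, pow_one] at this
          rw [h3]
          exact one_mem _
    · refine ⟨⟨fun a b => Subtype.ext ?_⟩⟩
      obtain ⟨a1, a2, ha⟩ := hAmem _ a.2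
      obtain ⟨b1, b2, hb⟩ := hAmem _ b.2
      show (a : C.Cc 0 ⧸ C.Kc 0) * b = b * a
      rw [ha, hb, ← map_mul, ← map_mul, C.dE_mul, C.dE_mul, add_comm a1, add_comm a2]
    · rw [← Nat.card_congr (MonoidHom.ofInjective (f := α.comp _) ?_).toEquiv, Nat.card_eq_fintype_card]
      · rfl
      · rw [injective_iff_map_eq_one]
        intro v hv
        obtain ⟨h1, h2⟩ := hinj _ _ hv
        refine Multiplicative.toAdd.injective (funext fun i => ?_)
        fin_cases i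
        · exact h1
        · exact h2
    · intro a ha
      obtain ⟨a1, a2, rfl⟩ := hAmem _ ha
      rw [← map_pow, pow_succ, pow_two, C.dE_mul, C.dE_mul,
        three_zero a1, three_zero a2,
        C.dE_zero, map_one]
    · intro a ha ha1'
      obtain ⟨a1, a2, rfl⟩ := hAmem _ ha
      intro y hy
      refine hkey a1 a2 (fun h => ha1' ?_) y ?_
      · rw [show a1 = 0 from congrFun h 0, show a2 = 0 from congrFun h 2, C.dE_zero, map_one]
      · rw [Subgroup.mem_centralizer_singleton_iff.1 hy.2, mul_inv_cancel_right]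
        exact ⟨_, rfl⟩
  intro g hg
  set y : C.Cc 0 ⧸ C.Kc 0 := QuotientGroup.mk ⟨g, hg⟩
  obtain ⟨b, hb⟩ := hgen (Vt y)
  have h1 : (A3 ^ b)⁻¹ * y ∈ K := MonoidHom.mem_ker.2 (by rw [map_mul, map_inv, map_pow, hVA3, hb, inv_mul_cancel])
  have h2 := mul_mem (pow_mem hA3H b) (hKle h1)
  rw [mul_inv_cancel_left] at h2
  exact C.mem_range.1 h2

/-- Centralisers of all `h·y^k` lie in `M`. -/
theorem cent_c (k : ZMod 3) : Subgroup.centralizer ({(C.c k : G)} : Set G) ≤ C.M := by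
  by_cases hk : k = 0
  · subst hk; exact C.cent_h
  · exact C.cent_line hk

theorem dt_h : C.t * C.h * C.t⁻¹ = C.h⁻¹ := by
  rw [inv_eq_of_mul_eq_one_right C.t2]; exact C.th

/-- The centraliser of the involution lies in `M`. -/
theorem cent_s : Subgroup.centralizer ({(C.s : G)} : Set G) ≤ C.M := by
  classical
  set Xs := Subgroup.centralizer ({(C.s : G)} : Set G)
  have hsE : ∀ b : ZMod 3, C.s * C.E ![0, 0, b] = C.E ![0, 0, b] * C.s := fun b =>
    C.commE (by rw [C.πs]; revert b; decide +kernel)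
  have hmem : ∀ {m : C.M}, C.s * m = m * C.s → (m : G) ∈ Xs := fun hm =>
    Subgroup.mem_centralizer_singleton_iff.2 (congrArg Subtype.val hm).symm
  have hsh := C.s_h
  have hh3 : C.h ^ 3 = 1 := by rw [pow_succ, pow_two, C.h3]
  let α : Multiplicative (Fin 2 → ZMod 3) →* C.M := MonoidHom.mk'
    (fun v => C.E ![0, 0, v.toAdd 0] * C.h ^ (v.toAdd 1).val) fun v w => by
    have hc : Commute (C.h ^ (v.toAdd 1).val) (C.E ![0, 0, w.toAdd 0]) := Commute.pow_left (C.hE 0 _) _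
    simp only [toAdd_mul, Pi.add_apply, val_pow hh3]
    calc C.E ![0, 0, v.toAdd 0 + w.toAdd 0] * (C.h ^ (v.toAdd 1).val * C.h ^ (w.toAdd 1).val)
        = C.E ![0, 0, v.toAdd 0] * C.E ![0, 0, w.toAdd 0] * C.h ^ (v.toAdd 1).val * C.h ^ (w.toAdd 1).val := by
          rw [← C.E_add, show (![0, 0, v.toAdd 0] + ![0, 0, w.toAdd 0] : Fin 3 → ZMod 3) =
            ![0, 0, v.toAdd 0 + w.toAdd 0] by simp]; group
      _ = C.E ![0, 0, v.toAdd 0] * (C.E ![0, 0, w.toAdd 0] * C.h ^ (v.toAdd 1).val) * C.h ^ (w.toAdd 1).val := by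
          group
      _ = _ := by rw [← hc.eq]; group
  have hαs : ∀ v, C.s * α v = α v * C.s := fun v =>
    (show Commute C.s (α v) from Commute.mul_right (hsE _) (Commute.pow_right hsh _)).eq
  let β : Multiplicative (Fin 2 → ZMod 3) →* Xs :=
    (C.M.subtype.comp α).codRestrict Xs fun v => hmem (hαs v)
  let P : Subgroup Xs := β.range
  let t' : Xs := ⟨C.t, hmem C.st⟩
  let H : Subgroup Xs := C.M.subgroupOf Xs
  have htα : ∀ v, C.t * α v * C.t⁻¹ = (α v)⁻¹ := by
    intro v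
    show C.t * (C.E ![0, 0, v.toAdd 0] * C.h ^ (v.toAdd 1).val) * C.t⁻¹ =
      (C.E ![0, 0, v.toAdd 0] * C.h ^ (v.toAdd 1).val)⁻¹
    rw [show C.t * (C.E ![0, 0, v.toAdd 0] * C.h ^ (v.toAdd 1).val) * C.t⁻¹ =
        C.t * C.E ![0, 0, v.toAdd 0] * C.t⁻¹ * (C.t * C.h ^ (v.toAdd 1).val * C.t⁻¹) by group,
      ← conj_pow, C.dt_h, C.conjE, C.πt,
      show (mat sT) *ᵥ ![0, 0, v.toAdd 0] = -![0, 0, v.toAdd 0] by
        generalize v.toAdd 0 = b; revert b; decide +kernel,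
      C.E_neg, inv_pow, ← mul_inv_rev]
    congr 1
    exact ((show Commute C.h _ from C.hE 0 _).pow_left _).eq
  have hαinj : ∀ v, α v = 1 → v = 1 := by
    intro v hv
    have h1 := congrArg C.π hv
    simp only [α, MonoidHom.mk'_apply, map_mul, map_pow, map_one, C.π_E, C.πh, one_mul] at h1
    have key : ∀ p : Fin 3, m12 ^ (p : ℕ) = 1 → (p : ℕ) = 0 := by decide +kernel
    have h2 : (v.toAdd 1).val = 0 := key ⟨_, ZMod.val_lt _⟩ h1
    have h3 : C.E ![0, 0, v.toAdd 0] = C.E 0 := by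
      rw [C.E_zero]
      simpa [α, h2] using hv
    refine Multiplicative.toAdd.injective (funext fun i => ?_)
    fin_cases i
    · exact congrFun (C.E_inj h3) 2
    · exact (ZMod.val_eq_zero _).1 h2
  have hβinj : Function.Injective β := (injective_iff_map_eq_one β).2 fun v hv =>
    hαinj v (Subtype.ext (congrArg (fun y : Xs => (y : G)) hv))
  have hP : P ≤ H := by rintro _ ⟨v, rfl⟩; exact Subgroup.mem_subgroupOf.2 (α v).2
  have htop : (⊤ : Subgroup Xs) ≤ H := by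
    refine le_of_inverted ⊤ P P H (S := t') le_top (Subgroup.mem_top _) ?_ ?_ ?_ ?_ ?_ ?_ ?_ ?_ ?_
    · rintro _ ⟨v, rfl⟩ _ ⟨w, rfl⟩
      rw [← map_mul, ← map_mul, mul_comm]
    · rintro _ ⟨v, rfl⟩
      rw [← map_pow, show v ^ 3 = 1 by revert v; decide +kernel, map_one]
    · refine ⟨_, ⟨Multiplicative.ofAdd ![1, 0], rfl⟩, _, ⟨Multiplicative.ofAdd ![0, 1], rfl⟩, ?_, ?_⟩
      · exact fun h => absurd (hβinj (h.trans (map_one β).symm)) (by decide +kernel)
      · rintro ⟨i, hi⟩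
        dsimp only at hi
        rw [← map_zpow] at hi
        have h2 := congrArg (fun v : Multiplicative (Fin 2 → ZMod 3) => v.toAdd 1) (hβinj hi)
        simp [toAdd_zpow] at h2
    · rintro _ ⟨v, rfl⟩
      exact Subtype.ext (congrArg Subtype.val (htα v) :)
    · intro g _ hg
      obtain ⟨w1, hw1⟩ := hg _ ⟨Multiplicative.ofAdd ![1, 0], rfl⟩
      have hgM : (g : G) ∈ C.M := by
        refine C.key g ![0, 0, 1] (by decide +kernel) ?_
        have h := congrArg (fun y : Xs => (y : G)) hw1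
        rw [Subgroup.coe_mul, Subgroup.coe_mul] at h
        have e : ((β (Multiplicative.ofAdd ![1, 0]) : Xs) : G) = C.e (Multiplicative.ofAdd ![0, 0, 1]) := by
          show ((C.E ![0, 0, 1] * C.h ^ (0 : ZMod 3).val : C.M) : G) = _
          rw [ZMod.val_zero, pow_zero, mul_one]; rfl
        rw [e] at h
        exact h ▸ (α w1).2
      set m : C.M := ⟨g, hgM⟩ with hm
      have hms : C.s * m = m * C.s := Subtype.ext (Subgroup.mem_centralizer_singleton_iff.1 g.2).symm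
      obtain ⟨w2, hw2⟩ := hg _ ⟨Multiplicative.ofAdd ![0, 1], rfl⟩
      have hmh : α w2 = m * C.h * m⁻¹ := by
        refine Subtype.ext ?_
        have h := congrArg (fun y : Xs => (y : G)) hw2
        rw [Subgroup.coe_mul, Subgroup.coe_mul] at h
        have e : ((β (Multiplicative.ofAdd ![0, 1]) : Xs) : G) = C.h := by
          show ((C.E ![0, 0, 0] * C.h ^ (1 : ZMod 3).val : C.M) : G) = _
          rw [show (![0, 0, 0] : Fin 3 → ZMod 3) = 0 by decide +kernel, C.E_zero, one_mul,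
            show (1 : ZMod 3).val = 1 from rfl, pow_one]
        rw [e] at h
        exact h
      have hπh : C.π m * m12 = m12 * C.π m ∨ C.π m * m12 = m12⁻¹ * C.π m := by
        have h := congrArg C.π hmh
        simp only [α, MonoidHom.mk'_apply, map_mul, map_pow, map_inv, C.π_E, C.πh, one_mul] at h
        have key : ∀ p : Fin 3, m12 ^ (p : ℕ) = 1 ∨ m12 ^ (p : ℕ) = m12 ∨ m12 ^ (p : ℕ) = m12⁻¹ := by decide +kernel
        rcases key ⟨_, ZMod.val_lt (w2.toAdd 1)⟩ with e | e | e <;> dsimp only at e <;> rw [e] at h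
        · exact absurd (conj_eq_one_iff.1 h.symm) (by decide +kernel)
        · exact Or.inl (eq_mul_inv_iff_mul_eq.1 h).symm
        · exact Or.inr (eq_mul_inv_iff_mul_eq.1 h).symm
      obtain ⟨e, f, p, hπ⟩ := form_P (C.π m) (by rw [← C.πs, ← map_mul, ← map_mul, hms]) hπh
      set m0 := C.s ^ e * C.t ^ f * C.h ^ p with hm0
      obtain ⟨v, hv⟩ := C.eq_E_mul (m := m) (m' := m0) (by
        rw [hπ, hm0, map_mul, map_mul, map_pow, map_pow, map_pow, C.πs, C.πt, C.πh])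
      have hc0 : Commute C.s m0 :=
        (((Commute.refl C.s).pow_right e).mul_right ((show Commute C.s C.t from C.st).pow_right f)).mul_right
          ((show Commute C.s C.h from hsh).pow_right p)
      have hv' : C.s * C.E v = C.E v * C.s := by
        refine mul_right_cancel (b := m0) ?_
        calc C.s * C.E v * m0 = C.s * m := by rw [hv, mul_assoc]
          _ = C.E v * (m0 * C.s) := by rw [hms, hv, mul_assoc]
          _ = C.E v * C.s * m0 := by rw [← hc0.eq, mul_assoc]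
      rw [C.conjE', C.πs] at hv'
      have keyv : ∀ v : Fin 3 → ZMod 3, (mat sS) *ᵥ v = v → v = ![0, 0, v 2] := by decide +kernel
      rw [keyv v (C.E_inj (mul_right_cancel hv'))] at hv
      -- conjugation by the three factors
      have hEα : ∀ w, Commute (C.E ![0, 0, v 2]) (α w) := fun w =>
        Commute.mul_right (C.E_comm _ _) ((show Commute C.h _ from C.hE 0 _).symm.pow_right _)
      have hhα : ∀ w, Commute (C.h ^ p) (α w) := fun w =>
        (Commute.mul_right (show Commute C.h _ from C.hE 0 _) ((Commute.refl C.h).pow_right _)).pow_left p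
      have hsα : ∀ w, Commute (C.s ^ e) (α w) := fun w => (show Commute C.s (α w) from hαs w).pow_left e
      have hfix : ∀ w, m * α w * m⁻¹ = C.t ^ f * α w * (C.t ^ f)⁻¹ := fun w => by
        have hts : Commute (C.s ^ e) (C.t ^ f) := (show Commute C.s C.t from C.st).pow_pow e f
        rw [hv, hm0, show C.E ![0, 0, v 2] * (C.s ^ e * C.t ^ f * C.h ^ p) * α w *
            (C.E ![0, 0, v 2] * (C.s ^ e * C.t ^ f * C.h ^ p))⁻¹ =
            C.E ![0, 0, v 2] * (C.s ^ e * C.t ^ f * (C.h ^ p * α w * (C.h ^ p)⁻¹) * (C.t ^ f)⁻¹ * (C.s ^ e)⁻¹) *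
              (C.E ![0, 0, v 2])⁻¹ by group,
          (hhα w).eq, mul_inv_cancel_right,
          show C.s ^ e * C.t ^ f * α w * (C.t ^ f)⁻¹ * (C.s ^ e)⁻¹ =
            C.s ^ e * (C.t ^ f * α w * (C.t ^ f)⁻¹) * (C.s ^ e)⁻¹ by group]
        rcases Nat.even_or_odd f with ⟨i, hi⟩ | ⟨i, hi⟩
        · rw [show C.t ^ f = 1 by rw [hi, ← two_mul, pow_mul, pow_two, C.t2, one_pow], one_mul, inv_one, mul_one,
            (hsα w).eq, mul_inv_cancel_right, (hEα w).eq, mul_inv_cancel_right]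
        · rw [show C.t ^ f = C.t by rw [hi, pow_succ, pow_mul, pow_two, C.t2, one_pow, one_mul], htα,
            ← map_inv, (hsα _).eq, mul_inv_cancel_right, (hEα _).eq, mul_inv_cancel_right]
      refine ⟨Subgroup.mem_subgroupOf.2 hgM, ?_, ?_⟩
      · rcases Nat.even_or_odd f with ⟨i, hi⟩ | ⟨i, hi⟩
        · refine Or.inl ?_
          rintro _ ⟨w, rfl⟩
          refine Subtype.ext ((congrArg Subtype.val (hfix w)).trans ?_)
          rw [show C.t ^ f = 1 by rw [hi, ← two_mul, pow_mul, pow_two, C.t2, one_pow], one_mul, inv_one, mul_one]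
          rfl
        · refine Or.inr ?_
          rintro _ ⟨w, rfl⟩
          refine Subtype.ext ((congrArg Subtype.val (hfix w)).trans ?_)
          rw [show C.t ^ f = C.t by rw [hi, pow_succ, pow_mul, pow_two, C.t2, one_pow, one_mul], htα]
          rfl
      · rintro ⟨n, hn⟩
        have hmn : m ^ 3 ^ n = 1 := Subtype.ext (by simpa using congrArg (fun y : Xs => (y : G)) hn)
        have hπn : (C.π m) ^ 3 ^ n = 1 := by rw [← map_pow, hmn, map_one]
        rw [hπ] at hπn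
        have hper : ∀ a b : Fin 2, ∀ p : Fin 3, (sS ^ (a : ℕ) * sT ^ (b : ℕ) * m12 ^ (p : ℕ)) ^ 6 = 1 ∧
            ((sS ^ (a : ℕ) * sT ^ (b : ℕ) * m12 ^ (p : ℕ)) ^ 3 = 1 → (a : ℕ) = 0 ∧ (b : ℕ) = 0) := by decide +kernel
        obtain ⟨h6, h3⟩ := hper ⟨e % 2, Nat.mod_lt _ (by norm_num)⟩ ⟨f % 2, Nat.mod_lt _ (by norm_num)⟩
          ⟨p % 3, Nat.mod_lt _ (by norm_num)⟩
        rw [pow_eq_pow_mod e (show sS ^ 2 = 1 by decide +kernel), pow_eq_pow_mod f (show sT ^ 2 = 1 by decide +kernel),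
          pow_eq_pow_mod p (show m12 ^ 3 = 1 by decide +kernel)] at hπn
        dsimp only at h6 h3
        have hg := pow_gcd_eq_one.2 ⟨h6, hπn⟩
        obtain ⟨he, hf⟩ := h3 (by
          have hd : Nat.gcd 6 (3 ^ n) ∣ 3 := by
            have h1 : Nat.gcd 6 (3 ^ n) ∣ 2 * 3 := Nat.gcd_dvd_left _ _
            have h2 : (Nat.gcd 6 (3 ^ n)).Coprime 2 :=
              Nat.Coprime.coprime_dvd_left (Nat.gcd_dvd_right _ _)
                (((Nat.coprime_primes Nat.prime_three Nat.prime_two).2 (by norm_num)).pow_left n)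
            exact h2.dvd_of_dvd_mul_left h1
          obtain ⟨c, hc⟩ := hd
          exact (congrArg _ hc).trans (by rw [pow_mul, hg, one_pow]))
        refine ⟨Multiplicative.ofAdd ![v 2, (p : ZMod 3)], Subtype.ext ?_⟩
        show ((C.E ![0, 0, v 2] * C.h ^ (p : ZMod 3).val : C.M) : G) = ((m : C.M) : G)
        rw [hv, hm0, ZMod.val_natCast, ← pow_eq_pow_mod _ hh3, pow_eq_pow_mod e (show C.s ^ 2 = 1 by rw [pow_two, C.s2]),
          pow_eq_pow_mod f (show C.t ^ 2 = 1 by rw [pow_two, C.t2]), he, hf, pow_zero, pow_zero, one_mul, one_mul]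
    · refine ⟨⟨?_⟩⟩
      rintro ⟨_, v, rfl⟩ ⟨_, w, rfl⟩
      exact Subtype.ext (show β v * β w = β w * β v by rw [← map_mul, ← map_mul, mul_comm])
    · rw [← Nat.card_congr (MonoidHom.ofInjective hβinj).toEquiv, Nat.card_eq_fintype_card]
      rfl
    · rintro _ ⟨v, rfl⟩
      rw [← map_pow, show v ^ 3 = 1 by revert v; decide +kernel, map_one]
    · rintro _ ⟨v, rfl⟩ hv1 g hg
      refine Subgroup.mem_subgroupOf.2 ?_
      have hcomm : (g : G) * (α v : G) = (α v : G) * g :=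
        congrArg Subtype.val (Subgroup.mem_centralizer_singleton_iff.1 hg.2)
      by_cases hp : v.toAdd 1 = 0
      · refine C.key g ![0, 0, v.toAdd 0] (fun h => hv1 ?_) ?_
        · have : v = 1 := by
            refine Multiplicative.toAdd.injective (funext fun i => ?_)
            fin_cases i
            · exact congrFun h 2
            · exact hp
          rw [this, map_one]
        · have e : (α v : G) = C.e (Multiplicative.ofAdd ![0, 0, v.toAdd 0]) := by
            show ((C.E ![0, 0, v.toAdd 0] * C.h ^ (v.toAdd 1).val : C.M) : G) = _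
            rw [hp, ZMod.val_zero, pow_zero, mul_one]; rfl
          rw [← e, hcomm, mul_inv_cancel_right]
          exact (α v).2
      · refine C.cent_c (v.toAdd 1 * v.toAdd 0) (Subgroup.mem_centralizer_singleton_iff.2 ?_)
        have hval : ∀ q : ZMod 3, q ≠ 0 → ∀ r : ZMod 3,
            (q * q = 1) ∧ ((q.val = 1 ∧ q * r = r) ∨ (q.val = 2 ∧ q * r = r + r)) := by decide +kernel
        have hcase : C.c (v.toAdd 1 * v.toAdd 0) = α v ∨ C.c (v.toAdd 1 * v.toAdd 0) = α v * α v := by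
          rcases (hval _ hp (v.toAdd 0)).2 with ⟨h1, h2⟩ | ⟨h1, h2⟩
          · left
            show C.h * C.E ![0, 0, _] = C.E ![0, 0, v.toAdd 0] * C.h ^ (v.toAdd 1).val
            rw [h1, pow_one, h2, C.hE]
          · right
            show C.h * C.E ![0, 0, _] = C.E ![0, 0, v.toAdd 0] * C.h ^ (v.toAdd 1).val *
              (C.E ![0, 0, v.toAdd 0] * C.h ^ (v.toAdd 1).val)
            have hc : Commute C.h (C.E ![0, 0, v.toAdd 0]) := C.hE 0 _
            have h4 : C.h ^ 4 = C.h := by rw [pow_succ, hh3, one_mul]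
            rw [h1, h2, show (C.E ![0, 0, v.toAdd 0] * C.h ^ 2 * (C.E ![0, 0, v.toAdd 0] * C.h ^ 2)) =
                C.E ![0, 0, v.toAdd 0] * (C.h ^ 2 * C.E ![0, 0, v.toAdd 0]) * C.h ^ 2 by group,
              (hc.pow_left 2).eq, show C.E ![0, 0, v.toAdd 0] * (C.E ![0, 0, v.toAdd 0] * C.h ^ 2) * C.h ^ 2 =
                C.E ![0, 0, v.toAdd 0] * C.E ![0, 0, v.toAdd 0] * C.h ^ 4 by group, h4, ← C.E_add,
              show (![0, 0, v.toAdd 0] + ![0, 0, v.toAdd 0] : Fin 3 → ZMod 3) = ![0, 0, v.toAdd 0 + v.toAdd 0] by simp,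
              C.hE]
        rcases hcase with h | h <;> rw [h]
        · exact hcomm
        · push_cast
          rw [← mul_assoc, hcomm, mul_assoc, hcomm, mul_assoc]
  exact fun g hg => Subgroup.mem_subgroupOf.1 (htop (Subgroup.mem_top (⟨g, hg⟩ : Xs)))

end Coord

end Pb

end Cfsg.Agent.Spor.PSLFourThree
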