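import Mathlib

/-!
Coordinates in the parabolic subgroup `3³.SL₃(3)`: named root elements, the torus and their relations.
-/

set_option autoImplicit false
set_option linter.unusedSectionVars false
set_option synthInstance.maxSize 2000
set_option synthInstance.maxHeartbeats 100000

namespace Cfsg.Agent.Spor.PSLFourThree

open scoped Matrix

namespace Pb

local notation "SL3" => Matrix.SpecialLinearGroup (Fin 3) (ZMod 3)

/-- `I + E₁₂`. -/
def m12 : SL3 := ⟨!![1, 1, 0; 0, 1, 0; 0, 0, 1], by decide⟩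

/-- `I + E₁₃`. -/
def m13 : SL3 := ⟨!![1, 0, 1; 0, 1, 0; 0, 0, 1], by decide⟩

/-- `I + E₃₂`. -/
def m32 : SL3 := ⟨!![1, 0, 0; 0, 1, 0; 0, 1, 1], by decide⟩

/-- `diag(-1,-1,1)`. -/
def sS : SL3 := ⟨!![-1, 0, 0; 0, -1, 0; 0, 0, 1], by decide⟩

/-- `diag(1,-1,-1)`. -/
def sT : SL3 := ⟨!![1, 0, 0; 0, -1, 0; 0, 0, -1], by decide⟩

/-- The inverse of a `2`-element of the group of units. -/
def sgn (a : ZMod 3) : ℕ := if a = 1 then 0 else 1

theorem form_h_aux : ∀ a p q r c : ZMod 3, a * a * c = 1 →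
    (!![a, p, q; 0, a, 0; 0, r, c] : Matrix (Fin 3) (Fin 3) (ZMod 3)) =
      ((sS ^ sgn a * m12 ^ ((a * p - (a * q) * r)).val * m13 ^ (a * q).val * m32 ^ r.val : SL3) :
        Matrix (Fin 3) (Fin 3) (ZMod 3)) := by decide +kernel

theorem form_P_aux : ∀ a b d c : ZMod 3, a * d * c = 1 →
    (!![a, b, 0; 0, d, 0; 0, 0, c] : Matrix (Fin 3) (Fin 3) (ZMod 3)) =
      ((sS ^ sgn a * sT ^ sgn (a * d) * m12 ^ (a * b).val : SL3) :
        Matrix (Fin 3) (Fin 3) (ZMod 3)) := by decide +kernel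

/-- An element commuting with `I + E₁₂`. -/
theorem form_h (g : SL3) (h : g * m12 = m12 * g) :
    ∃ e p q r : ℕ, g = sS ^ e * m12 ^ p * m13 ^ q * m32 ^ r := by
  obtain ⟨A, hA⟩ := g
  have hm : A * (m12 : Matrix (Fin 3) (Fin 3) (ZMod 3)) = (m12 : Matrix (Fin 3) (Fin 3) (ZMod 3)) * A :=
    congrArg Subtype.val h
  have e : ∀ i j, (A * (m12 : Matrix (Fin 3) (Fin 3) (ZMod 3))) i j =
      ((m12 : Matrix (Fin 3) (Fin 3) (ZMod 3)) * A) i j := fun i j => by rw [hm]
  have h00 := e 0 1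
  have h10 := e 0 0
  have h12 := e 0 2
  have h20 := e 2 1
  simp [m12, Matrix.mul_apply, Fin.sum_univ_three] at h00 h10 h12 h20
  have h11 : A 1 1 = A 0 0 := (add_right_cancel ((h00.trans (add_comm _ _)))).symm
  have hshape : A = !![A 0 0, A 0 1, A 0 2; 0, A 0 0, 0; 0, A 2 1, A 2 2] := by
    ext i j
    fin_cases i <;> fin_cases j <;> simp [h10, h12, h20, h11]
  have hd : A 0 0 * A 0 0 * A 2 2 = 1 := by
    rw [hshape, Matrix.det_fin_three] at hA
    simpa using hA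
  exact ⟨_, _, _, _, Subtype.ext (hshape.trans (form_h_aux _ (A 0 1) (A 0 2) (A 2 1) _ hd))⟩

/-- An element commuting with `diag(-1,-1,1)` and normalising `⟨I + E₁₂⟩`. -/
theorem form_P (g : SL3) (hs : g * sS = sS * g) (h : g * m12 = m12 * g ∨ g * m12 = m12⁻¹ * g) :
    ∃ e f p : ℕ, g = sS ^ e * sT ^ f * m12 ^ p := by
  obtain ⟨A, hA⟩ := g
  have hm : A * (sS : Matrix (Fin 3) (Fin 3) (ZMod 3)) = (sS : Matrix (Fin 3) (Fin 3) (ZMod 3)) * A :=
    congrArg Subtype.val hs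
  have e : ∀ i j, (A * (sS : Matrix (Fin 3) (Fin 3) (ZMod 3))) i j =
      ((sS : Matrix (Fin 3) (Fin 3) (ZMod 3)) * A) i j := fun i j => by rw [hm]
  have h02 := e 0 2
  have h12 := e 1 2
  have h20 := e 2 0
  have h21 := e 2 1
  simp [sS, Matrix.mul_apply, Fin.sum_univ_three] at h02 h12 h20 h21
  have z : ∀ x : ZMod 3, x = -x → x = 0 := by decide
  have z' : ∀ x : ZMod 3, -x = x → x = 0 := by decide
  have h10 : A 1 0 = 0 := by
    rcases h with h | h
    · have h' : A * (m12 : Matrix (Fin 3) (Fin 3) (ZMod 3)) = (m12 : Matrix (Fin 3) (Fin 3) (ZMod 3)) * A :=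
        congrArg Subtype.val h
      have := congrFun (congrFun h' 1) 1
      simpa [m12, Matrix.mul_apply, Fin.sum_univ_three] using this
    · rw [show m12⁻¹ = m12 * m12 by decide +kernel] at h
      have h' : A * (m12 : Matrix (Fin 3) (Fin 3) (ZMod 3)) =
          (m12 : Matrix (Fin 3) (Fin 3) (ZMod 3)) * (m12 : Matrix (Fin 3) (Fin 3) (ZMod 3)) * A :=
        congrArg Subtype.val h
      have := congrFun (congrFun h' 1) 1
      simpa [m12, Matrix.mul_apply, Fin.sum_univ_three] using this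
  have hshape : A = !![A 0 0, A 0 1, 0; 0, A 1 1, 0; 0, 0, A 2 2] := by
    ext i j
    fin_cases i <;> fin_cases j <;> simp [h10, z _ h02, z _ h12, z' _ h20, z' _ h21]
  have hd : A 0 0 * A 1 1 * A 2 2 = 1 := by
    rw [hshape, Matrix.det_fin_three] at hA
    simpa using hA
  exact ⟨_, _, _, Subtype.ext (hshape.trans (form_P_aux _ (A 0 1) _ _ hd))⟩

/-- Named elements of `M = N(e(V))` with their relations. -/
structure Coord (G : Type*) [Group G] where
  M : Subgroup G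
  e : Multiplicative (Fin 3 → ZMod 3) →* G
  π : M →* SL3
  inj : Function.Injective e
  eM : ∀ v, e v ∈ M
  ker : ∀ m : M, π m = 1 ↔ (m : G) ∈ e.range
  act : ∀ (m : M) (v : Fin 3 → ZMod 3), (m : G) * e (Multiplicative.ofAdd v) * (m : G)⁻¹ =
    e (Multiplicative.ofAdd ((π m : Matrix (Fin 3) (Fin 3) (ZMod 3)) *ᵥ v))
  key : ∀ g : G, ∀ v : Fin 3 → ZMod 3, v ≠ 0 → g * e (Multiplicative.ofAdd v) * g⁻¹ ∈ M → g ∈ M
  h : M
  x : M
  u : M
  s : M
  t : M
  πh : π h = m12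
  πx : π x = m13
  πu : π u = m32
  πs : π s = sS
  πt : π t = sT
  h3 : h * h * h = 1
  x3 : x * x * x = 1
  u3 : u * u * u = 1
  s2 : s * s = 1
  t2 : t * t = 1
  hx : h * x = x * h
  hu : h * u = u * h
  xu : x * u * x⁻¹ = u * h
  sh : s * h * s = h
  sx : s * x * s = x⁻¹
  su : s * u * s = u⁻¹
  st : s * t = t * s
  th : t * h * t = h⁻¹

/-- Maps out of the vector space agree when they agree on the coordinate vectors. -/
theorem hom_ext3 {X : Type*} [Monoid X] {f f' : Multiplicative (Fin 3 → ZMod 3) →* X}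
    (h0 : f (Multiplicative.ofAdd ![1, 0, 0]) = f' (Multiplicative.ofAdd ![1, 0, 0]))
    (h1 : f (Multiplicative.ofAdd ![0, 1, 0]) = f' (Multiplicative.ofAdd ![0, 1, 0]))
    (h2 : f (Multiplicative.ofAdd ![0, 0, 1]) = f' (Multiplicative.ofAdd ![0, 0, 1])) : f = f' := by
  have key : ∀ v : Fin 3 → ZMod 3,
      v = (v 0).val • ![1, 0, 0] + (v 1).val • ![0, 1, 0] + (v 2).val • ![0, 0, 1] := by decide +kernel
  refine MonoidHom.ext fun w => ?_
  rw [show w = Multiplicative.ofAdd w.toAdd from rfl, key w.toAdd, ofAdd_add, ofAdd_add, ofAdd_nsmul, ofAdd_nsmul,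
    ofAdd_nsmul, map_mul, map_mul, map_mul, map_mul, map_pow, map_pow, map_pow, map_pow, map_pow, map_pow, h0, h1, h2]

namespace Coord

variable {G : Type*} [Group G] (C : Coord G)

/-- The translation by `v`. -/
def E (v : Fin 3 → ZMod 3) : C.M := ⟨C.e (Multiplicative.ofAdd v), C.eM _⟩

theorem E_coe (v : Fin 3 → ZMod 3) : (C.E v : G) = C.e (Multiplicative.ofAdd v) := rfl

theorem E_add (v w : Fin 3 → ZMod 3) : C.E (v + w) = C.E v * C.E w :=
  Subtype.ext (map_mul C.e (Multiplicative.ofAdd v) (Multiplicative.ofAdd w))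

theorem E_zero : C.E 0 = 1 := Subtype.ext (map_one C.e)

theorem E_neg (v : Fin 3 → ZMod 3) : C.E (-v) = (C.E v)⁻¹ :=
  eq_inv_of_mul_eq_one_left (by rw [← E_add, neg_add_cancel, E_zero])

theorem E_nsmul (n : ℕ) (v : Fin 3 → ZMod 3) : C.E (n • v) = C.E v ^ n := by
  induction n with
  | zero => simp [E_zero]
  | succ n ih => rw [succ_nsmul, E_add, ih, pow_succ]

theorem E_inj {v w : Fin 3 → ZMod 3} (h : C.E v = C.E w) : v = w :=
  Multiplicative.ofAdd.injective (C.inj (congrArg Subtype.val h))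

theorem E_comm (v w : Fin 3 → ZMod 3) : C.E v * C.E w = C.E w * C.E v := by rw [← E_add, ← E_add, add_comm]

theorem π_E (v : Fin 3 → ZMod 3) : C.π (C.E v) = 1 := (C.ker _).2 ⟨_, rfl⟩

theorem exists_E {m : C.M} (hm : C.π m = 1) : ∃ v, C.E v = m := by
  obtain ⟨w, hw⟩ := (C.ker m).1 hm
  exact ⟨w.toAdd, Subtype.ext hw⟩

theorem conjE (m : C.M) (v : Fin 3 → ZMod 3) :
    m * C.E v * m⁻¹ = C.E ((C.π m : Matrix (Fin 3) (Fin 3) (ZMod 3)) *ᵥ v) := Subtype.ext (C.act m v)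

theorem conjE' (m : C.M) (v : Fin 3 → ZMod 3) :
    m * C.E v = C.E ((C.π m : Matrix (Fin 3) (Fin 3) (ZMod 3)) *ᵥ v) * m := by rw [← conjE, inv_mul_cancel_right]

theorem commE {m : C.M} {v : Fin 3 → ZMod 3}
    (h : (C.π m : Matrix (Fin 3) (Fin 3) (ZMod 3)) *ᵥ v = v) : m * C.E v = C.E v * m := by rw [conjE', h]

/-- The elements of `M` over `g`. -/
theorem eq_E_mul {m m' : C.M} (h : C.π m = C.π m') : ∃ v, m = C.E v * m' := by
  obtain ⟨v, hv⟩ := C.exists_E (m := m * m'⁻¹) (by rw [map_mul, map_inv, h, mul_inv_cancel])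
  exact ⟨v, by rw [hv, inv_mul_cancel_right]⟩

end Coord

end Pb

end Cfsg.Agent.Spor.PSLFourThree
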