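import Cfsg.Agent.Lib.Spor.PSLFourThree.ParabolicTop
import Cfsg.Agent.Lib.Spor.PSLFourThree.ParabolicCent

/-!
In the parabolic alternative the centraliser of an involution of `M = N(N)` lies in `M`: coordinates for `M`
are made from the second natural subgroup at a point of `N`.
-/

set_option autoImplicit false
set_option linter.unusedSectionVars false
set_option linter.style.haveILetI false
set_option maxHeartbeats 800000

namespace Cfsg.Agent.Spor.PSLFourThree

open scoped Matrix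
open Pb

local notation "SL3" => Matrix.SpecialLinearGroup (Fin 3) (ZMod 3)
local notation "mat" g:max => ((g : SL3) : Matrix (Fin 3) (Fin 3) (ZMod 3))
local notation "V3" => Multiplicative (Fin 3 → ZMod 3)

namespace Pb

/-- An element swapping the first and last coordinate. -/
def swp : SL3 := ⟨!![0, 0, 1; 0, -1, 0; 1, 0, 0], by decide⟩

theorem swp_conj : swp * m12⁻¹ * swp⁻¹ = m32 := by decide +kernel

theorem m32_quad : ∀ w : Fin 3 → ZMod 3, w + (mat m32) *ᵥ w + (mat m32) *ᵥ ((mat m32) *ᵥ w) = 0 := by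
  decide +kernel

theorem point_fix : ∀ a : ZMod 3, (mat sT) *ᵥ ![a, 0, 0] = ![a, 0, 0] ∧
    (mat sS) *ᵥ ![a, 0, 0] = ![-a, 0, 0] ∧ (mat m32) *ᵥ ![a, 0, 0] = ![a, 0, 0] := by decide +kernel

theorem sT_fix : ∀ v : Fin 3 → ZMod 3, (mat sT) *ᵥ v = v → v = ![v 0, 0, 0] := by decide +kernel

theorem neg_self3 : ∀ a : ZMod 3, a = -a → a = 0 := by decide +kernel

theorem point_shape : ∀ p q : ZMod 3,
    (!![1, p, q; 0, 1, 0; 0, 0, 1] : Matrix (Fin 3) (Fin 3) (ZMod 3)) =
      ((m12 ^ p.val * m13 ^ q.val : SL3) : Matrix (Fin 3) (Fin 3) (ZMod 3)) := by decide +kernel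

/-- An element fixing the first point and every vector modulo it. -/
theorem form_pt (g : SL3) (h : ∀ w : Fin 3 → ZMod 3, ((mat g) *ᵥ w - w) 1 = 0 ∧ ((mat g) *ᵥ w - w) 2 = 0) :
    ∃ p q : Fin 3, g = m12 ^ (p : ℕ) * m13 ^ (q : ℕ) := by
  obtain ⟨A, hA⟩ := g
  have e0 := h ![1, 0, 0]
  have e1 := h ![0, 1, 0]
  have e2 := h ![0, 0, 1]
  simp [Matrix.mulVec, dotProduct, Fin.sum_univ_three, sub_eq_zero] at e0 e1 e2
  have h00 : A 0 0 = 1 := by
    have hd := hA
    rw [Matrix.det_fin_three] at hd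
    simpa [e0.1, e0.2, e1.1, e1.2, e2.1, e2.2] using hd
  refine ⟨⟨(A 0 1).val, ZMod.val_lt _⟩, ⟨(A 0 2).val, ZMod.val_lt _⟩, Subtype.ext ?_⟩
  show A = _
  rw [← point_shape]
  ext i j
  fin_cases i <;> fin_cases j <;> simp [h00, e0.1, e0.2, e1.1, e1.2, e2.1, e2.2]

end Pb

namespace Loc

variable {G : Type*} [Group G] [Finite G] {T : Loc G} {N : Subgroup G}

/-- The other natural subgroup. -/
theorem Par.exists_other (hP : T.Par N) : ∃ D : Subgroup G, T.IsNatural D ∧ D ≠ N ∧ N ⊓ D = T.toPre.Z ∧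
    ∀ N', T.IsNatural N' → N' = N ∨ N' = D := by
  obtain ⟨g, hg, -⟩ := hP.pair
  obtain ⟨D, D', hD, hD', hcap, -, -, -, hall⟩ := T.exists_naturals hg
  have hne : ∀ A B : Subgroup G, T.IsNatural A → A ⊓ B = T.toPre.Z → B ≠ A := by
    rintro A B hA h rfl
    rw [inf_idem] at h
    have h1 := hA.card
    rw [h, T.card_Z] at h1
    omega
  rcases hall N hP.nat with rfl | rfl
  · exact ⟨D', hD', hne _ _ hD hcap, hcap, hall⟩
  · refine ⟨D, hD, (hne _ _ hD hcap).symm, by rw [inf_comm]; exact hcap, fun N' h => (hall N' h).symm⟩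

/-- A natural subgroup conjugated by an element normalising `Z`. -/
theorem natural_conj {D : Subgroup G} (hD : T.IsNatural D) {k : G} (hk : k * T.z * k⁻¹ ∈ T.toPre.Z) :
    T.IsNatural (D.map (MulAut.conj k).toMonoidHom) := by
  classical
  have hZ : T.toPre.Z.map (MulAut.conj k).toMonoidHom = T.toPre.Z := by
    refine Subgroup.eq_of_le_of_card_ge ?_ (le_of_eq (Subgroup.card_map_of_injective (MulAut.conj k).injective).symm)
    rintro _ ⟨x, hx, rfl⟩
    obtain ⟨i, rfl⟩ := hx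
    simp only [map_zpow, MulEquiv.coe_toMonoidHom, MulAut.conj_apply]
    exact zpow_mem hk i
  refine ⟨hZ ▸ Subgroup.map_mono hD.z_mem, ?_, ?_, ?_, ?_⟩
  · rintro _ ⟨x, hx, rfl⟩
    exact (Subgroup.mem_normalizer_iff.1 (T.norm_Q hk) x).1 (hD.le_Q hx)
  · rw [Subgroup.card_map_of_injective (MulAut.conj k).injective, hD.card]
  · rintro _ ⟨a, ha, rfl⟩ _ ⟨b, hb, rfl⟩
    rw [← map_mul, ← map_mul, hD.comm a ha b hb]
  · intro c hc
    have hc' : k⁻¹ * c * k ∈ T.C := by
      refine T.mem_C.2 ?_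
      calc k⁻¹ * c * k * T.z = k⁻¹ * (c * (k * T.z * k⁻¹)) * k := by group
        _ = T.z * (k⁻¹ * c * k) := by rw [T.Z_central hc hk]; group
    refine Subgroup.mem_normalizer_fintype ?_
    rintro _ ⟨x, hx, rfl⟩
    refine ⟨_, (Subgroup.mem_normalizer_iff.1 (hD.norm hc') x).1 hx, ?_⟩
    simp [MulAut.conj_apply]
    group

/-- A lift commuting with an involution. -/
theorem fix_lift {M : Subgroup G} {π : M →* SL3} (hexp : ∀ m : M, π m = 1 → m ^ 3 = 1) {s r : M} (hs : s * s = 1)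
    (h : π s * π r = π r * π s) : ∃ r' : M, π r' = π r ∧ s * r' = r' * s := by
  have hsi : s⁻¹ = s := inv_eq_of_mul_eq_one_right hs
  set w := s * r * s * r⁻¹ with hw
  have hπw : π w = 1 := by
    rw [hw, map_mul, map_mul, map_mul, map_inv, h, mul_assoc (π r), ← map_mul, hs, map_one, mul_one, mul_inv_cancel]
  have hw3 : w * w * w = 1 := by rw [← pow_two, ← pow_succ]; exact hexp w hπw
  refine ⟨w⁻¹ * r, by rw [map_mul, map_inv, hπw, inv_one, one_mul], ?_⟩
  have h1 : s * w⁻¹ * s = w := by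
    rw [hw, show s * (s * r * s * r⁻¹)⁻¹ * s = s * r * s⁻¹ * r⁻¹ * (s⁻¹ * s) by group, hsi, hs, mul_one]
  calc s * (w⁻¹ * r) = (s * w⁻¹ * s) * (s⁻¹ * r * s) * s⁻¹ := by group
    _ = w * (s * r * s) * s := by rw [h1, hsi]
    _ = w * (w * r) * s := by rw [hw]; group
    _ = (w * w * w) * w⁻¹ * r * s := by group
    _ = w⁻¹ * r * s := by rw [hw3, one_mul]

/-- The coordinates of the parabolic subgroup. -/
theorem Par.exists_coord (hP : T.Par N) :
    ∃ C : Coord G, C.M = Subgroup.normalizer (N : Set G) ∧ C.e.range = N := by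
  classical
  obtain ⟨g, hg, hy⟩ := hP.pair
  obtain ⟨e0, π, hπs, hπk, hact0, htr⟩ := T.side hP.nat hg hy
  obtain ⟨D, hD, hDN, hND, hall⟩ := hP.exists_other
  let e : V3 →* G := N.subtype.comp e0.toMonoidHom
  have hinj : Function.Injective e := N.subtype_injective.comp e0.injective
  have heN : ∀ v, e v ∈ N := fun v => (e0 v).2
  have hNe : ∀ x ∈ N, x ∈ e.range := fun x hx => ⟨e0.symm ⟨x, hx⟩, congrArg Subtype.val (e0.apply_symm_apply ⟨x, hx⟩)⟩
  have hker : ∀ m : (Subgroup.normalizer (N : Set G)), π m = 1 ↔ (m : G) ∈ e.range := fun m => by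
    rw [← MonoidHom.mem_ker, hπk, Subgroup.mem_subgroupOf]
    exact ⟨hNe _, fun ⟨v, hv⟩ => hv ▸ heN v⟩
  let E : (Fin 3 → ZMod 3) → (Subgroup.normalizer (N : Set G)) := fun v => ⟨e (Multiplicative.ofAdd v), Subgroup.le_normalizer (heN _)⟩
  have hEinj : ∀ {v w}, E v = E w → v = w := fun h =>
    Multiplicative.ofAdd.injective (hinj (congrArg (fun m : Subgroup.normalizer (N : Set G) => (m : G)) h))
  have hEadd : ∀ v w, E (v + w) = E v * E w := fun v w =>
    Subtype.ext (map_mul e (Multiplicative.ofAdd v) (Multiplicative.ofAdd w))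
  have hE0 : E 0 = 1 := Subtype.ext (map_one e)
  have hEneg : ∀ v, E (-v) = (E v)⁻¹ := fun v =>
    eq_inv_of_mul_eq_one_left (by rw [← hEadd, neg_add_cancel, hE0])
  have hEc : ∀ (m : (Subgroup.normalizer (N : Set G))) v, m * E v * m⁻¹ = E ((mat (π m)) *ᵥ v) := fun m v => Subtype.ext (hact0 m v)
  have hπE : ∀ v, π (E v) = 1 := fun v => (hker _).2 ⟨_, rfl⟩
  have hexE : ∀ m : (Subgroup.normalizer (N : Set G)), π m = 1 → ∃ v, E v = m := fun m hm => by
    obtain ⟨v, hv⟩ := (hker m).1 hm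
    exact ⟨v.toAdd, Subtype.ext hv⟩
  have hexp : ∀ m : (Subgroup.normalizer (N : Set G)), π m = 1 → m ^ 3 = 1 := fun m hm => by
    obtain ⟨v, rfl⟩ := hexE m hm
    rw [pow_succ, pow_two, ← hEadd, ← hEadd,
      show v + v + v = 0 from funext fun i => Pb.Coord.three_zero (v i), hE0]
  have hinvol : ∀ g : SL3, g * g = 1 → ∀ r : (Subgroup.normalizer (N : Set G)), π r = g → π (r * r * r) = g ∧ (r * r * r) * (r * r * r) = 1 := by
    intro g hg r hr
    refine ⟨by rw [map_mul, map_mul, hr, hg, one_mul], ?_⟩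
    rw [show r * r * r * (r * r * r) = (r * r) ^ 3 by simp only [pow_succ, pow_zero, one_mul, mul_assoc]]
    exact hexp _ (by rw [map_mul, hr, hg])
  -- the torus
  obtain ⟨rs, hrs⟩ := hπs sS
  obtain ⟨hsπ', hs2'⟩ := hinvol sS (by decide +kernel) rs hrs
  obtain ⟨s, hsπ, hs2⟩ : ∃ s : Subgroup.normalizer (N : Set G), π s = sS ∧ s * s = 1 := ⟨_, hsπ', hs2'⟩
  obtain ⟨rt0, hrt0⟩ := hπs sT
  obtain ⟨rt, hrt, hrts⟩ := fix_lift (π := π) hexp hs2 (r := rt0) (by rw [hsπ, hrt0]; decide +kernel)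
  rw [hrt0] at hrt
  obtain ⟨htπ', ht2'⟩ := hinvol sT (by decide +kernel) rt hrt
  obtain ⟨t, htπ, ht2, hst⟩ : ∃ t : Subgroup.normalizer (N : Set G), π t = sT ∧ t * t = 1 ∧ s * t = t * s :=
    ⟨_, htπ', ht2', (((show Commute s rt from hrts).mul_right hrts).mul_right hrts).eq⟩
  have hsi : s⁻¹ = s := inv_eq_of_mul_eq_one_right hs2
  have hti : t⁻¹ = t := inv_eq_of_mul_eq_one_right ht2
  -- the element `u`
  obtain ⟨ru, hru⟩ := hπs m32
  obtain ⟨u, huπ, htu⟩ := fix_lift (π := π) hexp ht2 (r := ru) (by rw [htπ, hru]; decide +kernel)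
  rw [hru] at huπ
  have hsu : s * u * s = u⁻¹ := by
    refine eq_inv_of_mul_eq_one_left ?_
    set w := s * u * s * u with hw
    obtain ⟨v, hv⟩ := hexE w (by rw [hw, map_mul, map_mul, map_mul, hsπ, huπ]; decide +kernel)
    have h1 : t * w * t⁻¹ = w := by
      have hc : Commute t w := (((show Commute t s from hst.symm).mul_right htu).mul_right hst.symm).mul_right htu
      rw [hc.eq, mul_inv_cancel_right]
    rw [← hv, hEc, htπ] at h1
    have h2 := sT_fix v (hEinj h1)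
    have h3 : u * w * u⁻¹ = s * w * s⁻¹ := by
      rw [hw, show s * (s * u * s * u) * s⁻¹ = s * s * (u * s * u * s⁻¹) by group, hs2, one_mul, hsi]
      group
    rw [← hv, hEc, hEc, huπ, hsπ, h2, (point_fix (v 0)).2.1, (point_fix (v 0)).2.2] at h3
    have h4 : v 0 = 0 := neg_self3 _ (congrFun (hEinj h3) 0)
    rw [← hv, h2, h4, show (![0, 0, 0] : Fin 3 → ZMod 3) = 0 by decide +kernel, hE0]
  -- the second natural subgroup at the first point
  have he1 : e (Multiplicative.ofAdd ![1, 0, 0]) ≠ 1 := fun h => absurd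
    (Multiplicative.ofAdd.injective (hinj (h.trans (map_one e).symm))) (by decide +kernel :
      ¬ (![1, 0, 0] : Fin 3 → ZMod 3) = 0)
  obtain ⟨n0, hn0, hn0z⟩ := htr _ (heN (Multiplicative.ofAdd ![1, 0, 0])) he1
  set D2 : Subgroup G := D.map (MulAut.conj n0).toMonoidHom with hD2
  have hDM : ∀ {x}, x ∈ D2 → x ∈ (Subgroup.normalizer (N : Set G)) := by
    rintro _ ⟨d, hd, rfl⟩
    exact mul_mem (mul_mem hn0 (hP.norm_C (T.Q_le_C (hD.le_Q hd)))) (inv_mem hn0)
  have hD2c : ∀ {a b : (Subgroup.normalizer (N : Set G))}, (a : G) ∈ D2 → (b : G) ∈ D2 → a * b = b * a := by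
    rintro a b ⟨d, hd, ha⟩ ⟨d', hd', hb⟩
    refine Subtype.ext ?_
    rw [Subgroup.coe_mul, Subgroup.coe_mul, ← ha, ← hb, ← map_mul, ← map_mul, hD.comm d hd d' hd']
  have hD23 : ∀ {a : (Subgroup.normalizer (N : Set G))}, (a : G) ∈ D2 → a * a * a = 1 := by
    rintro a ⟨d, hd, ha⟩
    refine Subtype.ext ?_
    rw [Subgroup.coe_mul, Subgroup.coe_mul, ← ha, ← map_mul, ← map_mul, T.cube_iff (hD.le_Q hd), map_one]
    rfl
  have hpt : ∀ (c : G), c ∈ T.toPre.Z → ∃ a : ZMod 3, n0 * c * n0⁻¹ = (E ![a, 0, 0] : G) := by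
    intro c hc
    rcases T.z_pow_cases hc with rfl | rfl | rfl
    · refine ⟨0, ?_⟩
      rw [show (![0, 0, 0] : Fin 3 → ZMod 3) = 0 by decide +kernel, hE0, mul_one, mul_inv_cancel]
      rfl
    · exact ⟨1, hn0z⟩
    · refine ⟨-1, ?_⟩
      rw [show (![-1, 0, 0] : Fin 3 → ZMod 3) = -![1, 0, 0] by decide +kernel, hEneg]
      rw [show n0 * T.z⁻¹ * n0⁻¹ = (n0 * T.z * n0⁻¹)⁻¹ by group, hn0z]
      rfl
  have hD2N : ∀ {a : (Subgroup.normalizer (N : Set G))}, (a : G) ∈ D2 → π a = 1 → ∃ b : ZMod 3, a = E ![b, 0, 0] := by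
    rintro a ⟨d, hd, ha⟩ hπa
    obtain ⟨v, hv⟩ := (hker a).1 hπa
    have hdN : d ∈ N := by
      have h1 : n0 * d * n0⁻¹ ∈ N := by
        rw [show n0 * d * n0⁻¹ = (a : G) from ha, ← hv]; exact heN v
      exact (Subgroup.mem_normalizer_iff.1 hn0 d).2 h1
    obtain ⟨b, hb⟩ := hpt d (hND ▸ ⟨hdN, hd⟩)
    exact ⟨b, Subtype.ext (ha.symm.trans hb)⟩
  have hD2π : ∀ {a : (Subgroup.normalizer (N : Set G))}, (a : G) ∈ D2 → ∃ p q : Fin 3, π a = m12 ^ (p : ℕ) * m13 ^ (q : ℕ) := by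
    rintro a ⟨d, hd, ha⟩
    refine form_pt _ fun w => ?_
    set n1 := n0⁻¹ * e (Multiplicative.ofAdd w) * n0
    have hn1 : n1 ∈ N := by
      refine (Subgroup.mem_normalizer_iff.1 hn0 n1).2 ?_
      rw [show n0 * n1 * n0⁻¹ = e (Multiplicative.ofAdd w) by simp only [n1]; group]
      exact heN _
    obtain ⟨b, hb⟩ := hpt (com d n1) (T.com_mem' (hD.le_Q hd) (hP.nat.le_Q hn1))
    have h1 : a * E w * a⁻¹ * (E w)⁻¹ = E ![b, 0, 0] := Subtype.ext (by
      rw [← hb]
      push_cast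
      rw [show (a : G) = n0 * d * n0⁻¹ from ha.symm, show (E w : G) = e (Multiplicative.ofAdd w) from rfl]
      simp only [n1, com]
      group)
    rw [hEc, ← hEneg, ← hEadd, ← sub_eq_add_neg] at h1
    rw [hEinj h1]
    exact ⟨rfl, rfl⟩
  have hroot : ∀ p q : Fin 3, ∃ a : (Subgroup.normalizer (N : Set G)), (a : G) ∈ D2 ∧ π a = m12 ^ (p : ℕ) * m13 ^ (q : ℕ) := by
    let F : D2.subgroupOf (Subgroup.normalizer (N : Set G)) →* SL3 := π.comp (D2.subgroupOf (Subgroup.normalizer (N : Set G))).subtype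
    have hcard : Nat.card (D2.subgroupOf (Subgroup.normalizer (N : Set G))) = 27 := by
      rw [Nat.card_congr (Subgroup.subgroupOfEquivOfLe fun x => hDM).toEquiv, hD2,
        Subgroup.card_map_of_injective (MulAut.conj n0).injective, hD.card]
    have hk : Nat.card F.ker ≤ 3 := by
      have hsel : ∀ y : F.ker, ∃ b : ZMod 3, ((y : D2.subgroupOf (Subgroup.normalizer (N : Set G))) : (Subgroup.normalizer (N : Set G))) = E ![b, 0, 0] := fun y =>
        hD2N (Subgroup.mem_subgroupOf.1 (y : D2.subgroupOf (Subgroup.normalizer (N : Set G))).2) (MonoidHom.mem_ker.1 y.2)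
      choose b hb using hsel
      refine le_trans (Nat.card_le_card_of_injective b fun y y' h => ?_) (le_of_eq (Nat.card_zmod 3))
      exact Subtype.ext (Subtype.ext ((hb y).trans (by rw [h, ← hb y'])))
    let S : Set SL3 := Set.range fun pq : Fin 3 × Fin 3 => m12 ^ (pq.1 : ℕ) * m13 ^ (pq.2 : ℕ)
    have hFS : (F.range : Set SL3) ⊆ S := by
      rintro _ ⟨y, rfl⟩
      obtain ⟨p, q, h⟩ := hD2π (Subgroup.mem_subgroupOf.1 y.2)
      exact ⟨(p, q), h.symm⟩
    have heq : (F.range : Set SL3) = S := by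
      refine Set.eq_of_subset_of_ncard_le hFS ?_ (Set.finite_range _)
      have h1 := F.ker.card_eq_card_quotient_mul_card_subgroup
      rw [hcard, Nat.card_congr (QuotientGroup.quotientKerEquivRange F).toEquiv] at h1
      have h2 : S.ncard ≤ 9 := by
        rw [← Nat.card_coe_set_eq]
        exact le_trans (Finite.card_range_le _) (le_of_eq (by simp))
      rw [← Nat.card_coe_set_eq (F.range : Set SL3)]
      have h3 : Nat.card F.range * Nat.card F.ker ≤ Nat.card F.range * 3 := Nat.mul_le_mul_left _ hk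
      have h4 : 9 ≤ Nat.card F.range := by omega
      exact h2.trans h4
    intro p q
    obtain ⟨y, hy⟩ : m12 ^ (p : ℕ) * m13 ^ (q : ℕ) ∈ (F.range : Set SL3) := heq ▸ ⟨(p, q), rfl⟩
    exact ⟨y, Subgroup.mem_subgroupOf.1 y.2, hy⟩
  have hstab : ∀ (k : (Subgroup.normalizer (N : Set G))) (b : ZMod 3), (mat (π k)) *ᵥ ![1, 0, 0] = ![b, 0, 0] →
      ∀ {a : (Subgroup.normalizer (N : Set G))}, (a : G) ∈ D2 → ((k * a * k⁻¹ : (Subgroup.normalizer (N : Set G))) : G) ∈ D2 := by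
    intro k b hk a ha
    set k' := n0⁻¹ * (k : G) * n0 with hk'
    have hk'z : k' * T.z * k'⁻¹ ∈ T.toPre.Z := by
      have h1 : (k : G) * (n0 * T.z * n0⁻¹) * (k : G)⁻¹ = e (Multiplicative.ofAdd ![b, 0, 0]) := by
        rw [hn0z, ← hk]; exact hact0 k _
      have h2 : ∀ b : ZMod 3, (![b, 0, 0] : Fin 3 → ZMod 3) = b.val • ![1, 0, 0] := by decide +kernel
      rw [h2 b, ofAdd_nsmul, map_pow, ← hn0z, conj_pow] at h1
      have h3 : k' * T.z * k'⁻¹ = T.z ^ b.val := by
        calc k' * T.z * k'⁻¹ = n0⁻¹ * ((k : G) * (n0 * T.z * n0⁻¹) * (k : G)⁻¹) * n0 := by rw [hk']; group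
          _ = T.z ^ b.val := by rw [h1]; group
      exact h3 ▸ pow_mem T.z_mem _
    have hkM' : k' ∈ (Subgroup.normalizer (N : Set G)) := mul_mem (mul_mem (inv_mem hn0) k.2) hn0
    have hmap : D.map (MulAut.conj k').toMonoidHom = D := by
      refine (hall _ (natural_conj hD hk'z)).resolve_left fun h => hDN ?_
      refine Subgroup.map_injective (MulAut.conj k').injective (h.trans ?_)
      refine le_antisymm (fun x hx => ⟨k'⁻¹ * x * k', ?_, by simp [MulAut.conj_apply]; group⟩) ?_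
      · rintro _ ⟨x, hx, rfl⟩
        exact (Subgroup.mem_normalizer_iff.1 hkM' x).1 hx
      · have := (Subgroup.mem_normalizer_iff.1 (inv_mem hkM') x).1 hx
        rwa [inv_inv] at this
    obtain ⟨d, hd, hda⟩ := ha
    refine ⟨k' * d * k'⁻¹, hmap.le ⟨d, hd, rfl⟩, ?_⟩
    push_cast
    rw [← hda]
    simp only [MulEquiv.coe_toMonoidHom, MulAut.conj_apply, hk']
    group
  have huniq : ∀ {a a' : (Subgroup.normalizer (N : Set G))}, (a : G) ∈ D2 → (a' : G) ∈ D2 → t * a * t = a⁻¹ → t * a' * t = a'⁻¹ → π a = π a' → a = a' := by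
    intro a a' ha ha' h h' hπ
    obtain ⟨b, hb⟩ := hD2N (a := a * a'⁻¹) (by push_cast; exact mul_mem ha (inv_mem ha'))
      (by rw [map_mul, map_inv, hπ, mul_inv_cancel])
    have h1 : t * (a * a'⁻¹) * t⁻¹ = (a * a'⁻¹)⁻¹ := by
      have h'' : t * a'⁻¹ * t = a' := by
        have := congrArg (·⁻¹) h'
        rw [inv_inv, mul_inv_rev, mul_inv_rev, hti, ← mul_assoc] at this
        exact this
      calc t * (a * a'⁻¹) * t⁻¹ = (t * a * t) * (t⁻¹ * a'⁻¹ * t⁻¹) := by group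
        _ = a⁻¹ * a' := by rw [hti, h, h'']
        _ = (a * a'⁻¹)⁻¹ := by
          rw [mul_inv_rev, inv_inv]
          exact hD2c (by push_cast; exact inv_mem ha) ha'
    rw [hb, hEc, htπ, (point_fix b).1, ← hEneg] at h1
    have h2 : b = 0 := neg_self3 _ (congrFun (hEinj h1) 0)
    rw [h2, show (![0, 0, 0] : Fin 3 → ZMod 3) = 0 by decide +kernel, hE0] at hb
    exact mul_inv_eq_one.1 hb
  have hinvroot : ∀ g : SL3, (∃ p q : Fin 3, g = m12 ^ (p : ℕ) * m13 ^ (q : ℕ)) → sT * g * sT * g = 1 →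
      ∃ a : (Subgroup.normalizer (N : Set G)), (a : G) ∈ D2 ∧ π a = g ∧ t * a * t = a⁻¹ := by
    rintro g ⟨p, q, rfl⟩ hg
    obtain ⟨a, ha, haπ⟩ := hroot p q
    have hta : ((t * a * t : (Subgroup.normalizer (N : Set G))) : G) ∈ D2 := by
      have := hstab t 1 (by rw [htπ]; exact (point_fix 1).1) ha
      rwa [hti] at this
    set w := t * a * t * a with hw
    have hwD : (w : G) ∈ D2 := by rw [hw, Subgroup.coe_mul]; exact mul_mem hta ha
    have hwπ : π w = 1 := by rw [hw, map_mul, map_mul, map_mul, htπ, haπ, hg]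
    obtain ⟨b, hb⟩ := hD2N hwD hwπ
    have htw : t * w = w * t := by
      have := hEc t ![b, 0, 0]
      rw [htπ, (point_fix b).1, ← hb, mul_inv_eq_iff_eq_mul] at this
      exact this
    refine ⟨w * a, by rw [Subgroup.coe_mul]; exact mul_mem hwD ha, by rw [map_mul, hwπ, one_mul, haπ], ?_⟩
    refine eq_inv_of_mul_eq_one_left ?_
    calc t * (w * a) * t * (w * a) = (t * w) * a * t * (w * a) := by group
      _ = w * ((t * a * t) * w) * a := by rw [htw]; group
      _ = w * w * w := by rw [hD2c hta hwD, hw]; group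
      _ = 1 := hD23 hwD
  obtain ⟨h, hhD, hhπ, hht⟩ := hinvroot m12 ⟨1, 0, by decide +kernel⟩ (by decide +kernel)
  obtain ⟨x, hxD, hxπ, hxt⟩ := hinvroot m13 ⟨0, 1, by decide +kernel⟩ (by decide +kernel)
  have hconjinv : ∀ k : (Subgroup.normalizer (N : Set G)), t * k = k * t → ∀ {a : (Subgroup.normalizer (N : Set G))}, t * a * t = a⁻¹ → t * (k * a * k⁻¹) * t = (k * a * k⁻¹)⁻¹ := by
    intro k hk a ha
    have h2 : k⁻¹ * t = t * k⁻¹ := ((show Commute t k from hk).inv_right).eq.symm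
    calc t * (k * a * k⁻¹) * t = (t * k) * a * (k⁻¹ * t) := by group
      _ = k * (t * a * t) * k⁻¹ := by rw [hk, h2]; group
      _ = (k * a * k⁻¹)⁻¹ := by rw [ha]; group
  have hsD : ∀ {a : (Subgroup.normalizer (N : Set G))}, (a : G) ∈ D2 → ((s * a * s⁻¹ : (Subgroup.normalizer (N : Set G))) : G) ∈ D2 :=
    hstab s (-1) (by rw [hsπ]; exact (point_fix 1).2.1)
  have huD : ∀ {a : (Subgroup.normalizer (N : Set G))}, (a : G) ∈ D2 → ((u * a * u⁻¹ : (Subgroup.normalizer (N : Set G))) : G) ∈ D2 :=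
    hstab u 1 (by rw [huπ]; exact (point_fix 1).2.2)
  have hsh : s * h * s = h := by
    have := huniq (hsD hhD) hhD (hconjinv s hst.symm hht) hht
      (by rw [map_mul, map_mul, map_inv, hsπ, hhπ]; decide +kernel)
    rwa [hsi] at this
  have hinv' : ∀ {a : (Subgroup.normalizer (N : Set G))}, t * a * t = a⁻¹ → t * a⁻¹ * t = a⁻¹⁻¹ := fun {a} ha => by
    have := congrArg (·⁻¹) ha
    rw [mul_inv_rev, mul_inv_rev, hti, ← mul_assoc] at this
    exact this
  have hsx : s * x * s = x⁻¹ := by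
    have := huniq (hsD hxD) (a' := x⁻¹) (by push_cast; exact inv_mem hxD) (hconjinv s hst.symm hxt) (hinv' hxt)
      (by rw [map_mul, map_mul, map_inv, map_inv, hsπ, hxπ]; decide +kernel)
    rwa [hsi] at this
  have huh : u * h * u⁻¹ = h :=
    huniq (huD hhD) hhD (hconjinv u htu hht) hht
      (by rw [map_mul, map_mul, map_inv, huπ, hhπ]; decide +kernel)
  have hux : u * x * u⁻¹ = x * h⁻¹ := by
    refine huniq (huD hxD) (by push_cast; exact mul_mem hxD (inv_mem hhD)) (hconjinv u htu hxt) ?_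
      (by rw [map_mul, map_mul, map_mul, map_inv, map_inv, huπ, hxπ, hhπ]; decide +kernel)
    calc t * (x * h⁻¹) * t = (t * x * t) * (t⁻¹ * h⁻¹ * t) := by group
      _ = x⁻¹ * h⁻¹⁻¹ := by rw [hti, hxt, hinv' hht]
      _ = (x * h⁻¹)⁻¹ := by
        rw [mul_inv_rev]
        exact hD2c (by push_cast; exact inv_mem hxD) (by push_cast; rw [inv_inv]; exact hhD)
  have hhu : h * u = u * h := (mul_inv_eq_iff_eq_mul.1 huh).symm
  have hxu : x * u * x⁻¹ = u * h := by
    have e1 : u * x = x * h⁻¹ * u := mul_inv_eq_iff_eq_mul.1 hux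
    have e2 : x * h⁻¹ = h⁻¹ * x := ((show Commute h x from hD2c hhD hxD).inv_left).eq.symm
    rw [mul_inv_eq_iff_eq_mul, ← hhu, mul_assoc h u x, e1, e2]
    group
  have hu3 : u * u * u = 1 := by
    obtain ⟨m, hm⟩ := hπs swp
    set v := m * h⁻¹ * m⁻¹ with hv
    have hvπ : π v = m32 := by rw [hv, map_mul, map_mul, map_inv, map_inv, hm, hhπ, swp_conj]
    have hv3 : v * v * v = 1 := by
      rw [hv, show m * h⁻¹ * m⁻¹ * (m * h⁻¹ * m⁻¹) * (m * h⁻¹ * m⁻¹) = m * (h * h * h)⁻¹ * m⁻¹ by group,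
        hD23 hhD]
      group
    obtain ⟨w, hw⟩ := hexE (u * v⁻¹) (by rw [map_mul, map_inv, huπ, hvπ, mul_inv_cancel])
    have hu : u = E w * v := by rw [hw, inv_mul_cancel_right]
    have hcv : ∀ y, v * E y = E ((mat m32) *ᵥ y) * v := fun y => by
      rw [← hvπ, ← hEc, inv_mul_cancel_right]
    rw [hu, show E w * v * (E w * v) * (E w * v) = E w * (v * E w) * (v * E w) * v by group, hcv w,
      show E w * (E ((mat m32) *ᵥ w) * v) * (E ((mat m32) *ᵥ w) * v) * v =
        E w * E ((mat m32) *ᵥ w) * (v * E ((mat m32) *ᵥ w)) * v * v by group, hcv,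
      show E w * E ((mat m32) *ᵥ w) * (E ((mat m32) *ᵥ ((mat m32) *ᵥ w)) * v) * v * v =
        E w * E ((mat m32) *ᵥ w) * E ((mat m32) *ᵥ ((mat m32) *ᵥ w)) * (v * v * v) by group,
      hv3, ← hEadd, ← hEadd, m32_quad, hE0, mul_one]
  exact ⟨{ M := (Subgroup.normalizer (N : Set G)), e := e, π := π, inj := hinj, eM := fun v => Subgroup.le_normalizer (heN v), ker := hker,
           act := hact0,
           key := fun g v hv hgv => hP.mem_of_conj (heN _) (fun h => hv (Multiplicative.ofAdd.injective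
             (hinj (h.trans (map_one e).symm)))) hgv,
           h := h, x := x, u := u, s := s, t := t, πh := hhπ, πx := hxπ, πu := huπ, πs := hsπ, πt := htπ,
           h3 := hD23 hhD, x3 := hD23 hxD, u3 := hu3, s2 := hs2, t2 := ht2, hx := hD2c hhD hxD, hu := hhu,
           xu := hxu, sh := hsh, sx := hsx, su := hsu, st := hst, th := hht }, rfl,
    le_antisymm (fun _ ⟨w, hw⟩ => hw ▸ heN w) hNe⟩

/-- (b) continued: the centraliser of an involution of `N(N)` lies in `N(N)`. -/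
theorem Par.cent_invol (hP : T.Par N) : ∀ t ∈ Subgroup.normalizer (N : Set G), t * t = 1 → t ≠ 1 →
    Subgroup.centralizer ({t} : Set G) ≤ Subgroup.normalizer (N : Set G) := by
  obtain ⟨C, hC, -⟩ := hP.exists_coord
  intro t ht ht2 ht1 g hg
  have hs1 : (C.s : G) ≠ 1 := fun h => by
    have h1 : C.π C.s = 1 := by rw [show C.s = 1 from Subtype.ext h, map_one]
    rw [C.πs] at h1
    exact absurd h1 (by decide +kernel)
  obtain ⟨m, hm, hmt⟩ := hP.invol_conj (hC ▸ C.s.2) (congrArg Subtype.val C.s2) hs1 ht ht2 ht1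
  have h1 : m⁻¹ * g * m ∈ Subgroup.centralizer ({(C.s : G)} : Set G) := by
    rw [Subgroup.mem_centralizer_singleton_iff]
    calc m⁻¹ * g * m * (C.s : G) = m⁻¹ * (g * (m * C.s * m⁻¹)) * m := by group
      _ = (C.s : G) * (m⁻¹ * g * m) := by
        rw [hmt, Subgroup.mem_centralizer_singleton_iff.1 hg, ← hmt]; group
  have h2 := C.cent_s h1
  rw [hC] at h2
  simpa [mul_assoc] using mul_mem (mul_mem hm h2) (inv_mem hm)

/-- The parabolic alternative: `N` is normal in `G`. -/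
theorem Par.normalizer_top (hP : T.Par N) : Subgroup.normalizer (N : Set G) = ⊤ :=
  hP.eq_top hP.cent_invol

end Loc

end Cfsg.Agent.Spor.PSLFourThree
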