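import Cfsg.Agent.Lib.Spor.PSLFourThree.WreathCase.Maps
import Cfsg.Agent.Lib.Spor.PSLFourThree.WreathCase.Decomp

/-!
# A group of order 162 controlling the fusion of a plane is the whole group
-/

set_option autoImplicit false
set_option linter.unusedSectionVars false
set_option linter.style.haveILetI false

namespace Cfsg.Agent.Spor.PSLFourThree

open Cfsg Cfsg.Agent.Char Wreath

universe u

namespace WreathCfg

section Nu

variable {X : Type u} [Group X] [Fintype X] (w : WreathCfg X)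

open Classical in
theorem sum_split {F : X → ℂ} {z : IrrCharacter X → ℤ}
    (hz : ∀ χ : IrrCharacter X, classInner F (χ : X → ℂ) = z χ) {c : ℤ} (hc : classInner F (fun _ => 1) = c)
    (f : IrrCharacter X → ℂ) :
    ∑ χ : IrrCharacter X, (z χ : ℂ) * f χ = (c : ℂ) * f ⟨_, isIrrCharacter_one⟩ +
      ∑ χ ∈ Finset.univ.erase (⟨_, isIrrCharacter_one⟩ : IrrCharacter X), (z χ : ℂ) * f χ := by
  rw [← Finset.add_sum_erase _ _ (Finset.mem_univ (⟨_, isIrrCharacter_one⟩ : IrrCharacter X))]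
  congr 2
  rw [← hz, hc]

open Classical in
theorem dot_split {F F' : X → ℂ} {z z' : IrrCharacter X → ℤ}
    (hzv : ∀ g, F g = ∑ χ : IrrCharacter X, (z χ : ℂ) * (χ : X → ℂ) g)
    (hz : ∀ χ : IrrCharacter X, classInner F (χ : X → ℂ) = z χ)
    (hz' : ∀ χ : IrrCharacter X, classInner F' (χ : X → ℂ) = z' χ)
    {c c' m : ℤ} (hc : classInner F (fun _ => 1) = c) (hc' : classInner F' (fun _ => 1) = c')
    (hm : classInner F F' = m) :
    ∑ χ ∈ Finset.univ.erase (⟨_, isIrrCharacter_one⟩ : IrrCharacter X), z χ * z' χ = m - c * c' := by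
  have h := (classInner_coeff hzv hz').symm.trans hm
  have h' : (∑ χ : IrrCharacter X, z χ * z' χ : ℤ) = m := by exact_mod_cast h
  have e1 : z ⟨_, isIrrCharacter_one⟩ = c := by
    have := (hz ⟨_, isIrrCharacter_one⟩).symm.trans hc
    exact_mod_cast this
  have e2 : z' ⟨_, isIrrCharacter_one⟩ = c' := by
    have := (hz' ⟨_, isIrrCharacter_one⟩).symm.trans hc'
    exact_mod_cast this
  rw [← h', ← Finset.add_sum_erase _ _ (Finset.mem_univ (⟨_, isIrrCharacter_one⟩ : IrrCharacter X)), e1, e2]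
  ring

/-- A linear character which is nontrivial at the involution. -/
theorem exists_nu : ∃ ν : X →* ℂˣ, ν (w.φ Mdl.S) ≠ 1 := by
  classical
  haveI := Fintype.ofFinite ↥w.M
  set F1 := w.lift th1 with hF1
  set F2 := w.dlift with hF2
  set F3 := w.lift gam with hF3
  have hg1 : IsGeneralizedCharacter X F1 := w.lift_gen gen_th1
  have hg2 : IsGeneralizedCharacter X F2 := w.dlift_gen
  have hg3 : IsGeneralizedCharacter X F3 := w.lift_gen gen_gam
  obtain ⟨z1, hv1, hc1⟩ := exists_coeff hg1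
  obtain ⟨z2, hv2, hc2⟩ := exists_coeff hg2
  obtain ⟨z3, hv3, hc3⟩ := exists_coeff hg3
  have hone : IsClassFunction X (fun _ => (1 : ℂ)) := fun _ _ => rfl
  have hev : ev (1, 0) = (1 : ℂ) := by simp [ev_apply]
  have hs1 : ∀ g, th1 g ≠ 0 → Mdl.Ctl g := fun g hne => by
    by_contra hc
    exact hne (th1_supp g hc)
  have hs3 : ∀ g, gam g ≠ 0 → Mdl.Ctl g := fun g hne => by
    by_contra hc
    exact hne (gam_supp g hc)
  have i10 : classInner F1 (fun _ => 1) = ((1 : ℤ) : ℂ) :=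
    (w.classInner_lift th1 hone onez fun _ _ => hev.symm).trans ip_10
  have i30 : classInner F3 (fun _ => 1) = ((-1 : ℤ) : ℂ) :=
    (w.classInner_lift gam hone onez fun _ _ => hev.symm).trans ip_g0
  have i20 : classInner F2 (fun _ => 1) = ((1 : ℤ) : ℂ) := w.classInner_dlift_one.trans ip_20
  have i11 : classInner F1 F1 = ((3 : ℤ) : ℂ) :=
    (w.classInner_lift th1 (classFun_of_gen hg1) th1 fun g hg => w.lift_ctl gen_th1 (hs1 g hg)).trans ip_11
  have i22 : classInner F2 F2 = ((3 : ℤ) : ℂ) := w.classInner_dlift.trans ip_22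
  have i33 : classInner F3 F3 = ((3 : ℤ) : ℂ) :=
    (w.classInner_lift gam (classFun_of_gen hg3) gam fun g hg => w.lift_ctl gen_gam (hs3 g hg)).trans ip_gg
  have i12 : classInner F1 F2 = ((2 : ℤ) : ℂ) :=
    (w.classInner_lift th1 (classFun_of_gen hg2) th2 fun g hg => w.dlift_ctl (hs1 g hg)).trans ip_12
  have i32 : classInner F3 F2 = ((0 : ℤ) : ℂ) :=
    (w.classInner_lift gam (classFun_of_gen hg2) th2 fun g hg => w.dlift_ctl (hs3 g hg)).trans ip_g2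
  have i13 : classInner F1 F3 = ((-1 : ℤ) : ℂ) :=
    (w.classInner_lift th1 (classFun_of_gen hg3) gam fun g hg => w.lift_ctl gen_gam (hs1 g hg)).trans ip_1g
  set s0 := Finset.univ.erase (⟨_, isIrrCharacter_one⟩ : IrrCharacter X) with hs0
  have d11 := dot_split hv1 hc1 hc1 i10 i10 i11
  have d22 := dot_split hv2 hc2 hc2 i20 i20 i22
  have d33 := dot_split hv3 hc3 hc3 i30 i30 i33
  have d12 := dot_split hv1 hc1 hc2 i10 i20 i12
  have d32 := dot_split hv3 hc3 hc2 i30 i20 i32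
  have d13 := dot_split hv1 hc1 hc3 i10 i30 i13
  replace d11 := d11.trans (show (3 : ℤ) - 1 * 1 = 2 by norm_num)
  replace d22 := d22.trans (show (3 : ℤ) - 1 * 1 = 2 by norm_num)
  replace d33 := d33.trans (show (3 : ℤ) - -1 * -1 = 2 by norm_num)
  replace d12 := d12.trans (show (2 : ℤ) - 1 * 1 = 1 by norm_num)
  replace d32 := d32.trans (show (0 : ℤ) - -1 * 1 = 1 by norm_num)
  replace d13 := d13.trans (show (-1 : ℤ) - 1 * -1 = 0 by norm_num)
  obtain ⟨i, j, k, l, a, b, c, p, -, -, -, -, ha, hb, hc, hp, su, sv, sw⟩ :=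
    shape (s := s0) (u := z1) (v := z2) (w := z3)
      (by rw [← d11]; exact Finset.sum_congr rfl fun _ _ => pow_two _)
      (by rw [← d22]; exact Finset.sum_congr rfl fun _ _ => pow_two _)
      (by rw [← d33]; exact Finset.sum_congr rfl fun _ _ => pow_two _)
      d12 (by rw [← d32]; exact Finset.sum_congr rfl fun _ _ => mul_comm _ _) d13
  have e1 : ∀ f : IrrCharacter X → ℂ, ∑ χ : IrrCharacter X, (z1 χ : ℂ) * f χ =
      f ⟨_, isIrrCharacter_one⟩ + (a * f i + b * f j) := fun f => by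
    rw [sum_split hc1 i10, Int.cast_one, one_mul, su]
  have e2 : ∀ f : IrrCharacter X → ℂ, ∑ χ : IrrCharacter X, (z2 χ : ℂ) * f χ =
      f ⟨_, isIrrCharacter_one⟩ + (a * f i + c * f k) := fun f => by
    rw [sum_split hc2 i20, Int.cast_one, one_mul, sv]
  have hsq1 : ∀ g : X, g * g = 1 → F1 g = 0 ∧ F2 g = 0 ∧ F3 g = 0 := fun g hg =>
    ⟨w.lift_invol th1_supp hg, w.dlift_invol hg, w.lift_invol gam_supp hg⟩
  have hS2 : w.φ Mdl.S * w.φ Mdl.S = 1 := by rw [← map_mul, show Mdl.S * Mdl.S = 1 from rfl, map_one]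
  obtain ⟨v1, v2, v3⟩ := hsq1 1 (one_mul 1)
  obtain ⟨t1, t2, t3⟩ := hsq1 _ hS2
  rw [hv1, e1 (fun χ => (χ : X → ℂ) 1)] at v1
  rw [hv2, e2 (fun χ => (χ : X → ℂ) 1)] at v2
  rw [hv1, e1 (fun χ => (χ : X → ℂ) (w.φ Mdl.S))] at t1
  rw [hv2, e2 (fun χ => (χ : X → ℂ) (w.φ Mdl.S))] at t2
  have sw' : ∀ f : IrrCharacter X → ℂ, ∑ t ∈ s0, (z3 t : ℂ) * f t = c * f k + p * f l := by
    rcases sw with h | h
    · exact h
    exfalso
    rw [hv3, sum_split hc3 i30, h] at v3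
    refine irr_one_ne_zero i.2 ((mul_eq_zero.1 (?_ : (a : ℂ) * (i : X → ℂ) 1 = 0)).resolve_left ?_)
    · push_cast at v3
      linear_combination (1 / 2 : ℂ) * v1 + (1 / 2 : ℂ) * v3
    · exact Int.cast_ne_zero.2 fun h0 => by rw [h0] at ha; norm_num at ha
  have e3 : ∀ f : IrrCharacter X → ℂ, ∑ χ : IrrCharacter X, (z3 χ : ℂ) * f χ =
      -f ⟨_, isIrrCharacter_one⟩ + (c * f k + p * f l) := fun f => by
    rw [sum_split hc3 i30, sw']
    push_cast
    ring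
  rw [hv3, e3 (fun χ => (χ : X → ℂ) 1)] at v3
  rw [hv3, e3 (fun χ => (χ : X → ℂ) (w.φ Mdl.S))] at t3
  -- the sums over pairs
  set R : ℂ := (w.cs : ℂ) ^ 2 / 162 / (Nat.card X : ℂ) with hR
  have hX : (Nat.card X : ℂ) ≠ 0 := Nat.cast_ne_zero.mpr Nat.card_pos.ne'
  have q1 := (pair_sum_coeff hv1 (w.φ Mdl.S)).symm.trans (w.pair_sum_lift th1_supp)
  have q3 := (pair_sum_coeff hv3 (w.φ Mdl.S)).symm.trans (w.pair_sum_lift gam_supp)
  rw [e1, pairs_th1] at q1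
  rw [e3, pairs_gam] at q3
  have hev1 : ev (1458, 0) = (1458 : ℂ) := by simp [ev_apply]
  have hev3 : ev (-486, 0) = (-486 : ℂ) := by simp [ev_apply]
  rw [hev1] at q1
  rw [hev3] at q3
  have hnorm : ∀ (n : ℤ) (y z : ℂ), n * n = 1 → z ≠ 0 →
      (n : ℂ) * (y ^ 2 / z) = ((n : ℂ) * y) ^ 2 / ((n : ℂ) * z) := by
    intro n y z hn hz
    have hn' : (n : ℂ) * n = 1 := by exact_mod_cast hn
    have : (n : ℂ) ≠ 0 := left_ne_zero_of_mul_eq_one hn'
    field_simp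
  rw [hnorm a _ _ ha (irr_one_ne_zero i.2), hnorm b _ _ hb (irr_one_ne_zero j.2)] at q1
  rw [hnorm c _ _ hc (irr_one_ne_zero k.2), hnorm p _ _ hp (irr_one_ne_zero l.2)] at q3
  simp only [one_pow, div_one] at q1 q3
  set A : ℂ := (a : ℂ) * (i : X → ℂ) 1 with hA
  set L : ℂ := (a : ℂ) * (i : X → ℂ) (w.φ Mdl.S) with hL
  have eb : (b : ℂ) * (j : X → ℂ) 1 = -1 - A := by linear_combination v1
  have ec : (c : ℂ) * (k : X → ℂ) 1 = -1 - A := by linear_combination v2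
  have ep : (p : ℂ) * (l : X → ℂ) 1 = 2 + A := by linear_combination v3 - ec
  have fb : (b : ℂ) * (j : X → ℂ) (w.φ Mdl.S) = -1 - L := by linear_combination t1
  have fc : (c : ℂ) * (k : X → ℂ) (w.φ Mdl.S) = -1 - L := by linear_combination t2
  have fp : (p : ℂ) * (l : X → ℂ) (w.φ Mdl.S) = 2 + L := by linear_combination t3 - fc
  rw [eb, fb] at q1
  rw [ec, ep, fc, fp] at q3
  have hne : ∀ (n : ℤ) (χ : IrrCharacter X), n * n = 1 → (n : ℂ) * (χ : X → ℂ) 1 ≠ 0 := fun n χ hn =>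
    mul_ne_zero (Int.cast_ne_zero.2 fun h0 => by rw [h0] at hn; norm_num at hn) (irr_one_ne_zero χ.2)
  have key : ∀ Q N : ℂ, (Nat.card X : ℂ) ^ 2 * Q = (Nat.card X : ℂ) * (w.cs : ℂ) ^ 2 / 162 * N → Q = N * R := by
    intro Q N h
    rw [hR]
    refine mul_left_cancel₀ (pow_ne_zero 2 hX) (h.trans ?_)
    field_simp
  obtain ⟨hA1, hL1⟩ := arith (A := A) (l := L) (r := 729 * R)
    (mul_ne_zero (by norm_num) (div_ne_zero (div_ne_zero (pow_ne_zero _ (Nat.cast_ne_zero.2 w.cs_pos.ne'))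
      (by norm_num)) hX))
    (hne a i ha) (eb ▸ hne b j hb) (ep ▸ hne p l hp)
    (by linear_combination key _ _ q1)
    (by linear_combination key _ _ q3)
  obtain ⟨n, hn⟩ := charOne_eq_natCast (irr_isCharacter i.2)
  have hA2 := hA1
  rw [hA, hn] at hA2
  have hn1 : a * (n : ℤ) = 1 := by exact_mod_cast hA2
  have ha1 : a = 1 := by
    rcases Int.eq_one_or_neg_one_of_mul_eq_one hn1 with h | h
    · exact h
    · rw [h] at hn1; omega
  rw [ha1, one_mul] at hn1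
  obtain ⟨ν, hν⟩ := exists_hom_of_degree_one (irr_isCharacter i.2) (by rw [hn]; exact_mod_cast hn1)
  refine ⟨ν, fun h1 => hL1 ?_⟩
  rw [hL, ha1, hν]
  simp [h1]

end Nu

section Top

theorem inverted_gens : ∀ r : ZMod 3,
    Mdl.A r 0 0 * Mdl.A r 0 0 * Mdl.A r 0 0 = 1 ∧ Mdl.S * Mdl.A r 0 0 * Mdl.S * Mdl.A r 0 0 = 1 ∧
    Mdl.A 0 0 r * Mdl.A 0 0 r * Mdl.A 0 0 r = 1 ∧ Mdl.S * Mdl.A 0 0 r * Mdl.S * Mdl.A 0 0 r = 1 ∧
    (⟨0, 0, 0, r, false⟩ : Mdl) * ⟨0, 0, 0, r, false⟩ * ⟨0, 0, 0, r, false⟩ = 1 ∧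
    Mdl.S * ⟨0, 0, 0, r, false⟩ * Mdl.S * (⟨0, 0, 0, r, false⟩ : Mdl) = 1 ∧
    Mdl.X * Mdl.A r 0 0 * Mdl.X⁻¹ = Mdl.A r 0 0 * Mdl.A 0 r 0 * Mdl.A 0 0 (2 * r) := by
  decide +kernel

theorem split_e : ∀ g : Mdl, g.e = true → ∃ h : Mdl, h.e = false ∧ g = h * Mdl.S := by decide +kernel

theorem S_sq : Mdl.S * Mdl.S = 1 := rfl

theorem hom_trivial_S (n : Mdl →* ℂˣ) {g : Mdl} (he : g.e = false) : n g = 1 := by
  have key : ∀ u : Mdl, u * u * u = 1 → Mdl.S * u * Mdl.S * u = 1 → n u = 1 := by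
    intro u h3 hS
    have h1 := congrArg n h3
    have h2 := congrArg n hS
    simp only [map_mul, map_one] at h1 h2
    rw [mul_right_comm (n Mdl.S) (n u) (n Mdl.S), ← map_mul n Mdl.S Mdl.S, S_sq, map_one, one_mul] at h2
    rwa [h2, one_mul] at h1
  have hb : ∀ r : ZMod 3, n (Mdl.A 0 r 0) = 1 := by
    intro r
    obtain ⟨h1, h2, -, -, -, -, hc⟩ := inverted_gens r
    obtain ⟨-, -, h5, h6, -⟩ := inverted_gens (2 * r)
    have e := congrArg n hc
    simp only [map_mul, map_inv, key _ h1 h2, key _ h5 h6, mul_one, one_mul, mul_inv_cancel] at e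
    exact e.symm
  obtain ⟨h1, h2, -⟩ := inverted_gens g.a
  obtain ⟨-, -, h5, h6, -⟩ := inverted_gens g.c
  obtain ⟨-, -, -, -, h7, h8, -⟩ := inverted_gens g.i
  rw [Mdl.gen_form g he, map_mul, map_mul, map_mul, key _ h1 h2, hb, key _ h5 h6, key _ h7 h8, one_mul, one_mul,
    one_mul]

variable {X : Type u} [Group X] [Finite X] (w : WreathCfg X)

theorem hom_trivial_Hd (ν : X →* ℂˣ) {g : Mdl} (hg : Gen g) {u : X} (hu : u ∈ Hd (w.φ g)) : ν u = 1 := by
  set H := Hd (w.φ g)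
  set y := w.φ Mdl.Y
  have hy : y ∈ Subgroup.centralizer ({w.φ g} : Set X) := (w.y_mem_cent hg).2
  set f : H → H := fun v => ⟨(v : X)⁻¹ * (y * v * y⁻¹), mul_mem (inv_mem v.2) (Hd_conj hy v.2)⟩ with hf
  have hinj : Function.Injective f := by
    intro v v' e
    have e' : (v : X)⁻¹ * (y * v * y⁻¹) = (v' : X)⁻¹ * (y * v' * y⁻¹) := congrArg Subtype.val e
    have hc : (v' : X) * (v : X)⁻¹ * y * ((v' : X) * (v : X)⁻¹)⁻¹ = y := by
      calc (v' : X) * (v : X)⁻¹ * y * ((v' : X) * (v : X)⁻¹)⁻¹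
          = (v' : X) * ((v : X)⁻¹ * (y * v * y⁻¹)) * y * (v' : X)⁻¹ := by group
        _ = _ := by rw [e']; group
    have hm : (v' : X) * (v : X)⁻¹ ∈ H ⊓ (w.M ⊓ Subgroup.centralizer ({w.φ g} : Set X)) := by
      have hH : (v' : X) * (v : X)⁻¹ ∈ H := mul_mem v'.2 (inv_mem v.2)
      exact ⟨hH, w.y_ctl (by rw [hc]; exact w.φ_mem _), Hd_le _ hH⟩
    rw [w.Hd_inf hg, Subgroup.mem_bot, mul_inv_eq_one] at hm
    exact Subtype.ext hm.symm
  obtain ⟨v, hv⟩ := (Finite.injective_iff_surjective.1 hinj) ⟨u, hu⟩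
  have := congrArg (fun t : H => ν (t : X)) hv
  simp only [hf, map_mul, map_inv] at this
  rw [← this, mul_comm (ν y) (ν (v : X)), mul_inv_cancel_right, inv_mul_cancel]

theorem plane_trivial {N : Subgroup X} (hco : (Nat.card N).Coprime 3)
    (hnorm : ∀ g ∈ plane, ∀ u ∈ N, w.φ g * u * (w.φ g)⁻¹ ∈ N) (hNM : N ⊓ w.M = ⊥) : N = ⊥ := by
  haveI : Fact (Nat.Prime 3) := ⟨Nat.prime_three⟩
  set E : Subgroup X := plane.map w.φ with hE
  obtain ⟨h3, hcomm, h9⟩ := plane_facts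
  have hEcard : Nat.card E = 9 := by
    rw [hE, Subgroup.card_map_of_injective w.φ_inj, Nat.card_eq_fintype_card, h9]
  have hEc : IsMulCommutative E := ⟨⟨fun p q => by
    obtain ⟨u, hu, hu'⟩ := p.2
    obtain ⟨v, hv, hv'⟩ := q.2
    refine Subtype.ext ?_
    show (p : X) * q = q * p
    rw [← hu', ← hv', ← map_mul, ← map_mul, hcomm u hu v hv]⟩⟩
  have hEN : E ≤ Subgroup.normalizer (N : Set X) := by
    rintro _ ⟨c, hc, rfl⟩ u
    refine ⟨fun hu => hnorm c hc u hu, fun hu => ?_⟩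
    have := hnorm c⁻¹ (inv_mem hc) _ hu
    rwa [map_inv, show (w.φ c)⁻¹ * (w.φ c * u * (w.φ c)⁻¹) * (w.φ c)⁻¹⁻¹ = u by group] at this
  have hco' : (Nat.card E).Coprime (Nat.card N) := by
    rw [hEcard, show (9 : ℕ) = 3 ^ 2 by norm_num]
    exact (hco.pow_right 2).symm
  rw [← Solv.gen_eq E N hEc hEN hco', eq_bot_iff]
  refine iSup₂_le fun B hB => ?_
  obtain ⟨hBE, e, heE, hgen⟩ := hB
  have hB1 : ∃ b ∈ B, b ≠ 1 := by
    by_contra hne
    push Not at hne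
    rw [(Subgroup.eq_bot_iff_forall B).2 hne, bot_sup_eq] at hgen
    obtain ⟨u, hu, rfl⟩ := heE
    have h1 : orderOf (w.φ u) ∣ 3 := orderOf_dvd_of_pow_eq_one (by rw [← map_pow, h3 u hu, map_one])
    rw [← Nat.card_zpowers, hgen, hEcard] at h1
    exact absurd (Nat.le_of_dvd (by norm_num) h1) (by norm_num)
  obtain ⟨b, hb, hb1⟩ := hB1
  obtain ⟨u, ⟨hue, hua, hui⟩, rfl⟩ := hBE hb
  intro z hz
  rw [← hNM]
  refine ⟨hz.1, w.plane_ctl hue hua hui (fun h => hb1 (by rw [h, map_one])) ?_⟩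
  have hc := Subgroup.mem_centralizer_iff.1 hz.2 _ hb
  rw [← hc, mul_inv_cancel_right]
  exact w.φ_mem _

/-- The group of order 162 is the whole group. -/
theorem eq_top : w.a.range ⊔ Subgroup.zpowers w.x ⊔ Subgroup.zpowers w.s = ⊤ := by
  change w.M = ⊤
  haveI : Fact (Nat.Prime 3) := ⟨Nat.prime_three⟩
  haveI := Fintype.ofFinite X
  obtain ⟨ν, hν⟩ := w.exists_nu
  set K := ν.ker with hK
  set S : Subgroup X := subS.map w.φ with hS
  have hνS : ∀ g : Mdl, g.e = false → w.φ g ∈ K := fun g he =>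
    MonoidHom.mem_ker.2 (hom_trivial_S (ν.comp w.φ) he)
  have hKM : ∀ g : Mdl, w.φ g ∈ K → g.e = false := by
    intro g hg
    by_contra he
    obtain ⟨h, hh, rfl⟩ := split_e g (by simpa using he)
    rw [MonoidHom.mem_ker, map_mul, map_mul, MonoidHom.mem_ker.1 (hνS h hh), one_mul] at hg
    exact hν hg
  have hSK : S ≤ K := by
    rintro _ ⟨g, hg, rfl⟩
    exact hνS g hg
  have hSM : S ≤ w.M := by
    rintro _ ⟨g, -, rfl⟩
    exact w.φ_mem g
  have hKMS : K ⊓ w.M ≤ S := by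
    rintro z ⟨hzK, hzM⟩
    obtain ⟨g, rfl⟩ := w.exists_φ hzM
    exact ⟨g, hKM g hzK, rfl⟩
  have hSp : IsPGroup 3 S := (IsPGroup.of_card (p := 3) (n := 4) (by rw [card_subS]; norm_num)).map w.φ
  obtain ⟨T, hT, hST⟩ := Fusion.exists_sylIn_ge hSp hSK
  obtain rfl : T = S := w.eq_of_pgroup hSM ⟨Mdl.Y, rfl, rfl⟩ hT.isPGroup hST
    ((inf_le_inf_right _ hT.le).trans hKMS)
  -- the Sylow subgroup controls fusion
  obtain ⟨P, hP⟩ := hT.exists_sylow_subgroupOf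
  have hfus : ∀ x ∈ (P : Subgroup K), ∀ g : K, g * x * g⁻¹ ∈ (P : Subgroup K) →
      ∃ s ∈ (P : Subgroup K), s * x * s⁻¹ = g * x * g⁻¹ := by
    intro x hx g hgx
    rw [hP, Subgroup.mem_subgroupOf] at hx hgx
    obtain ⟨m, hm, hmx⟩ := hx
    obtain ⟨h, hh, hhx⟩ := hgx
    have hhx' : w.φ h = (g : X) * w.φ m * (g : X)⁻¹ := by rw [hhx, hmx]; rfl
    have ofM : (g : X) ∈ w.M → ∃ s ∈ (P : Subgroup K), s * x * s⁻¹ = g * x * g⁻¹ := fun hgM =>
      ⟨g, by rw [hP, Subgroup.mem_subgroupOf]; exact hKMS ⟨g.2, hgM⟩, rfl⟩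
    by_cases hm1 : m = 1
    · refine ⟨1, one_mem _, ?_⟩
      have hx1 : x = 1 := Subtype.ext (by rw [← hmx, hm1, map_one]; rfl)
      rw [hx1]
      group
    by_cases hcm : Mdl.Ctl m
    · exact ofM (w.ctl_conj hcm (hhx' ▸ w.φ_mem h))
    by_cases hch : Mdl.Ctl h
    · refine ofM (inv_mem_iff.1 (w.ctl_conj hch ?_))
      rw [hhx', show (g : X)⁻¹ * ((g : X) * w.φ m * (g : X)⁻¹) * ((g : X)⁻¹)⁻¹ = w.φ m by group]
      exact w.φ_mem m
    have hom : Mdl.Out m := ⟨hm, fun hi => hcm (Or.inl ⟨hm, Or.inr ⟨hi, hm1⟩⟩)⟩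
    have hoh : Mdl.Out h := ⟨hh, fun hi => hch (Or.inl ⟨hh, Or.inr ⟨hi, fun h1 => hm1 (w.φ_inj (by
      rw [map_one]
      calc w.φ m = (g : X)⁻¹ * ((g : X) * w.φ m * (g : X)⁻¹) * g := by group
        _ = 1 := by rw [← hhx', h1, map_one]; group))⟩⟩)⟩
    obtain ⟨q, hqM, hq⟩ := w.dade.fusion _ ⟨m, hom, rfl⟩ (g : X) ⟨h, hoh, hhx'⟩
    have hcent : q⁻¹ * (g : X) ∈ Subgroup.centralizer ({w.φ m} : Set X) := by
      rw [Subgroup.mem_centralizer_singleton_iff]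
      calc q⁻¹ * (g : X) * w.φ m = q⁻¹ * ((g : X) * w.φ m * (g : X)⁻¹) * g := by group
        _ = _ := by rw [← hq]; group
    have hle : Subgroup.centralizer ({w.φ m} : Set X) ≤ K := by
      rw [← w.Hd_sup (gen_of_out hom)]
      refine sup_le (fun u hu => MonoidHom.mem_ker.2 (w.hom_trivial_Hd ν (gen_of_out hom) hu)) ?_
      rintro z ⟨hzM, hzC⟩
      obtain ⟨r, rfl⟩ := w.exists_φ hzM
      exact hνS r (Mdl.cent_e m hm (Or.inr hom.2) r (w.cent_mem hzC))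
    have hqK : q ∈ K := by
      have := K.mul_mem g.2 (K.inv_mem (hle hcent))
      rwa [show (g : X) * (q⁻¹ * (g : X))⁻¹ = q by group] at this
    refine ⟨⟨q, hqK⟩, by rw [hP, Subgroup.mem_subgroupOf]; exact hKMS ⟨hqK, hqM⟩, Subtype.ext ?_⟩
    show q * (x : X) * q⁻¹ = (g : X) * x * (g : X)⁻¹
    rw [← hmx]
    exact hq
  have hnpc := Fusion.hnpc_of_fusion_controlled (Fusion.sylIn_top P) hfus
  set N : Subgroup X := (pResidual 3 K).map K.subtype with hN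
  have hNco : (Nat.card N).Coprime 3 := by
    rw [hN, Subgroup.card_map_of_injective K.subtype_injective]
    exact Fusion.hnpc_iff.1 hnpc
  have hNS : N ⊓ w.M = ⊥ := by
    rw [eq_bot_iff, ← Fusion.coprime_inf_pGroup hNco hT.isPGroup]
    rintro z ⟨hzN, hzM⟩
    exact ⟨hzN, hKMS ⟨Subgroup.map_subtype_le _ hzN, hzM⟩⟩
  have hN0 : N = ⊥ := by
    refine w.plane_trivial hNco ?_ hNS
    rintro g hg _ ⟨u, hu, rfl⟩
    exact ⟨⟨w.φ g, hνS g hg.1⟩ * u * ⟨w.φ g, hνS g hg.1⟩⁻¹,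
      (inferInstance : (pResidual 3 K).Normal).conj_mem u hu _, rfl⟩
  have hKS : K ≤ subS.map w.φ := by
    intro z hz
    have htop := Fusion.pResidual_sup_sylow P
    have hbot : pResidual 3 K = ⊥ :=
      Subgroup.map_injective K.subtype_injective (by rw [Subgroup.map_bot]; exact hN0)
    rw [hbot, bot_sup_eq] at htop
    have hz' : (⟨z, hz⟩ : K) ∈ (P : Subgroup K) := htop ▸ Subgroup.mem_top _
    rw [hP, Subgroup.mem_subgroupOf] at hz'
    exact hz'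
  rw [eq_top_iff]
  intro g _
  refine w.y_ctl (hSM (hKS ?_))
  exact (inferInstance : K.Normal).conj_mem _ (hνS Mdl.Y rfl) g

end Top

end WreathCfg

end Cfsg.Agent.Spor.PSLFourThree
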