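import Cfsg.Agent.Lib.Spor.PSLFourThree.ParabolicCoord
import Cfsg.Agent.Lib.Spor.PSLFourThree.WreathCase

/-!
The centralisers of the elements `c = h·y^k` of the parabolic subgroup: their image modulo `⟨c⟩`, and the
case `k ≠ 0` by the wreath case.
-/

set_option autoImplicit false
set_option linter.unusedSectionVars false
set_option linter.style.haveILetI false
set_option maxHeartbeats 800000

namespace Cfsg.Agent.Spor.PSLFourThree

open scoped Matrix

namespace Pb

local notation "SL3" => Matrix.SpecialLinearGroup (Fin 3) (ZMod 3)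
local notation "mat" g:max => ((g : SL3) : Matrix (Fin 3) (Fin 3) (ZMod 3))

namespace Coord

variable {G : Type*} [Group G] (C : Coord G)

/-- `h·y^k`. -/
def c (k : ZMod 3) : C.M := C.h * C.E ![0, 0, k]

/-- The lift of `I + E₁₃` commuting with `c`. -/
def xk (k : ZMod 3) : C.M := C.E ![0, k, 0] * C.x

theorem hE (a b : ZMod 3) : C.h * C.E ![a, 0, b] = C.E ![a, 0, b] * C.h :=
  C.commE (by rw [C.πh]; revert a b; decide +kernel)

theorem uE (v : Fin 3 → ZMod 3) : C.u * C.E v = C.E ((mat m32) *ᵥ v) * C.u := by rw [C.conjE', C.πu]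

theorem xE (v : Fin 3 → ZMod 3) : C.x * C.E v = C.E ((mat m13) *ᵥ v) * C.x := by rw [C.conjE', C.πx]

theorem π_c (k : ZMod 3) : C.π (C.c k) = m12 := by rw [c, map_mul, C.π_E, C.πh, mul_one]

theorem π_xk (k : ZMod 3) : C.π (C.xk k) = m13 := by rw [xk, map_mul, C.π_E, C.πx, one_mul]

theorem c_E (k a b : ZMod 3) : C.E ![a, 0, b] * C.c k = C.c k * C.E ![a, 0, b] := by
  rw [c, ← mul_assoc, ← C.hE, mul_assoc, mul_assoc, C.E_comm]

theorem c_u (k : ZMod 3) : C.u * C.c k = C.c k * C.u := by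
  rw [c, ← mul_assoc, ← C.hu, mul_assoc, mul_assoc, C.uE]
  congr 3
  revert k; decide +kernel

theorem s_h : C.s * C.h = C.h * C.s := by
  conv_rhs => rw [← C.sh]
  rw [mul_assoc, C.s2, mul_one]

theorem c_s (k : ZMod 3) : C.s * C.c k = C.c k * C.s := by
  rw [c, ← mul_assoc, C.s_h, mul_assoc, mul_assoc, C.commE (m := C.s)]
  rw [C.πs]; revert k; decide +kernel

theorem x_a2 (k : ZMod 3) : C.x * C.E ![0, k, 0] = C.E ![0, k, 0] * C.x :=
  C.commE (by rw [C.πx]; revert k; decide +kernel)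

theorem xk_c (k : ZMod 3) : C.xk k * C.c k = C.c k * C.xk k := by
  rw [xk, c, show C.E ![0, k, 0] * C.x * (C.h * C.E ![0, 0, k]) =
      C.E ![0, k, 0] * (C.x * C.h) * C.E ![0, 0, k] by group, ← C.hx,
    show C.E ![0, k, 0] * (C.h * C.x) * C.E ![0, 0, k] = C.E ![0, k, 0] * C.h * (C.x * C.E ![0, 0, k]) by group,
    C.xE, show C.h * C.E ![0, 0, k] * (C.E ![0, k, 0] * C.x) = C.h * (C.E ![0, 0, k] * C.E ![0, k, 0]) * C.x by group,
    ← C.E_add, C.conjE' C.h, C.πh,
    show C.E ![0, k, 0] * C.h * (C.E ((mat m13) *ᵥ ![0, 0, k]) * C.x) =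
      C.E ![0, k, 0] * (C.h * C.E ((mat m13) *ᵥ ![0, 0, k])) * C.x by group,
    C.conjE' C.h, C.πh, ← mul_assoc, ← C.E_add]
  congr 3
  revert k; decide +kernel

theorem c3 (k : ZMod 3) : C.c k * C.c k * C.c k = 1 := by
  have h := C.hE 0 k
  rw [c, show C.h * C.E ![0, 0, k] * (C.h * C.E ![0, 0, k]) * (C.h * C.E ![0, 0, k]) =
    C.h * (C.E ![0, 0, k] * C.h) * C.E ![0, 0, k] * C.h * C.E ![0, 0, k] by group, ← h,
    show C.h * (C.h * C.E ![0, 0, k]) * C.E ![0, 0, k] * C.h * C.E ![0, 0, k] =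
      C.h * C.h * ((C.E ![0, 0, k] * C.E ![0, 0, k]) * C.h) * C.E ![0, 0, k] by group, ← C.E_add,
    show (![0, 0, k] + ![0, 0, k] : Fin 3 → ZMod 3) = ![0, 0, k + k] by simp, ← C.hE,
    show C.h * C.h * (C.h * C.E ![0, 0, k + k]) * C.E ![0, 0, k] =
      C.h * C.h * C.h * (C.E ![0, 0, k + k] * C.E ![0, 0, k]) by group, C.h3, one_mul, ← C.E_add,
    show (![0, 0, k + k] + ![0, 0, k] : Fin 3 → ZMod 3) = 0 by clear h; revert k; decide +kernel, C.E_zero]

theorem xk3 (k : ZMod 3) : C.xk k ^ 3 = 1 := by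
  rw [xk, (show Commute (C.E ![0, k, 0]) C.x from (C.x_a2 k).symm).mul_pow, ← C.E_nsmul, pow_succ, pow_two, C.x3,
    show (3 • ![0, k, 0] : Fin 3 → ZMod 3) = 0 by revert k; decide +kernel, C.E_zero, mul_one]

theorem xk_u (k : ZMod 3) : C.xk k * C.u * (C.xk k)⁻¹ = C.E ![-k, 0, k] * C.u * C.c k := by
  rw [xk, show C.E ![0, k, 0] * C.x * C.u * (C.E ![0, k, 0] * C.x)⁻¹ =
      C.E ![0, k, 0] * (C.x * C.u * C.x⁻¹) * (C.E ![0, k, 0])⁻¹ by group, C.xu, ← C.E_neg,
    show C.E ![0, k, 0] * (C.u * C.h) * C.E (-![0, k, 0]) = C.E ![0, k, 0] * (C.u * (C.h * C.E (-![0, k, 0]))) by group,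
    C.conjE' C.h, C.πh, ← mul_assoc C.u, C.uE, c,
    show C.E ![-k, 0, k] * C.u * (C.h * C.E ![0, 0, k]) = C.E ![-k, 0, k] * (C.u * (C.h * C.E ![0, 0, k])) by group,
    C.hE, ← mul_assoc C.u, C.uE, ← mul_assoc, ← mul_assoc, ← C.E_add, ← mul_assoc, ← mul_assoc, ← C.E_add]
  congr 3
  revert k; decide +kernel

theorem s_xk (k : ZMod 3) : C.s * C.xk k * C.s = (C.xk k)⁻¹ := by
  have h := C.sx
  have hE' : C.s * C.E ![0, k, 0] = C.E (-![0, k, 0]) * C.s := by
    rw [C.conjE', C.πs]; congr 2; revert k; decide +kernel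
  rw [xk, ← mul_assoc, hE', show C.E (-![0, k, 0]) * C.s * C.x * C.s = C.E (-![0, k, 0]) * (C.s * C.x * C.s) by group,
    h, C.E_neg, ← mul_inv_rev, C.x_a2]

/-- The elements of `M` commuting with `c`. -/
theorem form (k : ZMod 3) (m : C.M) (hm : m * C.c k = C.c k * m) :
    ∃ (a b : ZMod 3) (e p q r : ℕ), m = C.E ![a, 0, b] * C.s ^ e * C.c k ^ p * C.xk k ^ q * C.u ^ r := by
  have h1 : C.π m * m12 = m12 * C.π m := by rw [← C.π_c k, ← map_mul, ← map_mul, hm]
  obtain ⟨e, p, q, r, hπ⟩ := form_h _ h1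
  set m0 := C.s ^ e * C.c k ^ p * C.xk k ^ q * C.u ^ r with hm0
  have hc0 : Commute m0 (C.c k) :=
    (((show Commute C.s (C.c k) from C.c_s k).pow_left e).mul_left ((Commute.refl (C.c k)).pow_left p)).mul_left
      ((show Commute (C.xk k) (C.c k) from C.xk_c k).pow_left q) |>.mul_left
      ((show Commute C.u (C.c k) from C.c_u k).pow_left r)
  obtain ⟨v, hv⟩ := C.eq_E_mul (m := m) (m' := m0) (by
    rw [hπ, hm0, map_mul, map_mul, map_mul, map_pow, map_pow, map_pow, map_pow, C.πs, C.π_c, C.π_xk, C.πu])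
  have hv' : C.c k * C.E v = C.E v * C.c k := by
    refine (mul_right_cancel (b := m0) ?_)
    calc C.c k * C.E v * m0 = C.c k * m := by rw [hv, mul_assoc]
      _ = C.E v * (m0 * C.c k) := by rw [← hm, hv, mul_assoc]
      _ = C.E v * C.c k * m0 := by rw [hc0.eq, mul_assoc]
  rw [C.conjE', C.π_c] at hv'
  have h2 := C.E_inj (mul_right_cancel hv')
  have key : ∀ v : Fin 3 → ZMod 3, (mat m12) *ᵥ v = v → v = ![v 0, 0, v 2] := by decide +kernel
  exact ⟨v 0, v 2, e, p, q, r, by rw [hv, hm0, ← key v h2]; group⟩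

/-- The centraliser of `c` in `M`. -/
abbrev D (k : ZMod 3) : Subgroup C.M := Subgroup.centralizer ({C.c k} : Set C.M)

theorem memD {k : ZMod 3} {m : C.M} : m ∈ C.D k ↔ m * C.c k = C.c k * m := Subgroup.mem_centralizer_singleton_iff

/-- The centraliser of `c`. -/
abbrev Cc (k : ZMod 3) : Subgroup G := Subgroup.centralizer ({(C.c k : G)} : Set G)

/-- `⟨c⟩`. -/
def Kc (k : ZMod 3) : Subgroup (C.Cc k) :=
  Subgroup.zpowers ⟨C.c k, Subgroup.mem_centralizer_singleton_iff.2 rfl⟩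

instance Kc_normal (k : ZMod 3) : (C.Kc k).Normal where
  conj_mem n hn g := by
    obtain ⟨i, rfl⟩ := hn
    have h : Commute g ⟨(C.c k : G), Subgroup.mem_centralizer_singleton_iff.2 rfl⟩ :=
      Subtype.ext (Subgroup.mem_centralizer_singleton_iff.1 g.2)
    rw [(h.zpow_right i).eq, mul_inv_cancel_right]
    exact ⟨i, rfl⟩

/-- The inclusion of the centraliser in `M`. -/
def incl (k : ZMod 3) : C.D k →* C.Cc k where
  toFun d := ⟨((d : C.M) : G), Subgroup.mem_centralizer_singleton_iff.2 (congrArg Subtype.val (C.memD.1 d.2))⟩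
  map_one' := rfl
  map_mul' _ _ := rfl

/-- Reduction modulo `⟨c⟩`. -/
def f (k : ZMod 3) : C.D k →* C.Cc k ⧸ C.Kc k := (QuotientGroup.mk' (C.Kc k)).comp (C.incl k)

theorem mem_range {k : ZMod 3} {g : C.Cc k} :
    (QuotientGroup.mk g : C.Cc k ⧸ C.Kc k) ∈ (C.f k).range ↔ (g : G) ∈ C.M := by
  constructor
  · rintro ⟨d, hd⟩
    obtain ⟨i, hi⟩ : (C.incl k d)⁻¹ * g ∈ C.Kc k := QuotientGroup.eq.1 hd
    have e : (g : G) = ((d : C.M) : G) * (C.c k : G) ^ i := by
      have := congrArg Subtype.val hi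
      simp only [SubgroupClass.coe_zpow, Subgroup.coe_mul, InvMemClass.coe_inv] at this
      rw [this]
      exact (mul_inv_cancel_left _ _).symm
    rw [e]
    exact mul_mem (d : C.M).2 (zpow_mem (C.c k).2 i)
  · intro hg
    exact ⟨⟨⟨g, hg⟩, C.memD.2 (Subtype.ext (Subgroup.mem_centralizer_singleton_iff.1 g.2))⟩, rfl⟩

theorem f_eq_one [Finite G] {k : ZMod 3} {d : C.D k} (h : C.f k d = 1) :
    ∃ p : ℕ, (d : C.M) = C.c k ^ p := by
  obtain ⟨i, hi⟩ := (QuotientGroup.eq_one_iff _).1 h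
  have h2 : C.c k ^ i = (d : C.M) := Subtype.ext (by simpa [incl] using congrArg Subtype.val hi)
  obtain ⟨p, hp⟩ := mem_powers_iff_mem_zpowers.2 (Subgroup.mem_zpowers_iff.2 ⟨i, h2⟩)
  exact ⟨p, hp.symm⟩

/-- A translation in the centraliser. -/
def dE (k a b : ZMod 3) : C.D k := ⟨C.E ![a, 0, b], C.memD.2 (C.c_E k a b)⟩

/-- The element `u` in the centraliser. -/
def du (k : ZMod 3) : C.D k := ⟨C.u, C.memD.2 (C.c_u k)⟩

/-- The element `s` in the centraliser. -/
def ds (k : ZMod 3) : C.D k := ⟨C.s, C.memD.2 (C.c_s k)⟩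

/-- The element `x` in the centraliser. -/
def dx (k : ZMod 3) : C.D k := ⟨C.xk k, C.memD.2 (C.xk_c k)⟩

/-- The element `c` in the centraliser. -/
def dc (k : ZMod 3) : C.D k := ⟨C.c k, C.memD.2 rfl⟩

theorem f_dc (k : ZMod 3) : C.f k (C.dc k) = 1 :=
  (QuotientGroup.eq_one_iff _).2 (Subgroup.mem_zpowers _)

theorem f_form (k : ZMod 3) (d : C.D k) : ∃ (a b : ZMod 3) (e q r : ℕ),
    C.f k d = C.f k (C.dE k a b) * C.f k (C.ds k) ^ e * C.f k (C.dx k) ^ q * C.f k (C.du k) ^ r := by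
  obtain ⟨a, b, e, p, q, r, h⟩ := C.form k d (C.memD.1 d.2)
  refine ⟨a, b, e, q, r, ?_⟩
  rw [show d = C.dE k a b * C.ds k ^ e * C.dc k ^ p * C.dx k ^ q * C.du k ^ r from Subtype.ext h]
  simp only [map_mul, map_pow, C.f_dc, one_pow, mul_one]

theorem dE_mul (k a b a' b' : ZMod 3) : C.dE k a b * C.dE k a' b' = C.dE k (a + a') (b + b') :=
  Subtype.ext (by
    show C.E ![a, 0, b] * C.E ![a', 0, b'] = C.E ![a + a', 0, b + b']
    rw [← C.E_add]
    simp)

theorem dE_zero (k : ZMod 3) : C.dE k 0 0 = 1 :=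
  Subtype.ext ((congrArg C.E (by decide +kernel : (![0, 0, 0] : Fin 3 → ZMod 3) = 0)).trans C.E_zero)

theorem du_dE (k a b : ZMod 3) : C.du k * C.dE k a b = C.dE k a b * C.du k :=
  Subtype.ext (by
    show C.u * C.E ![a, 0, b] = C.E ![a, 0, b] * C.u
    exact C.commE (by rw [C.πu]; revert a b; decide +kernel))

theorem f_du_pow [Finite G] {k a b : ZMod 3} {i : ℕ} (h : C.f k (C.dE k a b * C.du k ^ i) = 1) :
    a = 0 ∧ b = 0 ∧ C.du k ^ i = 1 := by
  obtain ⟨p, hp⟩ := C.f_eq_one h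
  have h' : C.E ![a, 0, b] * C.u ^ i = C.c k ^ p := hp
  have hu : C.u ^ 3 = 1 := by rw [pow_succ, pow_two, C.u3]
  have hc : C.c k ^ 3 = 1 := by rw [pow_succ, pow_two, C.c3]
  rw [pow_eq_pow_mod i hu, pow_eq_pow_mod p hc] at h'
  have h1 := congrArg C.π h'
  rw [map_mul, map_pow, map_pow, C.π_E, C.π_c, C.πu, one_mul] at h1
  have key : ∀ i p : Fin 3, m32 ^ (i : ℕ) = m12 ^ (p : ℕ) → (i : ℕ) = 0 ∧ (p : ℕ) = 0 := by decide +kernel
  obtain ⟨hi, hp0⟩ := key ⟨i % 3, Nat.mod_lt _ (by norm_num)⟩ ⟨p % 3, Nat.mod_lt _ (by norm_num)⟩ h1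
  dsimp only at hi hp0
  rw [hi, hp0, pow_zero, pow_zero, mul_one, ← C.E_zero] at h'
  have h2 := C.E_inj h'
  refine ⟨congrFun h2 0, congrFun h2 2, Subtype.ext ?_⟩
  rw [SubgroupClass.coe_pow]
  exact (pow_eq_pow_mod i hu).trans (by rw [hi, pow_zero]; rfl)

/-- The abelian part of the centraliser modulo `c`. -/
def abel [Finite G] (k : ZMod 3) : Multiplicative (Fin 3 → ZMod 3) →* C.Cc k ⧸ C.Kc k :=
  MonoidHom.mk' (fun w => C.f k (C.dE k (k * w.toAdd 2) (k * w.toAdd 1) * C.du k ^ (w.toAdd 0).val)) fun v w => by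
    rw [← map_mul]
    congr 1
    have hu : C.du k ^ 3 = 1 := Subtype.ext (by
      rw [SubgroupClass.coe_pow, pow_succ, pow_two]
      exact C.u3)
    have hc : Commute (C.du k ^ (v.toAdd 0).val) (C.dE k (k * w.toAdd 2) (k * w.toAdd 1)) :=
      Commute.pow_left (C.du_dE k _ _) _
    simp only [toAdd_mul, Pi.add_apply]
    calc C.dE k (k * (v.toAdd 2 + w.toAdd 2)) (k * (v.toAdd 1 + w.toAdd 1)) * C.du k ^ (v.toAdd 0 + w.toAdd 0).val
        = (C.dE k (k * v.toAdd 2) (k * v.toAdd 1) * C.dE k (k * w.toAdd 2) (k * w.toAdd 1)) *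
          (C.du k ^ (v.toAdd 0).val * C.du k ^ (w.toAdd 0).val) := by
          rw [C.dE_mul, ← pow_add, ← mul_add, ← mul_add, ZMod.val_add, ← pow_eq_pow_mod _ hu]
      _ = C.dE k (k * v.toAdd 2) (k * v.toAdd 1) * (C.dE k (k * w.toAdd 2) (k * w.toAdd 1) *
          C.du k ^ (v.toAdd 0).val) * C.du k ^ (w.toAdd 0).val := by group
      _ = C.dE k (k * v.toAdd 2) (k * v.toAdd 1) * C.du k ^ (v.toAdd 0).val *
          (C.dE k (k * w.toAdd 2) (k * w.toAdd 1) * C.du k ^ (w.toAdd 0).val) := by rw [← hc.eq]; group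

theorem abel_apply [Finite G] (k i j l : ZMod 3) : C.abel k (Multiplicative.ofAdd ![i, j, l]) =
    C.f k (C.dE k (k * l) (k * j) * C.du k ^ i.val) := rfl

theorem abel_E [Finite G] (k j l : ZMod 3) :
    C.abel k (Multiplicative.ofAdd ![0, j, l]) = C.f k (C.dE k (k * l) (k * j)) := by
  rw [C.abel_apply, ZMod.val_zero, pow_zero, mul_one]

theorem dx_conj_dE (k a b : ZMod 3) : C.dx k * C.dE k a b * (C.dx k)⁻¹ = C.dE k (a + b) b :=
  Subtype.ext (by
    show C.xk k * C.E ![a, 0, b] * (C.xk k)⁻¹ = C.E ![a + b, 0, b]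
    rw [C.conjE, C.π_xk]
    congr 1
    revert a b; decide +kernel)

theorem dx_conj_du (k : ZMod 3) : C.dx k * C.du k * (C.dx k)⁻¹ = C.dE k (-k) k * C.du k * C.dc k :=
  Subtype.ext (C.xk_u k)

theorem ds_conj_dE (k a b : ZMod 3) : C.ds k * C.dE k a b * C.ds k = C.dE k (-a) b :=
  Subtype.ext (by
    show C.s * C.E ![a, 0, b] * C.s = C.E ![-a, 0, b]
    rw [C.conjE', mul_assoc, C.s2, mul_one, C.πs]
    congr 1
    revert a b; decide +kernel)

/-- The wreath configuration modulo `c`. -/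
theorem cent_line [Finite G] {k : ZMod 3} (hk : k ≠ 0) :
    Subgroup.centralizer ({(C.c k : G)} : Set G) ≤ C.M := by
  have hkk : ∀ k : ZMod 3, k ≠ 0 → k * 1 = k ∧ ∀ a : ZMod 3, k * (k * a) = a := by decide +kernel
  obtain ⟨-, hk2⟩ := hkk k hk
  set A := C.abel k with hA
  set X := C.f k (C.dx k) with hX
  set S := C.f k (C.ds k) with hS
  have hS2 : S * S = 1 := by rw [hS, ← map_mul, show C.ds k * C.ds k = 1 from Subtype.ext C.s2, map_one]
  have hrange : A.range ⊔ Subgroup.zpowers X ⊔ Subgroup.zpowers S = (C.f k).range := by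
    refine le_antisymm (sup_le (sup_le ?_ (Subgroup.zpowers_le.2 ⟨_, rfl⟩)) (Subgroup.zpowers_le.2 ⟨_, rfl⟩)) ?_
    · rintro _ ⟨w, rfl⟩
      exact ⟨_, rfl⟩
    · rintro _ ⟨d, rfl⟩
      obtain ⟨a, b, e, q, r, h⟩ := C.f_form k d
      rw [h]
      refine mul_mem (mul_mem (mul_mem (Subgroup.mem_sup_left (Subgroup.mem_sup_left ?_))
        (pow_mem (Subgroup.mem_sup_right (Subgroup.mem_zpowers S)) e))
        (pow_mem (Subgroup.mem_sup_left (Subgroup.mem_sup_right (Subgroup.mem_zpowers X))) q))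
        (pow_mem (Subgroup.mem_sup_left (Subgroup.mem_sup_left ?_)) r)
      · exact ⟨Multiplicative.ofAdd ![0, k * b, k * a], by rw [hA, C.abel_E, hk2, hk2]⟩
      · exact ⟨Multiplicative.ofAdd ![1, 0, 0], by
          rw [hA, C.abel_apply, mul_zero, C.dE_zero, one_mul]
          exact (congrArg (C.f k) (pow_one _))⟩
  let L : Multiplicative (Fin 3 → ZMod 3) →* Multiplicative (Fin 3 → ZMod 3) :=
    MonoidHom.mk' (fun w => Multiplicative.ofAdd ![w.toAdd 0, w.toAdd 1 + w.toAdd 0,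
      w.toAdd 2 + w.toAdd 1 + 2 * w.toAdd 0]) (by decide +kernel)
  have hxact : (MulAut.conj X).toMonoidHom.comp A = A.comp L := by
    refine hom_ext3 ?_ ?_ ?_
    · show X * A (Multiplicative.ofAdd ![1, 0, 0]) * X⁻¹ = A (Multiplicative.ofAdd ![1, 0 + 1, 0 + 0 + 2 * 1])
      rw [hA, C.abel_apply, C.abel_apply, hX, ← map_inv, ← map_mul, ← map_mul, mul_zero, C.dE_zero, one_mul,
        show C.du k ^ (1 : ZMod 3).val = C.du k from pow_one _, C.dx_conj_du, map_mul, C.f_dc, mul_one]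
      have hkey : ∀ k : ZMod 3, -k = k * (0 + 0 + 2 * 1) ∧ k = k * (0 + 1) := by decide +kernel
      congr 3
      · exact (hkey k).1
      · exact (hkey k).2
    · show X * A (Multiplicative.ofAdd ![0, 1, 0]) * X⁻¹ = A (Multiplicative.ofAdd ![0, 1 + 0, 0 + 1 + 2 * 0])
      rw [hA, C.abel_E, C.abel_E, hX, ← map_inv, ← map_mul, ← map_mul, C.dx_conj_dE]
      congr 2 <;> simp
    · show X * A (Multiplicative.ofAdd ![0, 0, 1]) * X⁻¹ = A (Multiplicative.ofAdd ![0, 0 + 0, 1 + 0 + 2 * 0])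
      rw [hA, C.abel_E, C.abel_E, hX, ← map_inv, ← map_mul, ← map_mul, C.dx_conj_dE]
      congr 2 <;> simp
  let w : WreathCfg (C.Cc k ⧸ C.Kc k) :=
    { a := A
      a_inj := by
        rw [injective_iff_map_eq_one]
        intro v hv
        obtain ⟨h1, h2, h3⟩ := C.f_du_pow hv
        have hi : (v.toAdd 0).val = 0 := by
          have hlt := ZMod.val_lt (v.toAdd 0)
          have h4 := congrArg (fun d : C.D k => C.π (d : C.M)) h3
          simp only [SubgroupClass.coe_pow, map_pow, OneMemClass.coe_one, map_one] at h4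
          rw [show C.π (C.du k : C.M) = m32 from C.πu] at h4
          have key : ∀ i : Fin 3, m32 ^ (i : ℕ) = 1 → (i : ℕ) = 0 := by decide +kernel
          exact key ⟨_, hlt⟩ h4
        refine Multiplicative.toAdd.injective (funext fun i => ?_)
        fin_cases i
        · exact (ZMod.val_eq_zero _).1 hi
        · exact (mul_eq_zero.1 h2).resolve_left hk
        · exact (mul_eq_zero.1 h1).resolve_left hk
      x := X
      s := S
      hx3 := by rw [hX, ← map_pow, show C.dx k ^ 3 = 1 from Subtype.ext (C.xk3 k), map_one]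
      hxa := by
        rintro ⟨v, hv⟩
        obtain ⟨p, hp⟩ := C.f_eq_one
          (d := (C.dE k (k * v.toAdd 2) (k * v.toAdd 1) * C.du k ^ (v.toAdd 0).val)⁻¹ * C.dx k)
          (by rw [map_mul, map_inv, inv_mul_eq_one]; exact hv)
        have h1 := congrArg C.π hp
        simp only [Subgroup.coe_mul, InvMemClass.coe_inv, SubgroupClass.coe_pow, map_mul, map_inv, map_pow,
          show C.π (C.dx k : C.M) = m13 from C.π_xk k, show C.π (C.du k : C.M) = m32 from C.πu,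
          show C.π (C.dE k (k * v.toAdd 2) (k * v.toAdd 1) : C.M) = 1 from C.π_E _, C.π_c, one_mul] at h1
        rw [pow_eq_pow_mod p (show m12 ^ 3 = 1 by decide +kernel)] at h1
        have key : ∀ i p : Fin 3, (m32 ^ (i : ℕ))⁻¹ * m13 ≠ m12 ^ (p : ℕ) := by decide +kernel
        exact key ⟨_, ZMod.val_lt (v.toAdd 0)⟩ ⟨p % 3, Nat.mod_lt _ (by norm_num)⟩ h1
      hs2 := hS2
      x_act := fun i j l => DFunLike.congr_fun hxact (Multiplicative.ofAdd ![i, j, l])
      s_act := fun i j l => by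
        have hdu : C.ds k * C.du k * C.ds k = (C.du k)⁻¹ := Subtype.ext C.su
        rw [hA, C.abel_apply, C.abel_apply, hS, ← map_mul, ← map_mul]
        congr 1
        rw [show C.ds k * (C.dE k (k * l) (k * j) * C.du k ^ i.val) * C.ds k =
          (C.ds k * C.dE k (k * l) (k * j) * C.ds k) * ((C.ds k)⁻¹ * C.du k ^ i.val * C.ds k) by group,
          C.ds_conj_dE, mul_neg]
        congr 1
        rw [show (C.ds k)⁻¹ * C.du k ^ i.val * C.ds k = ((C.ds k)⁻¹ * C.du k * C.ds k) ^ i.val by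
            rw [show C.ds k = ((C.ds k)⁻¹)⁻¹ by rw [inv_inv], inv_inv (C.ds k)⁻¹, conj_pow],
          show (C.ds k)⁻¹ = C.ds k from inv_eq_of_mul_eq_one_right (Subtype.ext C.s2), hdu]
        refine Subtype.ext ?_
        rw [SubgroupClass.coe_pow, SubgroupClass.coe_pow, InvMemClass.coe_inv]
        have hu3 : (C.du k : C.M) ^ 3 = 1 := by rw [pow_succ, pow_two]; exact C.u3
        have key : ∀ i : ZMod 3, (2 * i.val) % 3 = (-i).val := by decide +kernel
        rw [← key, ← pow_eq_pow_mod _ hu3, pow_mul]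
        congr 1
        exact inv_eq_of_mul_eq_one_right (by rw [← pow_succ', hu3])
      s_x := by rw [hS, hX, ← map_inv, ← map_mul, ← map_mul]; exact congrArg _ (Subtype.ext (C.s_xk k))
      hy := fun v hv0 hv g hg => by
        rw [hrange] at hg ⊢
        obtain ⟨g, rfl⟩ := QuotientGroup.mk_surjective g
        refine C.mem_range.2 ?_
        have e : v = ![0, v 1, v 2] := by
          funext i; fin_cases i
          · exact hv0
          · rfl
          · rfl
        rw [e, hA, C.abel_E] at hg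
        have h1 : ((g * C.incl k (C.dE k (k * v 2) (k * v 1)) * g⁻¹ : C.Cc k) : G) ∈ C.M := C.mem_range.1 hg
        refine C.key g ![k * v 2, 0, k * v 1] (fun h => hv ?_) h1
        rw [e]
        funext i; fin_cases i
        · rfl
        · exact (mul_eq_zero.1 (congrFun h 2)).resolve_left hk
        · exact (mul_eq_zero.1 (congrFun h 0)).resolve_left hk }
  intro g hg
  have htop := w.eq_top
  exact C.mem_range.1 (hrange ▸ htop ▸ Subgroup.mem_top (QuotientGroup.mk (⟨g, hg⟩ : C.Cc k) : C.Cc k ⧸ C.Kc k))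

end Coord

end Pb

end Cfsg.Agent.Spor.PSLFourThree
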