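import Cfsg.Agent.Lib.Spor.PSLFourThree.Levi
import Cfsg.Agent.Lib.Spor.PSLFourThree.LocSide
import Cfsg.Agent.Lib.Spor.PSLFourThree.Gluing

/-!
A split parabolic subgroup `3³·SL₃(3)` is a maximal parabolic subgroup of `PSL₄(3)`.
-/

set_option autoImplicit false
set_option linter.unusedSectionVars false
set_option linter.style.haveILetI false
set_option maxRecDepth 100000

namespace Cfsg.Agent.Spor.PSLFourThree

open Cfsg.Agent.Lie.CTA Matrix

attribute [local instance] four_even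

local notation "SL4" => Matrix.SpecialLinearGroup (Fin 4) (ZMod 3)
local notation "M4" => Matrix (Fin 4) (Fin 4) (ZMod 3)
local notation "PSL4" => Matrix.ProjectiveSpecialLinearGroup (Fin 4) (ZMod 3)

/-- A block matrix with corner one. -/
def blockM (g : Matrix (Fin 3) (Fin 3) (ZMod 3)) (x : V) : M4 :=
  !![g 0 0, g 0 1, g 0 2, x 0; g 1 0, g 1 1, g 1 2, x 1; g 2 0, g 2 1, g 2 2, x 2; 0, 0, 0, 1]

theorem blockM_det (g : Matrix (Fin 3) (Fin 3) (ZMod 3)) (x : V) : (blockM g x).det = g.det := by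
  simp [blockM, det_succ_row_zero, Fin.sum_univ_succ, Fin.succAbove]

theorem blockM_mul (g h : Matrix (Fin 3) (Fin 3) (ZMod 3)) (x y : V) :
    blockM g x * blockM h y = blockM (g * h) (g *ᵥ y + x) := by
  ext i j
  fin_cases i <;> fin_cases j <;>
    simp [blockM, Matrix.mul_apply, Matrix.mulVec, dotProduct, Fin.sum_univ_four, Fin.sum_univ_three]

/-- A block element. -/
def block (g : L3) (x : V) : SL4 := ⟨blockM g.1 x, by rw [blockM_det, g.2]⟩

theorem block_mul (g h : L3) (x y : V) : block g x * block h y = block (g * h) (g.1 *ᵥ y + x) :=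
  Subtype.ext (blockM_mul _ _ _ _)

theorem block_inj {g h : L3} {x y : V} (e : block g x = block h y) : g = h ∧ x = y := by
  have e' : blockM g.1 x = blockM h.1 y := congrArg Subtype.val e
  refine ⟨Subtype.ext (Matrix.ext fun i j => ?_), funext fun i => ?_⟩
  · have := congrFun (congrFun e' i.castSucc) j.castSucc
    fin_cases i <;> fin_cases j <;> simpa [blockM] using this
  · have := congrFun (congrFun e' i.castSucc) 3
    fin_cases i <;> simpa [blockM] using this

/-- The antidiagonal element. -/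
def rev : L3 := ⟨!![0, 0, 1; 0, -1, 0; 1, 0, 0], by decide⟩

theorem rev_ut : ∀ a b c : ZMod 3, ∀ g : L3, g.1 = !![1, a, b; 0, 1, c; 0, 0, 1] →
    (rev * g * rev⁻¹ ∈ UT) → g = 1 := by
  intro a b c g hg h
  obtain ⟨h1, h2, h3, -⟩ := h
  have e : (rev * g * rev⁻¹).1 = rev.1 * g.1 * rev.1 := by
    rw [Matrix.SpecialLinearGroup.coe_mul, Matrix.SpecialLinearGroup.coe_mul,
      show rev⁻¹ = rev by decide +kernel]
  rw [e, hg] at h1 h2 h3
  simp [rev, Matrix.mul_apply, Fin.sum_univ_three] at h1 h2 h3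
  refine Subtype.ext ?_
  rw [hg, h1, h2, h3]
  ext i j
  fin_cases i <;> fin_cases j <;> simp

theorem card_UT : Nat.card UT = 27 := by
  rw [← show Nat.card (Fin 3 → ZMod 3) = 27 by rw [Nat.card_eq_fintype_card]; rfl]
  refine Nat.card_congr ⟨fun g => ![g.1.1 0 1, g.1.1 0 2, g.1.1 1 2],
    fun v => ⟨⟨!![1, v 0, v 1; 0, 1, v 2; 0, 0, 1], by rw [det_fin_three]; simp⟩, ⟨rfl, rfl, rfl, rfl, rfl, rfl⟩⟩,
    ?_, ?_⟩
  · intro g
    obtain ⟨h1, h2, h3, h4, h5, h6⟩ := g.2
    refine Subtype.ext (Subtype.ext ?_)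
    ext i j
    fin_cases i <;> fin_cases j <;> simp [h1, h2, h3, h4, h5, h6]
  · intro v
    funext i
    fin_cases i <;> simp

/-- A normal `3`-subgroup of `SL₃(3)` is trivial. -/
theorem normal_three_bot (N : Subgroup L3) [hN : N.Normal] (h3 : IsPGroup 3 N) : N = ⊥ := by
  haveI : Fact (Nat.Prime 3) := ⟨Nat.prime_three⟩
  have hi : UT.index = 208 := by
    have h := UT.card_mul_index
    rw [card_UT, card_sl3] at h
    omega
  let U : Sylow 3 L3 := (IsPGroup.of_card (n := 3) (by rw [card_UT]; norm_num)).toSylow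
    (show ¬ 3 ∣ UT.index by rw [hi]; norm_num)
  have hUT : N ≤ UT := by
    obtain ⟨Q, hQ⟩ := h3.exists_le_sylow
    obtain ⟨g, hg⟩ := MulAction.exists_smul_eq L3 Q U
    intro x hx
    have h1 : g⁻¹ * x * g⁻¹⁻¹ ∈ (Q : Subgroup L3) := hQ (hN.conj_mem x hx g⁻¹)
    have h2 : x ∈ ((g • Q : Sylow 3 L3) : Subgroup L3) := by
      rw [Sylow.coe_subgroup_smul, Subgroup.mem_pointwise_smul_iff_inv_smul_mem]
      simpa [MulAut.conj_apply] using h1
    rw [hg] at h2
    exact h2
  rw [eq_bot_iff]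
  intro x hx
  obtain ⟨h1, h2, h3', h4, h5, h6⟩ := hUT hx
  refine rev_ut (x.1 0 1) (x.1 0 2) (x.1 1 2) x ?_ (hUT (hN.conj_mem x hx rev))
  ext i j
  fin_cases i <;> fin_cases j <;> simp [h1, h2, h3', h4, h5, h6]

/-- The swap of the first and last vectors. -/
def swp : SL4 := ⟨!![0, 0, 0, -1; 0, 1, 0, 0; 0, 0, 1, 0; 1, 0, 0, 0], by decide +kernel⟩

theorem swp_conj' (t : ZMod 3) : swp * tv' 0 1 t = tv' 3 1 t * swp ∧ swp * tv' 0 2 t = tv' 3 2 t * swp ∧
    swp * tv' 0 3 t = tv' 3 0 (-t) * swp := by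
  refine ⟨?_, ?_, ?_⟩ <;> refine Subtype.ext ?_ <;>
    rw [Matrix.SpecialLinearGroup.coe_mul, Matrix.SpecialLinearGroup.coe_mul, tv'_val (by decide), tv'_val (by decide)] <;>
    ext i j <;> fin_cases i <;> fin_cases j <;> simp [swp, Matrix.mul_apply, Fin.sum_univ_four, Matrix.single]

theorem swp_conj (t : ZMod 3) : swp * tv' 0 1 t * swp⁻¹ = tv' 3 1 t ∧ swp * tv' 0 2 t * swp⁻¹ = tv' 3 2 t ∧
    swp * tv' 0 3 t * swp⁻¹ = tv' 3 0 (-t) := by
  obtain ⟨a, b, c⟩ := swp_conj' t
  refine ⟨?_, ?_, ?_⟩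
  · rw [a, mul_inv_cancel_right]
  · rw [b, mul_inv_cancel_right]
  · rw [c, mul_inv_cancel_right]

/-- The inverse of the swap. -/
def swpi : SL4 := ⟨!![0, 0, 0, 1; 0, 1, 0, 0; 0, 0, 1, 0; -1, 0, 0, 0], by decide +kernel⟩

theorem swp_swpi : swp.1 * swpi.1 = 1 := by
  ext i j; fin_cases i <;> fin_cases j <;> simp [swp, swpi, Matrix.mul_apply, Fin.sum_univ_four]

theorem swp_inv_eq : swp⁻¹ = swpi := by
  refine inv_eq_of_mul_eq_one_right (Subtype.ext ?_)
  rw [Matrix.SpecialLinearGroup.coe_mul, Matrix.SpecialLinearGroup.coe_one]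
  exact swp_swpi

theorem row_kill : ∀ r : V, ∀ c : ZMod 3, r ≠ 0 → ∃ x : V, r 0 * x 0 + r 1 * x 1 + r 2 * x 2 + c = 0 := by
  decide +kernel

theorem first_row' : ∀ r : V, r ≠ 0 → ∃ g1 g2 : V, (Matrix.of ![r, g1, g2]).det = 1 := by decide +kernel

theorem first_row (r : V) (hr : r ≠ 0) :
    ∃ g : Fin 3 → Fin 3 → ZMod 3, (Matrix.of g).det = 1 ∧ ∀ i, g 0 i = r i := by
  obtain ⟨g1, g2, h⟩ := first_row' r hr
  exact ⟨![r, g1, g2], h, fun _ => rfl⟩

theorem block_tv {i j : Fin 4} (hi : i ≠ 3) (hij : i ≠ j) (t : ZMod 3) (k : Fin 3) :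
    (tv' i j t).1 3 k.castSucc = 0 := by
  rw [tv'_val hij]
  fin_cases k <;> simp [Matrix.add_apply, Matrix.single, hi, Ne.symm hi]

theorem swp_inv_mul_row (h : SL4) (hrow : ∀ j : Fin 4, h.1 3 j = if j = 0 then 1 else 0) (j : Fin 3) :
    (h * swp⁻¹).1 3 j.castSucc = 0 := by
  rw [swp_inv_eq, Matrix.SpecialLinearGroup.coe_mul, Matrix.mul_apply]
  simp [Fin.sum_univ_four, hrow]
  fin_cases j <;> simp [swpi]

theorem neg_one_center : (-1 : SL4) ∈ Subgroup.center SL4 :=
  Matrix.SpecialLinearGroup.mem_center_iff.2 ⟨-1, by decide, by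
    rw [Matrix.SpecialLinearGroup.coe_neg, Matrix.SpecialLinearGroup.coe_one]
    ext i j; by_cases hij : i = j <;> simp [Matrix.scalar, hij]⟩

theorem castSucc_succAbove : Fin.succAbove (3 : Fin 4) = Fin.castSucc := funext (by decide)

theorem neg_one_ne : (-1 : ZMod 3) ≠ 1 := by decide

theorem one_ne_two_zmod : ∀ a : ZMod 3, a ≠ 0 → a = 1 ∨ a = -1 := by decide

theorem sl4_neg_one : (-1 : SL4).1 = -1 := by rw [Matrix.SpecialLinearGroup.coe_neg, Matrix.SpecialLinearGroup.coe_one]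

/-- An element whose last row is a multiple of the last coordinate is a block or minus a block. -/
theorem block_cases {h : SL4} (h0 : h.1 3 0 = 0) (h1 : h.1 3 1 = 0) (h2 : h.1 3 2 = 0) :
    ∃ (g : L3) (x : V), h = block g x ∨ h = -1 * block g x := by
  let N : Matrix (Fin 3) (Fin 3) (ZMod 3) := Matrix.of fun i j => h.1 i.castSucc j.castSucc
  have hdet : h.1.det = h.1 3 3 * N.det := by
    rw [det_succ_row h.1 3]
    simp [Fin.sum_univ_four, h0, h1, h2, N, castSucc_succAbove]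
    rw [show (-1 : ZMod 3) ^ 6 = 1 from rfl, one_mul]
    rfl
  have hne : h.1 3 3 ≠ 0 := fun e => by
    have := h.2
    rw [hdet, e, zero_mul] at this
    exact zero_ne_one this
  rcases one_ne_two_zmod _ hne with e | e
  · refine ⟨⟨N, by have := h.2; rw [hdet, e, one_mul] at this; exact this⟩, fun i => h.1 i.castSucc 3, Or.inl ?_⟩
    refine Subtype.ext ?_
    show h.1 = blockM N (fun i => h.1 i.castSucc 3)
    ext i j
    fin_cases i <;> fin_cases j <;> simp [blockM, N, h0, h1, h2, e]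
  · refine ⟨⟨-N, ?_⟩, fun i => -h.1 i.castSucc 3, Or.inr ?_⟩
    · have := h.2
      rw [hdet, e, neg_one_mul] at this
      rw [det_neg, Fintype.card_fin]
      linear_combination this
    · refine Subtype.ext ?_
      rw [Matrix.SpecialLinearGroup.coe_mul, sl4_neg_one, neg_one_mul]
      show h.1 = -blockM (-N) (fun i => -h.1 i.castSucc 3)
      ext i j
      fin_cases i <;> fin_cases j <;> simp [blockM, N, h0, h1, h2, e]

theorem map_pCore_le {p : ℕ} {X Y : Type*} [Group X] [Group Y] (e : X ≃* Y) :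
    (Cfsg.pCore p X).map e.toMonoidHom ≤ Cfsg.pCore p Y := by
  rw [Subgroup.map_le_iff_le_comap]
  refine sSup_le ?_
  rintro N ⟨hN, hNp⟩
  rw [← Subgroup.map_le_iff_le_comap]
  exact le_sSup ⟨hN.map _ e.surjective, hNp.map _⟩

namespace Side

variable {G : Type*} [Group G] [Finite G] (S : Side G)

/-- The largest normal `3`-subgroup of the parabolic is its radical. -/
theorem pCore_eq : Cfsg.pCore 3 S.M = S.π.ker := by
  haveI : Fact (Nat.Prime 3) := ⟨Nat.prime_three⟩
  refine le_antisymm (sSup_le ?_) (le_sSup ⟨inferInstance, fun x => ⟨1, ?_⟩⟩)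
  · rintro N ⟨hN, hNp⟩
    haveI : (N.map S.π).Normal := hN.map _ S.surj
    exact (N.map_eq_bot_iff).1 (normal_three_bot (N.map S.π) (hNp.map _))
  · obtain ⟨v, hv⟩ := S.exists_v ((S.ker x.1).1 x.2)
    refine Subtype.ext (Subtype.ext ?_)
    show ((x.1 : S.M) : G) ^ (3 ^ 1) = 1
    rw [← hv, pow_one, S.v_cube]

/-- A split parabolic is isomorphic to a maximal parabolic subgroup of `PSL₄(3)`. -/
theorem parabolic_model (hsplit : ∃ U : Subgroup G, U ≤ S.M ∧ U ⊓ S.A = ⊥ ∧ Nat.card U = 27) :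
    ∃ (P : Subgroup (Matrix.ProjectiveSpecialLinearGroup (Fin 4) (ZMod 3))),
      IsCoatom P ∧ Nat.card (Cfsg.pCore 3 P) = 27 ∧
      Nonempty (P ⧸ Cfsg.pCore 3 P ≃* Matrix.SpecialLinearGroup (Fin 3) (ZMod 3)) ∧ Nonempty (S.M ≃* P) := by
  classical
  haveI : Fact (Nat.Prime 3) := ⟨Nat.prime_three⟩
  -- a complement
  obtain ⟨U₀, hUM, hUA, hUc⟩ := hsplit
  let K : Subgroup S.M := S.A.subgroupOf S.M
  have hKker : K = S.π.ker := by ext g; exact (S.ker g).symm
  haveI : K.Normal := hKker ▸ inferInstance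
  haveI : IsMulCommutative K := ⟨⟨fun a b => Subtype.ext (Subtype.ext (S.A_comm a.2 b.2))⟩⟩
  set A' := U₀.subgroupOf S.M with hA'
  set U := (A'.map S.π).comap S.π with hU
  have hA'K : A' ⊓ K = ⊥ := by
    rw [eq_bot_iff]
    rintro g ⟨h1, h2⟩
    exact Subtype.ext (Subgroup.mem_bot.1 (hUA ▸ (⟨h1, h2⟩ : (g : G) ∈ U₀ ⊓ S.A)))
  have hUeq : K ⊔ A' = U := by rw [hU, Subgroup.comap_map_eq, hKker, sup_comm]
  have hmc : Nat.card (A'.map S.π) = 27 := by
    rw [← hUc, ← Nat.card_congr (Subgroup.subgroupOfEquivOfLe hUM).toEquiv]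
    refine (Nat.card_congr (Equiv.ofBijective (fun g : A' => (⟨S.π g.1, ⟨_, g.2, rfl⟩⟩ : A'.map S.π)) ⟨?_, ?_⟩)).symm
    · intro g h e
      have e' : S.π g.1 = S.π h.1 := congrArg Subtype.val e
      have h1 : (g.1 * h.1⁻¹ : S.M) ∈ A' ⊓ K := ⟨A'.mul_mem g.2 (A'.inv_mem h.2),
        hKker ▸ (MonoidHom.mem_ker.2 (by rw [map_mul, map_inv, e', mul_inv_cancel]))⟩
      rw [hA'K, Subgroup.mem_bot, mul_inv_eq_one] at h1
      exact Subtype.ext h1
    · rintro ⟨_, g, hg, rfl⟩
      exact ⟨⟨g, hg⟩, rfl⟩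
  have hKc : Nat.card K = 27 := by
    rw [Nat.card_congr (Subgroup.subgroupOfEquivOfLe S.le).toEquiv, S.card_A]
  have hcop : (Nat.card K).Coprime U.index := by
    have h := (A'.map S.π).card_mul_index
    rw [hmc, card_sl3] at h
    rw [hKc, hU, Subgroup.index_comap_of_surjective _ S.surj, show (A'.map S.π).index = 208 by omega]
    norm_num
  obtain ⟨H, hH⟩ := S0051.result K U (hUeq ▸ le_sup_left) hcop A' (hUeq ▸ le_sup_right) hA'K hUeq
  have hbij : Function.Bijective (S.π.comp H.subtype) := by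
    constructor
    · refine (injective_iff_map_eq_one _).2 fun g hg => ?_
      have : (g : S.M) ∈ K ⊓ H := ⟨(S.ker g).1 hg, g.2⟩
      rw [hH.disjoint.eq_bot] at this
      exact Subtype.ext this
    · intro x
      obtain ⟨g, hg⟩ := S.surj x
      obtain ⟨⟨k, h⟩, e⟩ := hH.2 g
      refine ⟨h, ?_⟩
      show S.π (h : S.M) = x
      rw [← hg, ← e, map_mul, (S.ker _).2 k.2, one_mul]
  let s : L3 →* S.M := H.subtype.comp (MulEquiv.ofBijective _ hbij).symm.toMonoidHom
  have hsπ : ∀ x, S.π (s x) = x := fun x => (MulEquiv.ofBijective _ hbij).apply_symm_apply x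
  -- coordinates
  have hco : ∀ m : S.M, ∃ x, (m : G) = S.v x * (s (S.π m) : G) := fun m => S.eq_mul_v (hsπ (S.π m)).symm
  choose cx hcx using hco
  have hcx_mul : ∀ m n, cx (m * n) = (S.π m).1 *ᵥ cx n + cx m := by
    intro m n
    refine S.v_inj (mul_right_cancel (b := (s (S.π (m * n)) : G)) ?_)
    rw [← hcx]
    have h1 := S.act' (s (S.π m)) (cx n)
    rw [hsπ] at h1
    rw [add_comm, S.v_add, ← h1]
    show (m : G) * n = _
    rw [hcx m, hcx n, map_mul, map_mul, Subgroup.coe_mul]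
    group
  let Φ : S.M →* SL4 := MonoidHom.mk' (fun m => block (S.π m) (cx m)) fun m n => by
    rw [block_mul, ← map_mul, hcx_mul]
  let f : S.M →* PSL4 := (QuotientGroup.mk' _).comp Φ
  have hfinj : Function.Injective f := by
    refine (injective_iff_map_eq_one f).2 fun m hm => ?_
    have hm' : Φ m ∈ Subgroup.center SL4 := (QuotientGroup.eq_one_iff _).1 hm
    rcases center_cases hm' with e | e
    · have e1 : block (S.π m) (cx m) = block 1 0 := by
        refine e.trans (Subtype.ext ?_)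
        show (1 : M4) = blockM 1 0
        ext i j
        fin_cases i <;> fin_cases j <;> simp [blockM]
      obtain ⟨e2, e3⟩ := block_inj e1
      refine Subtype.ext ?_
      rw [hcx m, e3, e2, S.v_zero, map_one, one_mul]
    · exfalso
      have e1 : (blockM (S.π m).1 (cx m)) 3 3 = (-1 : SL4).1 3 3 := congrArg (fun h : SL4 => h.1 3 3) e
      rw [sl4_neg_one] at e1
      simp [blockM] at e1
      exact neg_one_ne e1.symm
  have hblockP : ∀ g x, (QuotientGroup.mk (block g x) : PSL4) ∈ f.range := by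
    intro g x
    have hm : S.v x * (s g : G) ∈ S.M := S.M.mul_mem (S.le (S.v_mem _)) (s g).2
    refine ⟨⟨_, hm⟩, ?_⟩
    have hπ : S.π ⟨_, hm⟩ = g := by
      rw [show (⟨_, hm⟩ : S.M) = ⟨S.v x, S.le (S.v_mem _)⟩ * s g from rfl, map_mul, (S.ker _).2 (S.v_mem x),
        one_mul, hsπ]
    have hx := hcx ⟨_, hm⟩
    rw [hπ] at hx
    show (QuotientGroup.mk (block (S.π ⟨_, hm⟩) (cx ⟨_, hm⟩)) : PSL4) = _
    rw [hπ, ← S.v_inj (mul_right_cancel hx)]
  refine ⟨f.range, ⟨?_, ?_⟩, ?_⟩
  · -- proper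
    intro htop
    obtain ⟨m, hm⟩ : (QuotientGroup.mk swp : PSL4) ∈ f.range := htop ▸ Subgroup.mem_top _
    have hc : (Φ m)⁻¹ * swp ∈ Subgroup.center SL4 := QuotientGroup.eq.1 hm
    have e : swp = Φ m * ((Φ m)⁻¹ * swp) := by group
    have e0 : swp.1 3 0 = 0 := by
      rw [e]
      rcases center_cases hc with h | h <;> rw [h, Matrix.SpecialLinearGroup.coe_mul]
      · show ((blockM (S.π m).1 (cx m)) * (1 : M4)) 3 0 = 0
        simp [blockM]
      · rw [sl4_neg_one]
        show ((blockM (S.π m).1 (cx m)) * (-1 : M4)) 3 0 = 0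
        simp [blockM]
    exact absurd e0 (by simp [swp])
  · -- maximal
    intro Q hQ
    obtain ⟨hle, q, hqQ, hq⟩ := SetLike.lt_iff_le_and_exists.1 hQ
    obtain ⟨h, rfl⟩ := QuotientGroup.mk_surjective q
    set H4 : Subgroup SL4 := Q.comap (QuotientGroup.mk' _) with hH4
    have hb : ∀ g x, block g x ∈ H4 := fun g x => hle (hblockP g x)
    have hneg : (-1 : SL4) ∈ H4 := by
      show (QuotientGroup.mk (-1 : SL4) : PSL4) ∈ Q
      rw [(QuotientGroup.eq_one_iff _).2 neg_one_center]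
      exact Q.one_mem
    have hrow : (fun i : Fin 3 => h.1 3 i.castSucc) ≠ 0 := by
      intro e
      obtain ⟨g, x, hh⟩ := block_cases (congrFun e 0) (congrFun e 1) (congrFun e 2)
      rcases hh with hh | hh
      · exact hq (hh ▸ hblockP g x)
      · refine hq ?_
        rw [hh, QuotientGroup.mk_mul, (QuotientGroup.eq_one_iff _).2 neg_one_center, one_mul]
        exact hblockP g x
    obtain ⟨g0, hg0d, hg0⟩ := first_row _ hrow
    let gi : L3 := (⟨Matrix.of g0, hg0d⟩ : L3)
    obtain ⟨x, hx⟩ := row_kill _ (h.1 3 3) hrow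
    set h' := h * (block gi⁻¹ x) with hh'
    have hh'H : h' ∈ H4 := H4.mul_mem hqQ (hb _ _)
    have hrow' : ∀ j : Fin 4, h'.1 3 j = if j = 0 then 1 else 0 := by
      have hmulrow : ∀ i : Fin 3, ∑ k : Fin 3, h.1 3 k.castSucc * (gi⁻¹).1 k i = if i = 0 then 1 else 0 := by
        intro i
        have e1 : gi.1 * (gi⁻¹).1 = 1 := by
          rw [← Matrix.SpecialLinearGroup.coe_mul, mul_inv_cancel, Matrix.SpecialLinearGroup.coe_one]
        have e2 := congrFun (congrFun e1 0) i
        rw [Matrix.mul_apply] at e2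
        rw [show (if i = 0 then (1 : ZMod 3) else 0) = (1 : Matrix (Fin 3) (Fin 3) (ZMod 3)) 0 i by
          rw [Matrix.one_apply]; simp [eq_comm], ← e2]
        exact Finset.sum_congr rfl fun k _ => by rw [show gi.1 0 k = h.1 3 k.castSucc from hg0 k]
      intro j
      rw [hh', Matrix.SpecialLinearGroup.coe_mul, Matrix.mul_apply]
      have p0 := hmulrow 0
      have p1 := hmulrow 1
      have p2 := hmulrow 2
      simp [Fin.sum_univ_three] at p0 p1 p2 hx
      fin_cases j <;> simp [Fin.sum_univ_four, block, blockM] <;>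
        first
          | linear_combination p0
          | linear_combination p1
          | linear_combination p2
          | linear_combination hx
    have hsw : swp ∈ H4 := by
      have e := swp_inv_mul_row h' hrow'
      obtain ⟨g, x', hc⟩ := block_cases (e 0) (e 1) (e 2)
      have hmem : h' * swp⁻¹ ∈ H4 := by
        rcases hc with hc | hc <;> rw [hc]
        · exact hb _ _
        · exact H4.mul_mem hneg (hb _ _)
      have := H4.mul_mem (H4.inv_mem hmem) hh'H
      rwa [show (h' * swp⁻¹)⁻¹ * h' = swp by group] at this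
    have htv : ∀ i j : Fin 4, i ≠ j → ∀ t, tv' i j t ∈ H4 := by
      have htop : ∀ i j : Fin 4, i ≠ 3 → i ≠ j → ∀ t, tv' i j t ∈ H4 := by
        intro i j hi hij t
        obtain ⟨g, x', hc⟩ := block_cases (block_tv hi hij t 0) (block_tv hi hij t 1) (block_tv hi hij t 2)
        rcases hc with hc | hc <;> rw [hc]
        · exact hb _ _
        · exact H4.mul_mem hneg (hb _ _)
      intro i j hij t
      by_cases hi : i = 3
      · subst hi
        obtain ⟨c1, c2, c3⟩ := swp_conj t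
        obtain ⟨-, -, c3'⟩ := swp_conj (-t)
        fin_cases j
        · have := H4.mul_mem (H4.mul_mem hsw (htop 0 3 (by decide) (by decide) (-t))) (H4.inv_mem hsw)
          rwa [c3', neg_neg] at this
        · have := H4.mul_mem (H4.mul_mem hsw (htop 0 1 (by decide) (by decide) t)) (H4.inv_mem hsw)
          rwa [c1] at this
        · have := H4.mul_mem (H4.mul_mem hsw (htop 0 2 (by decide) (by decide) t)) (H4.inv_mem hsw)
          rwa [c2] at this
        · exact absurd rfl hij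
      · exact htop i j hi hij t
    have hH4top : H4 = ⊤ := by
      rw [eq_top_iff, ← Cfsg.Agent.Classical.sl_closure_transvections (F := ZMod 3) (ι := Fin 4),
        Subgroup.closure_le]
      rintro _ ⟨i, j, hij, t, rfl⟩
      have := htv i j hij t
      simpa [tv', hij] using this
    rw [eq_top_iff]
    intro y _
    obtain ⟨y, rfl⟩ := QuotientGroup.mk_surjective y
    exact (hH4top ▸ Subgroup.mem_top y : y ∈ H4)
  · -- structure
    let eM : S.M ≃* f.range := MonoidHom.ofInjective hfinj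
    have hcore : (Cfsg.pCore 3 S.M).map eM.toMonoidHom = Cfsg.pCore 3 f.range := by
      refine le_antisymm (map_pCore_le eM) fun y hy => ?_
      exact ⟨eM.symm y, map_pCore_le eM.symm ⟨y, hy, rfl⟩, eM.apply_symm_apply y⟩
    refine ⟨?_, ⟨?_⟩, ⟨eM⟩⟩
    · rw [← hcore, Subgroup.card_map_of_injective (f := eM.toMonoidHom) eM.injective, S.pCore_eq, ← hKker, hKc]
    · exact (QuotientGroup.congr (Cfsg.pCore 3 S.M) (Cfsg.pCore 3 f.range) eM hcore).symm.trans
        ((QuotientGroup.quotientMulEquivOfEq S.pCore_eq).trans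
          (QuotientGroup.quotientKerEquivOfSurjective S.π S.surj))

end Side

end Cfsg.Agent.Spor.PSLFourThree
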