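import Cfsg.Agent.Lib.Spor.PSLFourThree.ParabolicInvol
import Cfsg.Agent.Lib.Spor.PSLFourThree.ParabolicModel
import Cfsg.Agent.Lib.Spor.PSLFourThree.PSLBranch

/-!
# The parabolic alternative is a maximal parabolic subgroup of `PSL₄(3)`
-/

set_option autoImplicit false
set_option linter.unusedSectionVars false
set_option maxRecDepth 100000

namespace Cfsg.Agent.Spor.PSLFourThree

open Matrix

local notation "SL3" => Matrix.SpecialLinearGroup (Fin 3) (ZMod 3)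

namespace Pb

theorem word_inj : ∀ a b c : Fin 3, (m12 ^ (a : ℕ) * m13 ^ (b : ℕ) * m32 ^ (c : ℕ) : SL3) = 1 →
    a = 0 ∧ b = 0 ∧ c = 0 := by decide +kernel

theorem word_pairs : ∀ a b c a' b' c' : Fin 3, (m12 ^ (a : ℕ) * m13 ^ (b : ℕ) * m32 ^ (c : ℕ) : SL3) =
    m12 ^ (a' : ℕ) * m13 ^ (b' : ℕ) * m32 ^ (c' : ℕ) → a = a' ∧ b = b' ∧ c = c' := by decide +kernel

namespace Coord

variable {G : Type*} [Group G] [Finite G] (C : Coord G)

theorem pow_mod_three {g : C.M} (h : g * g * g = 1) (n : ℕ) : g ^ n = g ^ (n % 3) :=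
  pow_eq_pow_mod n (by rw [pow_succ, pow_two, h])

/-- A word in the root elements. -/
def word (p : Fin 3 × Fin 3 × Fin 3) : C.M := C.h ^ (p.1 : ℕ) * C.x ^ (p.2.1 : ℕ) * C.u ^ (p.2.2 : ℕ)

theorem word_nat (a b c : ℕ) : ∃ p, C.h ^ a * C.x ^ b * C.u ^ c = C.word p :=
  ⟨(⟨a % 3, Nat.mod_lt _ (by norm_num)⟩, ⟨b % 3, Nat.mod_lt _ (by norm_num)⟩, ⟨c % 3, Nat.mod_lt _ (by norm_num)⟩), by
    rw [word, C.pow_mod_three C.h3 a, C.pow_mod_three C.x3 b, C.pow_mod_three C.u3 c]⟩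

/-- The group generated by the root elements. -/
theorem exists_split : ∃ U : Subgroup G, U ≤ C.M ∧ U ⊓ C.e.range = ⊥ ∧ Nat.card U = 27 := by
  have hux : C.u * C.x = C.h ^ 2 * C.x * C.u := by
    have e : C.x * C.u = C.u * C.h * C.x := by rw [← C.xu]; group
    have hh : C.h ^ 2 = C.h⁻¹ := eq_inv_of_mul_eq_one_left (by rw [pow_two, C.h3])
    rw [hh, mul_assoc C.h⁻¹, e, C.hu.symm]
    group
  have hux' : ∀ b : ℕ, C.u * C.x ^ b = C.h ^ (2 * b) * C.x ^ b * C.u := by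
    intro b
    induction b with
    | zero => simp
    | succ n ih =>
      rw [pow_succ, ← mul_assoc, ih, mul_assoc _ C.u C.x, hux]
      have hc : C.x ^ n * C.h ^ 2 = C.h ^ 2 * C.x ^ n :=
        (((show Commute C.h C.x from C.hx).pow_pow 2 n).symm).eq
      rw [show C.h ^ (2 * n) * C.x ^ n * (C.h ^ 2 * C.x * C.u) = C.h ^ (2 * n) * (C.x ^ n * C.h ^ 2) * C.x * C.u by
        group, hc, show 2 * (n + 1) = 2 * n + 2 by ring, pow_add C.h]
      group
  set W : Subgroup C.M := Subgroup.closure {C.h, C.x, C.u}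
  have gen_step : ∀ g ∈ ({C.h, C.x, C.u} : Set C.M), ∀ p, ∃ q, g * C.word p = C.word q := by
    intro g hg p
    simp only [Set.mem_insert_iff, Set.mem_singleton_iff] at hg
    have hxh : C.x * C.h ^ (p.1 : ℕ) = C.h ^ (p.1 : ℕ) * C.x :=
      ((show Commute C.h C.x from C.hx).pow_left _).eq.symm
    have huh : C.u * C.h ^ (p.1 : ℕ) = C.h ^ (p.1 : ℕ) * C.u :=
      ((show Commute C.h C.u from C.hu).pow_left _).eq.symm
    rcases hg with rfl | rfl | rfl
    · obtain ⟨q, hq⟩ := C.word_nat ((p.1 : ℕ) + 1) p.2.1 p.2.2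
      exact ⟨q, by rw [← hq, word, pow_succ']; group⟩
    · obtain ⟨q, hq⟩ := C.word_nat p.1 ((p.2.1 : ℕ) + 1) p.2.2
      refine ⟨q, ?_⟩
      rw [← hq, word, ← mul_assoc, ← mul_assoc, hxh, pow_succ']
      group
    · obtain ⟨q, hq⟩ := C.word_nat ((p.1 : ℕ) + 2 * (p.2.1 : ℕ)) p.2.1 ((p.2.2 : ℕ) + 1)
      refine ⟨q, ?_⟩
      rw [← hq, word, ← mul_assoc, ← mul_assoc, huh, mul_assoc (C.h ^ (p.1 : ℕ)) C.u, hux', pow_add, pow_succ']
      group
  have hW : ∀ g ∈ W, ∃ p, g = C.word p := by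
    intro g hg
    induction hg using Subgroup.closure_induction_left with
    | one => exact ⟨0, by simp [word]⟩
    | mul_left a ha y _ ih =>
      obtain ⟨p, rfl⟩ := ih
      exact gen_step a ha p
    | inv_mul_cancel a ha y _ ih =>
      obtain ⟨p, rfl⟩ := ih
      have ha3 : a * a * a = 1 := by
        simp only [Set.mem_insert_iff, Set.mem_singleton_iff] at ha
        rcases ha with rfl | rfl | rfl
        · exact C.h3
        · exact C.x3
        · exact C.u3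
      obtain ⟨q, hq⟩ := gen_step a ha p
      obtain ⟨q', hq'⟩ := gen_step a ha q
      exact ⟨q', by rw [inv_eq_of_mul_eq_one_right (show a * (a * a) = 1 by rw [← mul_assoc, ha3]), mul_assoc, hq, hq']⟩
  have hπ : ∀ p, C.π (C.word p) = m12 ^ (p.1 : ℕ) * m13 ^ (p.2.1 : ℕ) * m32 ^ (p.2.2 : ℕ) := fun p => by
    rw [word, map_mul, map_mul, map_pow, map_pow, map_pow, C.πh, C.πx, C.πu]
  have hmem : ∀ p, C.word p ∈ W := fun p =>
    mul_mem (mul_mem (pow_mem (Subgroup.subset_closure (by simp)) _) (pow_mem (Subgroup.subset_closure (by simp)) _))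
      (pow_mem (Subgroup.subset_closure (by simp)) _)
  refine ⟨W.map C.M.subtype, Subgroup.map_subtype_le _, ?_, ?_⟩
  · rw [eq_bot_iff]
    rintro _ ⟨⟨g, hg, rfl⟩, hgN⟩
    obtain ⟨p, rfl⟩ := hW g hg
    obtain ⟨h1, h2, h3⟩ := word_inj _ _ _ ((hπ p).symm.trans ((C.ker _).2 hgN))
    rw [Subgroup.mem_bot, show C.word p = 1 by simp [word, h1, h2, h3]]
    rfl
  · rw [Subgroup.card_map_of_injective C.M.subtype_injective]
    let e : Fin 3 × Fin 3 × Fin 3 → W := fun p => ⟨C.word p, hmem p⟩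
    have he : Function.Bijective e := by
      refine ⟨fun p q h => ?_, fun g => ?_⟩
      · have h' := congrArg C.π (congrArg Subtype.val h)
        simp only [e, hπ] at h'
        obtain ⟨h1, h2, h3⟩ := word_pairs _ _ _ _ _ _ h'
        exact Prod.ext h1 (Prod.ext h2 h3)
      · obtain ⟨p, hp⟩ := hW g.1 g.2
        exact ⟨p, Subtype.ext hp.symm⟩
    rw [← Nat.card_congr (Equiv.ofBijective e he)]
    simp [Nat.card_eq_fintype_card]

end Coord

end Pb

/-- The parabolic alternative. -/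
theorem Loc.Par.model {G : Type*} [Group G] [Finite G] {T : Loc G} {N : Subgroup G} (hP : T.Par N) :
    ∃ (P : Subgroup (Matrix.ProjectiveSpecialLinearGroup (Fin 4) (ZMod 3))),
      IsCoatom P ∧ Nat.card (Cfsg.pCore 3 P) = 27 ∧
      Nonempty (P ⧸ Cfsg.pCore 3 P ≃* Matrix.SpecialLinearGroup (Fin 3) (ZMod 3)) ∧ Nonempty (G ≃* P) := by
  obtain ⟨g, hg, hy⟩ := hP.pair
  obtain ⟨S, hSA, hSM, -⟩ := exists_side T hP.nat hg hy
  obtain ⟨C, hC, hCe⟩ := hP.exists_coord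
  obtain ⟨U, hU1, hU2, hU3⟩ := C.exists_split
  obtain ⟨P, h1, h2, h3, ⟨e⟩⟩ := S.parabolic_model ⟨U, by rw [hSM, ← hC]; exact hU1, by rw [hSA, ← hCe]; exact hU2, hU3⟩
  exact ⟨P, h1, h2, h3,
    ⟨(Subgroup.topEquiv.symm.trans (MulEquiv.subgroupCongr (hSM.trans hP.normalizer_top).symm)).trans e⟩⟩

end Cfsg.Agent.Spor.PSLFourThree
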