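import Cfsg.Agent.Lib.Spor.PSLFourThree.Parabolic

/-!
The parabolic alternative: if `N(N)` contains the centralisers of its involutions, it is the whole group
(it would be strongly embedded, and `M ∩ M^j` would have too large an odd order).
-/

set_option autoImplicit false
set_option linter.unusedSectionVars false
set_option maxHeartbeats 800000

namespace Cfsg.Agent.Spor.PSLFourThree

local notation "SL2" => Matrix.SpecialLinearGroup (Fin 2) (ZMod 3)

theorem neg_one_facts : (-1 : SL2) ≠ 1 ∧ (-1 : SL2) * -1 = 1 ∧ (-1 : SL2) * -1 * -1 = -1 := by decide +kernel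

namespace Loc

namespace Par

variable {G : Type*} [Group G] [Finite G] {T : Loc G} {N : Subgroup G}

/-- (c) The parabolic alternative: `N(N)` is the whole group. -/
theorem eq_top (hP : T.Par N)
    (h : ∀ t ∈ Subgroup.normalizer (N : Set G), t * t = 1 → t ≠ 1 →
      Subgroup.centralizer ({t} : Set G) ≤ Subgroup.normalizer (N : Set G)) :
    Subgroup.normalizer (N : Set G) = ⊤ := by
  classical
  set M := Subgroup.normalizer (N : Set G) with hM
  by_contra hne
  obtain ⟨hn1, hn2, hn3⟩ := neg_one_facts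
  have hN := hP.nat
  -- the involution of `C`
  obtain ⟨c, hc⟩ := T.ρsurj (-1)
  have hc6 : (c * c) * (c * c) * (c * c) = 1 := Subtype.ext (by
    have h2 : ((c * c : T.C) : G) ∈ T.Q := (T.ρker _).1 (by rw [map_mul, hc, hn2])
    simpa using T.cube_iff h2)
  set tC := c * c * c with htC
  have htC2 : tC * tC = 1 := by rw [htC, ← hc6]; group
  have htρ : T.ρ tC = -1 := by rw [htC, map_mul, map_mul, hc, hn3]
  set t : G := (tC : G) with ht
  have ht2 : t * t = 1 := by rw [ht, ← Subgroup.coe_mul, htC2, Subgroup.coe_one]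
  have ht1 : t ≠ 1 := fun e => hn1 (by
    rw [← htρ, show tC = 1 from Subtype.ext e, map_one])
  have htM : t ∈ M := hP.norm_C tC.2
  have htfix : ∀ n ∈ N, t * n = n * t → n ∈ T.toPre.Z := by
    intro n hn hcomm
    refine (T.bar_eq_one (a := ⟨n, hN.le_Q hn⟩)).1 ?_
    set v := T.bar ⟨n, hN.le_Q hn⟩
    have e : T.act (-1) v = v := by
      rw [← htρ, T.act_bar]
      refine congrArg T.bar (Subtype.ext ?_)
      show t * n * t⁻¹ = n
      rw [hcomm, mul_inv_cancel_right]
    rw [T.inverts v] at e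
    have h2 : v * v = 1 := by
      conv_lhs => lhs; rw [← e]
      exact inv_mul_cancel v
    have h3 := T.V_cube v
    rw [pow_succ, pow_two, h2, one_mul] at h3
    exact h3
  have hsame : ∀ g x : G, g * g = 1 → x * x = 1 → x ≠ 1 → x ∈ M → g * x * g ∈ M → g ∈ M := by
    intro g x hg hx hx1 hxM hgx
    have hgi : g⁻¹ = g := inv_eq_of_mul_eq_one_right hg
    have hsq : g * x * g * (g * x * g) = 1 := by
      rw [show g * x * g * (g * x * g) = g * x * (g * g) * x * g by group, hg, mul_one, mul_assoc g x x, hx,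
        mul_one, hg]
    have hne1 : g * x * g ≠ 1 := fun e => hx1 (by
      have := congrArg (fun y => g * y * g) e
      simpa [mul_assoc, ← mul_assoc g g, hg] using this)
    obtain ⟨m, hm, hmx⟩ := hP.invol_conj hxM hx hx1 hgx hsq hne1
    have hcent : m⁻¹ * g ∈ Subgroup.centralizer ({x} : Set G) := by
      rw [Subgroup.mem_centralizer_singleton_iff]
      calc m⁻¹ * g * x = m⁻¹ * (g * x * g) * g⁻¹ := by group
        _ = m⁻¹ * (m * x * m⁻¹) * g := by rw [hmx, hgi]
        _ = x * (m⁻¹ * g) := by group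
    have := mul_mem hm (h x hxM hx hx1 hcent)
    simpa using this
  -- an involution outside
  obtain ⟨j, hj2, hjM⟩ : ∃ j, j * j = 1 ∧ j ∉ M := by
    by_contra hcon
    push Not at hcon
    obtain ⟨n, hn, hnZ⟩ : ∃ n ∈ N, n ∉ T.toPre.Z := by
      by_contra hcon'
      push Not at hcon'
      have := Subgroup.card_le_of_le (show N ≤ T.toPre.Z from hcon')
      rw [hN.card, T.card_Z] at this
      omega
    refine hne (eq_top_iff.2 fun g _ => ?_)
    have hw : com t n ∈ N := by
      have := mul_mem ((Subgroup.mem_normalizer_iff.1 htM n).1 hn) (inv_mem hn)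
      simpa [com] using this
    have hw1 : com t n ≠ 1 := fun e => hnZ (htfix n hn (Pre.com_eq_one_iff.1 e))
    refine hP.mem_of_conj hw hw1 ?_
    have e : g * com t n * g⁻¹ = g * t * g⁻¹ * (g * n * t * (g * n)⁻¹) := by
      have hti : t⁻¹ = t := inv_eq_of_mul_eq_one_right ht2
      rw [show com t n = t * n * t⁻¹ * n⁻¹ from rfl, hti]
      group
    rw [e]
    have hinv : ∀ y : G, y * t * y⁻¹ * (y * t * y⁻¹) = 1 := fun y => by
      rw [show y * t * y⁻¹ * (y * t * y⁻¹) = y * (t * t) * y⁻¹ by group, ht2]; group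
    exact mul_mem (hcon _ (hinv g)) (hcon _ (hinv (g * n)))
  -- involutions outside are conjugate to `t`
  have hconj : ∀ j, j * j = 1 → j ∉ M → IsConj t j := by
    intro j hj hjM
    set x := t * j with hx
    have hti : t⁻¹ = t := inv_eq_of_mul_eq_one_right ht2
    have hji : j⁻¹ = j := inv_eq_of_mul_eq_one_right hj
    have htx : t * x * t⁻¹ = x⁻¹ := by
      rw [hx, mul_inv_rev, hti, hji, ← mul_assoc t t j, ht2, one_mul]
    have htxk : ∀ k : ℕ, t * x ^ k * t⁻¹ = (x ^ k)⁻¹ := fun k => by
      rw [← conj_pow, htx, inv_pow]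
    rcases Nat.even_or_odd (orderOf x) with ⟨k, hk⟩ | ⟨k, hk⟩
    · exfalso
      have hk0 : k ≠ 0 := by
        intro e
        have := orderOf_pos x
        omega
      set i := x ^ k with hi
      have hi2 : i * i = 1 := by rw [hi, ← pow_add, ← hk, pow_orderOf_eq_one]
      have hi1 : i ≠ 1 := fun e => by
        have := Nat.le_of_dvd (Nat.pos_of_ne_zero hk0) (orderOf_dvd_of_pow_eq_one e)
        omega
      have hit : t * i = i * t := by
        have e := htxk k
        rw [← hi, show i⁻¹ = i from inv_eq_of_mul_eq_one_right hi2] at e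
        calc t * i = t * i * t⁻¹ * t := by group
          _ = i * t := by rw [e]
      have hiM : i ∈ M := h t htM ht2 ht1 (Subgroup.mem_centralizer_singleton_iff.2 hit.symm)
      refine hjM (h i hiM hi2 hi1 (Subgroup.mem_centralizer_singleton_iff.2 ?_))
      have hxi : x * i = i * x := ((Commute.refl x).pow_right k).eq
      have hjx : j = t * x := by rw [hx, ← mul_assoc, ht2, one_mul]
      rw [hjx, mul_assoc, hxi, ← mul_assoc, hit, mul_assoc]
    · refine isConj_iff.2 ⟨x ^ k, ?_⟩
      have e : x ^ k * x ^ k = x⁻¹ := by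
        refine eq_inv_of_mul_eq_one_left ?_
        rw [← pow_add, ← pow_succ, ← two_mul, ← hk, pow_orderOf_eq_one]
      calc x ^ k * t * (x ^ k)⁻¹ = x ^ k * t * (t * x ^ k * t⁻¹) := by rw [htxk]
        _ = x ^ k * (t * t) * x ^ k * t⁻¹ := by group
        _ = x⁻¹ * t := by rw [ht2, mul_one, e, hti]
        _ = j := by rw [hx, mul_inv_rev, hti, hji, mul_assoc, ht2, mul_one]
  have hCt : Subgroup.centralizer ({t} : Set G) ≤ M := h t htM ht2 ht1
  -- the order of `M` and of the centraliser of `t`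
  obtain ⟨g, hg, hy⟩ := hP.pair
  obtain ⟨e', π, hπs, hπk, -, -⟩ := T.side hN hg hy
  have hMcard : Nat.card M = 151632 := by
    have h1 := π.ker.card_eq_card_quotient_mul_card_subgroup
    rw [Nat.card_congr (QuotientGroup.quotientKerEquivOfSurjective π hπs).toEquiv, hπk, card_sl3,
      Nat.card_congr (Subgroup.subgroupOfEquivOfLe Subgroup.le_normalizer).toEquiv, hN.card] at h1
    rw [hM, h1]
  have hCtcard : Nat.card (Subgroup.centralizer ({t} : Set G)) ≤ 144 := by
    set Ct := Subgroup.centralizer ({t} : Set G)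
    have hfixz : ∀ y ∈ Ct, y * T.z * y⁻¹ ∈ T.toPre.Z := fun y hy => by
      have hy' := Subgroup.mem_centralizer_singleton_iff.1 hy
      refine htfix _ ((Subgroup.mem_normalizer_iff.1 (hCt hy) _).1 (hN.z_mem T.z_mem)) ?_
      have hzt : t * T.z = T.z * t := T.mem_C.1 tC.2
      calc t * (y * T.z * y⁻¹) = (t * y) * T.z * y⁻¹ := by group
        _ = y * (t * T.z) * y⁻¹ := by rw [← hy']; group
        _ = y * T.z * (y⁻¹ * y) * t * y⁻¹ := by rw [hzt]; group
        _ = y * T.z * y⁻¹ * (y * t) * y⁻¹ := by group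
        _ = y * T.z * y⁻¹ * t := by rw [hy']; group
    let Φ : ↥Ct ⧸ T.C.subgroupOf Ct → {x : T.toPre.Z // x ≠ 1} := Quotient.lift
      (fun y => (⟨⟨y * T.z * (y : G)⁻¹, hfixz y y.2⟩,
        fun e => T.z_ne (conj_eq_one_iff.1 (congrArg Subtype.val e))⟩ : {x : T.toPre.Z // x ≠ 1}))
      (fun y w hyw => by
        have h' := T.mem_C.1 (Subgroup.mem_subgroupOf.1 (QuotientGroup.leftRel_apply.1 hyw))
        push_cast at h'
        refine Subtype.ext (Subtype.ext ?_)
        show (y : G) * T.z * (y : G)⁻¹ = (w : G) * T.z * (w : G)⁻¹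
        calc (y : G) * T.z * (y : G)⁻¹ = (y : G) * (T.z * ((y : G)⁻¹ * w)) * (w : G)⁻¹ := by group
          _ = (w : G) * T.z * (w : G)⁻¹ := by rw [← h']; group)
    have hΦ : Function.Injective Φ := by
      intro p r
      induction p using QuotientGroup.induction_on with | H y => ?_
      induction r using QuotientGroup.induction_on with | H w => ?_
      intro e
      have e' : (y : G) * T.z * (y : G)⁻¹ = (w : G) * T.z * (w : G)⁻¹ :=
        congrArg Subtype.val (congrArg Subtype.val e)
      refine QuotientGroup.eq.2 (Subgroup.mem_subgroupOf.2 (T.mem_C.2 ?_))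
      push_cast
      calc (y : G)⁻¹ * w * T.z = (y : G)⁻¹ * ((w : G) * T.z * (w : G)⁻¹) * w := by group
        _ = T.z * ((y : G)⁻¹ * w) := by rw [← e']; group
    have h2 : Nat.card {x : T.toPre.Z // x ≠ 1} = 2 := by
      haveI := Fintype.ofFinite T.toPre.Z
      rw [Nat.card_eq_fintype_card, Fintype.card_subtype_compl, Fintype.card_subtype_eq,
        ← Nat.card_eq_fintype_card, T.card_Z]
    let F : (T.C.subgroupOf Ct) →* SL2 := MonoidHom.mk'
      (fun y => T.ρ ⟨((y : Ct) : G), Subgroup.mem_subgroupOf.1 y.2⟩) fun a b => by rw [← map_mul]; rfl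
    have hFk : Nat.card F.ker ≤ 3 := by
      refine le_trans ?_ T.card_Z.le
      refine Nat.card_le_card_of_injective (fun y : F.ker => (⟨((y : T.C.subgroupOf Ct) : Ct), ?_⟩ : T.toPre.Z)) ?_
      · have hyQ : (((y : T.C.subgroupOf Ct) : Ct) : G) ∈ T.Q := (T.ρker _).1 (MonoidHom.mem_ker.1 y.2)
        refine (T.bar_eq_one (a := ⟨_, hyQ⟩)).1 ?_
        set v := T.bar ⟨_, hyQ⟩
        have hy' := Subgroup.mem_centralizer_singleton_iff.1 ((y : T.C.subgroupOf Ct) : Ct).2
        have e : T.act (-1) v = v := by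
          rw [← htρ, T.act_bar]
          refine congrArg T.bar (Subtype.ext ?_)
          show t * _ * t⁻¹ = _
          rw [← hy', mul_inv_cancel_right]
        rw [T.inverts v] at e
        have h2 : v * v = 1 := by
          conv_lhs => lhs; rw [← e]
          exact inv_mul_cancel v
        have h3 := T.V_cube v
        rw [pow_succ, pow_two, h2, one_mul] at h3
        exact h3
      · intro a b hab
        exact Subtype.ext (Subtype.ext (Subtype.ext (congrArg Subtype.val hab :)))
    have hA : Nat.card (T.C.subgroupOf Ct) ≤ 72 := by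
      have h3 := F.ker.card_eq_card_quotient_mul_card_subgroup
      rw [Nat.card_congr (QuotientGroup.quotientKerEquivRange F).toEquiv] at h3
      have h4 : Nat.card F.range ≤ 24 := card_sl2_side ▸ Subgroup.card_le_card_group _
      rw [h3]
      calc _ ≤ 24 * 3 := Nat.mul_le_mul h4 hFk
        _ = 72 := by norm_num
    have h5 := (T.C.subgroupOf Ct).card_eq_card_quotient_mul_card_subgroup
    have h6 := (Nat.card_le_card_of_injective Φ hΦ).trans_eq h2
    rw [h5]
    calc _ ≤ 2 * 72 := Nat.mul_le_mul h6 hA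
      _ = 144 := by norm_num
  -- involutions, fibred over the cosets
  haveI := Fintype.ofFinite G
  haveI := Fintype.ofFinite (G ⧸ M)
  set Ct := Subgroup.centralizer ({t} : Set G) with hCtdef
  let O : Finset G := Finset.univ.filter fun x => IsConj t x
  have hOcard : O.card = Ct.index := by
    let Φ : G ⧸ Ct → {x : G // IsConj t x} := Quotient.lift
      (fun y => (⟨y * t * y⁻¹, isConj_iff.2 ⟨y, rfl⟩⟩ : {x : G // IsConj t x}))
      (fun y w hyw => by
        have h' := Subgroup.mem_centralizer_singleton_iff.1 (QuotientGroup.leftRel_apply.1 hyw)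
        refine Subtype.ext ?_
        show y * t * y⁻¹ = w * t * w⁻¹
        calc y * t * y⁻¹ = y * (t * (y⁻¹ * w)) * w⁻¹ := by group
          _ = w * t * w⁻¹ := by rw [← h']; group)
    have hΦ : Function.Bijective Φ := by
      constructor
      · intro p r
        induction p using QuotientGroup.induction_on with | H y => ?_
        induction r using QuotientGroup.induction_on with | H w => ?_
        intro e
        have e' : y * t * y⁻¹ = w * t * w⁻¹ := congrArg Subtype.val e
        refine QuotientGroup.eq.2 (Subgroup.mem_centralizer_singleton_iff.2 ?_)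
        calc y⁻¹ * w * t = y⁻¹ * (w * t * w⁻¹) * w := by group
          _ = t * (y⁻¹ * w) := by rw [← e']; group
      · rintro ⟨x, hx⟩
        obtain ⟨y, hy⟩ := isConj_iff.1 hx
        exact ⟨QuotientGroup.mk y, Subtype.ext hy⟩
    rw [Subgroup.index, Nat.card_congr (Equiv.ofBijective Φ hΦ), Nat.card_eq_fintype_card, Fintype.card_subtype]
  have hsplit : Ct.index = Ct.relIndex M * M.index := (Subgroup.relIndex_mul_index hCt).symm
  have hrel : 1053 ≤ Ct.relIndex M := by
    have h1 := (Ct.subgroupOf M).card_mul_index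
    rw [Nat.card_congr (Subgroup.subgroupOfEquivOfLe hCt).toEquiv, hMcard] at h1
    change Nat.card Ct * Ct.relIndex M = 151632 at h1
    by_contra hlt
    have : Nat.card Ct * Ct.relIndex M ≤ 144 * 1052 := Nat.mul_le_mul hCtcard (by omega)
    omega
  have hO_M : (O.filter fun x => (QuotientGroup.mk x : G ⧸ M) = QuotientGroup.mk 1).card ≤ Ct.relIndex M := by
    let Ψ : ↥M ⧸ Ct.subgroupOf M → {x : G // x ∈ M ∧ IsConj t x} := Quotient.lift
      (fun y => (⟨y * t * (y : G)⁻¹, mul_mem (mul_mem y.2 htM) (inv_mem y.2), isConj_iff.2 ⟨y, rfl⟩⟩ :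
        {x : G // x ∈ M ∧ IsConj t x}))
      (fun y w hyw => by
        have h' := Subgroup.mem_centralizer_singleton_iff.1
          (Subgroup.mem_subgroupOf.1 (QuotientGroup.leftRel_apply.1 hyw))
        push_cast at h'
        refine Subtype.ext ?_
        show (y : G) * t * (y : G)⁻¹ = (w : G) * t * (w : G)⁻¹
        calc (y : G) * t * (y : G)⁻¹ = (y : G) * (t * ((y : G)⁻¹ * w)) * (w : G)⁻¹ := by group
          _ = (w : G) * t * (w : G)⁻¹ := by rw [← h']; group)
    have hΨ : Function.Surjective Ψ := by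
      rintro ⟨x, hxM, hx⟩
      obtain ⟨y, hy⟩ := isConj_iff.1 hx
      have hx2 : x * x = 1 := by
        rw [← hy, show y * t * y⁻¹ * (y * t * y⁻¹) = y * (t * t) * y⁻¹ by group, ht2]; group
      have hx1 : x ≠ 1 := fun e => ht1 (conj_eq_one_iff.1 (hy.trans e))
      obtain ⟨m, hm, hmx⟩ := hP.invol_conj htM ht2 ht1 hxM hx2 hx1
      exact ⟨QuotientGroup.mk ⟨m, hm⟩, Subtype.ext hmx⟩
    have := Nat.card_le_card_of_surjective Ψ hΨ
    rw [Nat.card_eq_fintype_card, Fintype.card_subtype] at this
    refine le_trans (Finset.card_le_card fun x hx => ?_) this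
    simp only [Finset.mem_filter, O, Finset.mem_univ, true_and] at hx ⊢
    refine ⟨?_, hx.1⟩
    have := QuotientGroup.eq.1 hx.2
    simpa using this
  obtain ⟨q, hq1, hq⟩ : ∃ q : G ⧸ M, q ≠ QuotientGroup.mk 1 ∧
      1053 ≤ (O.filter fun x => (QuotientGroup.mk x : G ⧸ M) = q).card := by
    by_contra hcon
    push Not at hcon
    have h1 := Finset.card_eq_sum_card_fiberwise
      (f := fun x => (QuotientGroup.mk x : G ⧸ M)) (s := O) (t := Finset.univ) (fun x _ => Finset.mem_univ _)
    rw [← Finset.add_sum_erase _ _ (Finset.mem_univ (QuotientGroup.mk 1 : G ⧸ M))] at h1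
    have h2 : ((Finset.univ.erase (QuotientGroup.mk 1 : G ⧸ M)).sum fun b =>
        (O.filter fun x => (QuotientGroup.mk x : G ⧸ M) = b).card) ≤ (M.index - 1) * 1052 := by
      refine le_trans (Finset.sum_le_card_nsmul _ _ 1052 fun b hb => ?_) ?_
      · have := hcon b (Finset.ne_of_mem_erase hb)
        omega
      · rw [smul_eq_mul, Finset.card_erase_of_mem (Finset.mem_univ _), Finset.card_univ,
          ← Nat.card_eq_fintype_card]
        rfl
    have hidx : 2 ≤ M.index := by
      have h0 := Subgroup.index_ne_zero_of_finite (H := M)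
      have h1' : M.index ≠ 1 := fun e => hne (Subgroup.index_eq_one.1 e)
      omega
    rw [hOcard, hsplit] at h1
    obtain ⟨n, hn⟩ : ∃ n, M.index = n + 2 := ⟨M.index - 2, by omega⟩
    rw [hn] at h1 h2
    have h3 : (n + 2 - 1) * 1052 < (n + 2 - 1) * Ct.relIndex M :=
      Nat.mul_lt_mul_of_pos_left (by omega) (by omega)
    have h4 : Ct.relIndex M * (n + 2) = Ct.relIndex M + (n + 2 - 1) * Ct.relIndex M := by
      rw [show n + 2 - 1 = n + 1 by omega]; ring
    omega
  obtain ⟨j₀, hj₀⟩ : ∃ j₀, j₀ ∈ O.filter fun x => (QuotientGroup.mk x : G ⧸ M) = q :=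
    Finset.card_pos.1 (by omega)
  simp only [Finset.mem_filter, O, Finset.mem_univ, true_and] at hj₀
  obtain ⟨y₀, hy₀⟩ := isConj_iff.1 hj₀.1
  have hj₀2 : j₀ * j₀ = 1 := by
    rw [← hy₀, show y₀ * t * y₀⁻¹ * (y₀ * t * y₀⁻¹) = y₀ * (t * t) * y₀⁻¹ by group, ht2]; group
  have hj₀i : j₀⁻¹ = j₀ := inv_eq_of_mul_eq_one_right hj₀2
  have hj₀M : j₀ ∉ M := fun e => hq1 (hj₀.2 ▸ QuotientGroup.eq.2 (by simpa using inv_mem e))
  let K : Subgroup G := M ⊓ M.map (MulAut.conj j₀).toMonoidHom
  have hKmem : ∀ k, k ∈ K → j₀ * k * j₀ ∈ M := fun k hk => by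
    obtain ⟨m, hm, rfl⟩ := (Subgroup.mem_inf.1 hk).2
    have e : j₀ * (MulAut.conj j₀).toMonoidHom m * j₀ = (j₀ * j₀) * m * (j₀⁻¹ * j₀) := by
      simp only [MulEquiv.coe_toMonoidHom, MulAut.conj_apply]; group
    rw [e, hj₀2, inv_mul_cancel, one_mul, mul_one]
    exact hm
  have hKodd : ¬ 2 ∣ Nat.card K := by
    intro h2
    haveI : Fact (Nat.Prime 2) := ⟨Nat.prime_two⟩
    obtain ⟨x, hx⟩ := exists_prime_orderOf_dvd_card' 2 h2
    have hx2 : (x : G) * x = 1 := by
      have := pow_orderOf_eq_one x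
      rw [hx, pow_two] at this
      exact congrArg Subtype.val this
    have hx1 : (x : G) ≠ 1 := fun e => by
      have : x = 1 := Subtype.ext e
      rw [this, orderOf_one] at hx
      omega
    exact hj₀M (hsame j₀ x hj₀2 hx2 hx1 (Subgroup.mem_inf.1 x.2).1 (hKmem x x.2))
  have hKN : ∀ k ∈ K, k ∈ N → k = 1 := fun k hk hkN => by
    by_contra hk1
    exact hj₀M (hP.mem_of_conj hkN hk1 (by rw [hj₀i]; exact hKmem k hk))
  have hK351 : Nat.card K ≤ 351 := by
    let f : K →* Matrix.SpecialLinearGroup (Fin 3) (ZMod 3) :=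
      π.comp (Subgroup.inclusion (inf_le_left : K ≤ M))
    have hf : Function.Injective f := by
      rw [← MonoidHom.ker_eq_bot_iff, eq_bot_iff]
      intro k hk
      have h1 : Subgroup.inclusion (inf_le_left : K ≤ M) k ∈ π.ker := hk
      rw [hπk, Subgroup.mem_subgroupOf] at h1
      exact Subgroup.mem_bot.2 (Subtype.ext (hKN k k.2 h1))
    have hdvd : Nat.card K ∣ 5616 := by
      rw [← card_sl3, Nat.card_congr (MonoidHom.ofInjective hf).toEquiv]
      exact Subgroup.card_subgroup_dvd_card _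
    have hco : (Nat.card K).Coprime (2 ^ 4) :=
      Nat.Coprime.pow_right 4 ((Nat.prime_two.coprime_iff_not_dvd.2 hKodd).symm)
    exact Nat.le_of_dvd (by norm_num) (hco.dvd_of_dvd_mul_left (show Nat.card K ∣ 2 ^ 4 * 351 from hdvd))
  have hfib : (O.filter fun x => (QuotientGroup.mk x : G ⧸ M) = q).card ≤ Nat.card K := by
    rw [Nat.card_eq_fintype_card, ← Finset.card_univ]
    have hmem : ∀ x ∈ O.filter fun x => (QuotientGroup.mk x : G ⧸ M) = q, j₀ * x ∈ K := by
      intro x hx
      simp only [Finset.mem_filter, O, Finset.mem_univ, true_and] at hx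
      have h1 : j₀ * x ∈ M := by
        have := QuotientGroup.eq.1 (hj₀.2.trans hx.2.symm)
        rwa [hj₀i] at this
      obtain ⟨yx, hyx⟩ := isConj_iff.1 hx.1
      have hx2 : x * x = 1 := by
        rw [← hyx, show yx * t * yx⁻¹ * (yx * t * yx⁻¹) = yx * (t * t) * yx⁻¹ by group, ht2]; group
      refine Subgroup.mem_inf.2 ⟨h1, (j₀ * x)⁻¹, inv_mem h1, ?_⟩
      have hxi : x⁻¹ = x := inv_eq_of_mul_eq_one_right hx2
      simp only [MulEquiv.coe_toMonoidHom, MulAut.conj_apply, mul_inv_rev, hxi, hj₀i]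
      rw [show j₀ * (x * j₀) * j₀ = j₀ * x * (j₀ * j₀) by group, hj₀2, mul_one]
    refine Finset.card_le_card_of_injOn
      (fun x => if hx : j₀ * x ∈ K then (⟨j₀ * x, hx⟩ : K) else 1) (fun _ _ => Finset.mem_univ _) ?_
    intro a ha b hb hab
    simp only [hmem a ha, hmem b hb, dite_true] at hab
    exact mul_left_cancel (congrArg Subtype.val hab)
  omega

end Par

end Loc

end Cfsg.Agent.Spor.PSLFourThree
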