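import Cfsg.Agent.Lib.Spor.PSLFourThree.Data
import Mathlib.Algebra.Module.ZMod
import Mathlib.LinearAlgebra.Matrix.ToLin

/-!
The other radical in the coordinates of one side: a framed pair of parabolic subgroups.
-/

set_option autoImplicit false
set_option linter.unusedSectionVars false
set_option maxRecDepth 100000

namespace Cfsg.Agent.Spor.PSLFourThree

open Cfsg.Agent.Lie.CTA Matrix

local notation "SL2" => Matrix.SpecialLinearGroup (Fin 2) (ZMod 3)

theorem sl2_three_spread : ∀ h : SL2, h ^ 3 = 1 → h ≠ 1 → ∃ k : SL2, k * h * k⁻¹ * h ≠ h * (k * h * k⁻¹) := by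
  decide +kernel

theorem transitive_b0 : ∀ x : V, x ≠ 0 → ∃ P : Fin 3 → Fin 3 → ZMod 3,
    (Matrix.of P).det = 1 ∧ ∀ i, P i 0 = x i := by decide +kernel

theorem dt_facts : dt.1 *ᵥ b0 = b0 ∧ dt * dt = 1 ∧ (∀ a b, dt * uu a b * dt = uu (-a) (-b)) := by decide +kernel

theorem uu_fix : ∀ a b, (uu a b).1 *ᵥ b0 = b0 := by decide +kernel

/-- The radical of the point stabiliser as a homomorphism. -/
def uhom : Multiplicative (ZMod 3 × ZMod 3) →* L3 :=
  MonoidHom.mk' (fun w => uu w.toAdd.1 w.toAdd.2) fun a b => by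
    rw [uu_add]; rfl

theorem uhom_inj : Function.Injective uhom := fun a b h => by
  obtain ⟨h1, h2⟩ := uu_inj _ _ _ _ h
  exact Multiplicative.toAdd.injective (Prod.ext h1 h2)

/-- An element fixing the first basis vector: a block and a radical part. -/
theorem stab_form {g : L3} (h : g.1 *ᵥ b0 = b0) : ∃ (k : SL2) (a b : ZMod 3), g = uu a b * b23 k := by
  have h0 : g.1 0 0 = 1 := by simpa [b0, Matrix.mulVec, dotProduct, Fin.sum_univ_three] using congrFun h 0
  have h1 : g.1 1 0 = 0 := by simpa [b0, Matrix.mulVec, dotProduct, Fin.sum_univ_three] using congrFun h 1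
  have h2 : g.1 2 0 = 0 := by simpa [b0, Matrix.mulVec, dotProduct, Fin.sum_univ_three] using congrFun h 2
  have hd := g.2
  rw [det_fin_three, h0, h1, h2] at hd
  let k : SL2 := ⟨!![g.1 1 1, g.1 1 2; g.1 2 1, g.1 2 2], by rw [det_fin_two_of]; linear_combination hd⟩
  refine ⟨k, g.1 0 1 * g.1 2 2 - g.1 0 2 * g.1 2 1, -(g.1 0 1 * g.1 1 2) + g.1 0 2 * g.1 1 1, Subtype.ext ?_⟩
  rw [Matrix.SpecialLinearGroup.coe_mul, b23_val]
  ext i j
  fin_cases i <;> fin_cases j <;> simp [uu, k, h0, h1, h2, Matrix.mul_apply, Fin.sum_univ_three]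
  · linear_combination (-(g.1 0 1)) * hd
  · linear_combination (-(g.1 0 2)) * hd

theorem block_eq {k : SL2} {a b : ZMod 3} {k' : SL2} {a' b' : ZMod 3} (h : uu a b * b23 k = uu a' b' * b23 k') :
    k = k' := by
  refine Subtype.ext (Matrix.ext fun i j => ?_)
  have h1 := congrArg (fun g : L3 => g.1) h
  simp only [Matrix.SpecialLinearGroup.coe_mul, b23_val] at h1
  fin_cases i <;> fin_cases j
  · simpa [uu, Matrix.mul_apply, Fin.sum_univ_three] using congrFun (congrFun h1 1) 1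
  · simpa [uu, Matrix.mul_apply, Fin.sum_univ_three] using congrFun (congrFun h1 1) 2
  · simpa [uu, Matrix.mul_apply, Fin.sum_univ_three] using congrFun (congrFun h1 2) 1
  · simpa [uu, Matrix.mul_apply, Fin.sum_univ_three] using congrFun (congrFun h1 2) 2

theorem b23_uu : ∀ (k : SL2) (a b : ZMod 3), ∃ c d, b23 k * uu a b = uu c d * b23 k := by
  intro k a b
  have hf : (b23 k * uu a b * (b23 k)⁻¹).1 *ᵥ b0 = b0 := by
    have hk : ∀ m : SL2, (b23 m).1 *ᵥ b0 = b0 := fun m => by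
      rw [b23_val]
      ext i
      fin_cases i <;> simp [b0, Matrix.mulVec, dotProduct, Fin.sum_univ_three]
    rw [Matrix.SpecialLinearGroup.coe_mul, Matrix.SpecialLinearGroup.coe_mul, ← mulVec_mulVec, ← mulVec_mulVec,
      ← map_inv, hk, uu_fix, hk]
  obtain ⟨m, c, d, e⟩ := stab_form hf
  have e1 : b23 k * uu a b = uu c d * b23 (m * k) := by
    rw [map_mul, ← mul_assoc, ← e]
    group
  have hm : m * k = k := by
    have hb : ∀ i j : Fin 2, (m * k).1 i j = k.1 i j := fun i j => by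
      have h1 := congrArg (fun g : L3 => g.1) e1
      simp only [Matrix.SpecialLinearGroup.coe_mul, b23_val] at h1
      fin_cases i <;> fin_cases j
      · simpa [uu, Matrix.mul_apply, Fin.sum_univ_three] using (congrFun (congrFun h1 1) 1).symm
      · simpa [uu, Matrix.mul_apply, Fin.sum_univ_three] using (congrFun (congrFun h1 1) 2).symm
      · simpa [uu, Matrix.mul_apply, Fin.sum_univ_three] using (congrFun (congrFun h1 2) 1).symm
      · simpa [uu, Matrix.mul_apply, Fin.sum_univ_three] using (congrFun (congrFun h1 2) 2).symm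
    exact Subtype.ext (Matrix.ext hb)
  exact ⟨c, d, by rw [e1, hm]⟩

namespace Para

variable {G : Type*} [Group G] [Finite G] (P : Para G)

theorem fix_iff (hz : P.L.v b0 = P.z) (g : P.L.M) :
    (g : G) ∈ Subgroup.centralizer ({P.z} : Set G) ↔ (P.L.π g).1 *ᵥ b0 = b0 := by
  rw [P.mem_C, ← hz]
  exact P.L.comm_iff g b0

/-- The other radical covers the radical of the point stabiliser. -/
theorem radical (hz : P.L.v b0 = P.z) :
    (∀ r : P.L.M, (r : G) ∈ P.R.A → ∃ a b, P.L.π r = uu a b) ∧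
      ∀ a b, ∃ r : P.L.M, (r : G) ∈ P.R.A ∧ P.L.π r = uu a b := by
  have hsub : ∀ r : P.L.M, (r : G) ∈ P.R.A → ∃ a b, P.L.π r = uu a b := by
    intro r hr
    obtain ⟨k, a, b, e⟩ := stab_form ((P.fix_iff hz r).1 (P.A_le_C hr))
    by_cases hk : k = 1
    · exact ⟨a, b, by rw [e, hk, map_one, mul_one]⟩
    exfalso
    have hk3 : k ^ 3 = 1 := by
      obtain ⟨x, hx⟩ := P.R.exists_v hr
      have h3 : r ^ 3 = 1 := Subtype.ext (by rw [SubgroupClass.coe_pow, ← hx]; exact P.R.v_cube x)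
      have h4 := congrArg P.L.π h3
      rw [map_pow, map_one, e] at h4
      obtain ⟨c, d, e2⟩ := b23_uu k a b
      obtain ⟨c', d', e3⟩ := b23_uu (k * k) a b
      refine (block_eq (a := a + c + c') (b := b + d + d') (a' := 0) (b' := 0) ?_)
      rw [map_one, show uu 0 0 = 1 by decide +kernel, one_mul, ← h4, pow_succ k, pow_two k, ← uu_add, ← uu_add, pow_succ, pow_two, map_mul b23 (k * k) k,
        map_mul b23 k k]
      calc uu a b * uu c d * uu c' d' * (b23 k * b23 k * b23 k)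
          = uu a b * uu c d * (uu c' d' * b23 (k * k)) * b23 k := by rw [map_mul]; group
        _ = uu a b * (uu c d * b23 k) * b23 k * uu a b * b23 k := by rw [← e3, map_mul]; group
        _ = uu a b * b23 k * (uu a b * b23 k) * (uu a b * b23 k) := by rw [← e2]; group
    obtain ⟨m, hm⟩ := sl2_three_spread k hk3 hk
    obtain ⟨g, hg⟩ := P.L.surj (b23 m)
    have hgC : (g : G) ∈ Subgroup.centralizer ({P.z} : Set G) := (P.fix_iff hz g).2 (by
      rw [hg, b23_val]
      ext i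
      fin_cases i <;> simp [b0, Matrix.mulVec, dotProduct, Fin.sum_univ_three])
    have hc : g * r * g⁻¹ * r = r * (g * r * g⁻¹) := Subtype.ext (P.R.A_comm (P.R.conj_mem (P.CR hgC) hr) hr)
    have h1 := congrArg P.L.π hc
    simp only [map_mul, map_inv, hg, e] at h1
    obtain ⟨c, d, e2⟩ := b23_uu m a b
    obtain ⟨c', d', e3⟩ := b23_uu (m * k * m⁻¹) a b
    obtain ⟨c'', d'', e4⟩ := b23_uu k c d
    refine hm (block_eq (a := c + c') (b := d + d') (a' := a + c'') (b' := b + d'') ?_)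
    calc uu (c + c') (d + d') * b23 (m * k * m⁻¹ * k)
        = uu c d * (uu c' d' * b23 (m * k * m⁻¹)) * b23 k := by rw [map_mul _ (m * k * m⁻¹) k, ← uu_add]; group
      _ = (uu c d * b23 m) * b23 k * (b23 m)⁻¹ * (uu a b * b23 k) := by
          rw [← e3, map_mul, map_mul, map_inv]; group
      _ = b23 m * (uu a b * b23 k) * (b23 m)⁻¹ * (uu a b * b23 k) := by rw [← e2]; group
      _ = uu a b * b23 k * (b23 m * (uu a b * b23 k) * (b23 m)⁻¹) := h1
      _ = uu a b * (b23 k * uu c d) * b23 m * b23 k * (b23 m)⁻¹ := by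
          rw [show b23 m * (uu a b * b23 k) = uu c d * b23 m * b23 k by rw [← e2]; group]; group
      _ = uu (a + c'') (b + d'') * b23 (k * (m * k * m⁻¹)) := by
          rw [e4, ← uu_add, map_mul, map_mul, map_mul, map_inv]; group
  refine ⟨hsub, fun a b => ?_⟩
  have hle : P.R.A ≤ P.L.M := P.A_le_C.trans P.CL
  let f : P.R.A →* L3 := P.L.π.comp (Subgroup.inclusion hle)
  have hker : Nat.card f.ker = 3 := by
    have e : Nat.card f.ker = Nat.card (P.L.A ⊓ P.R.A : Subgroup G) := ?_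
    · rw [e, P.meet, Nat.card_zpowers, P.z_order]
    refine Nat.card_congr ⟨fun x => ⟨((x : P.R.A) : G), (P.L.ker _).1 x.2, x.1.2⟩,
      fun x => ⟨⟨x.1, x.2.2⟩, (P.L.ker ⟨x.1, hle x.2.2⟩).2 x.2.1⟩, fun x => rfl, fun x => rfl⟩
  have hrange : f.range = uhom.range := by
    refine Subgroup.eq_of_le_of_card_ge ?_ ?_
    · rintro _ ⟨x, rfl⟩
      obtain ⟨c, d, e⟩ := hsub (Subgroup.inclusion hle x) x.2
      exact ⟨Multiplicative.ofAdd (c, d), e.symm⟩
    · have h1 := f.ker.card_mul_index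
      rw [Subgroup.index_ker, hker, P.R.card_A] at h1
      rw [← Nat.card_congr (MonoidHom.ofInjective uhom_inj).toEquiv, Nat.card_congr Multiplicative.toAdd,
        Nat.card_prod, Nat.card_zmod]
      omega
  obtain ⟨x, hx⟩ : uu a b ∈ f.range := hrange ▸ ⟨Multiplicative.ofAdd (a, b), rfl⟩
  exact ⟨Subgroup.inclusion hle x, x.2, hx⟩

end Para

/-- A pair of parabolic subgroups with adapted coordinates and a middle involution. -/
structure Frame (G : Type*) [Group G] extends Para G where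
  zL : L.v b0 = z
  zR : R.v b0 = z
  t : G
  tC : t ∈ Subgroup.centralizer ({z} : Set G)
  tt : t * t = 1
  tL : L.π ⟨t, CL tC⟩ = dt
  rinv : ∀ a b : ZMod 3, t * R.v ![0, a, b] * t = (R.v ![0, a, b])⁻¹
  rimg : ∀ a b : ZMod 3, ∀ h : R.v ![0, a, b] ∈ L.M, L.π ⟨R.v ![0, a, b], h⟩ = uu a b

/-- Coordinates can be adapted. -/
theorem Para.exists_frame {G : Type*} [Group G] [Finite G] (P₀ : Para G) :
    ∃ F : Frame G, F.z = P₀.z ∧ F.L.M = P₀.L.M ∧ F.R.M = P₀.R.M ∧ F.L.A = P₀.L.A ∧ F.R.A = P₀.R.A := by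
  obtain ⟨x, hx⟩ := P₀.L.exists_v P₀.z_L
  obtain ⟨P1, hdet, hcol⟩ := transitive_b0 x (fun e => P₀.z_ne (by rw [← hx, e, P₀.L.v_zero]))
  set M1 : Matrix (Fin 3) (Fin 3) (ZMod 3) := Matrix.of P1 with hM1
  have hu : IsUnit M1.det := by rw [hdet]; exact isUnit_one
  let P : Para G :=
    { L := P₀.L.reframe M1 M1⁻¹ (mul_nonsing_inv _ hu) (nonsing_inv_mul _ hu)
      R := P₀.R, z := P₀.z, z_order := P₀.z_order, meet := P₀.meet, CL := P₀.CL, CR := P₀.CR, syl := P₀.syl }
  have hz : P.L.v b0 = P.z := by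
    show P₀.L.v (M1 *ᵥ b0) = P₀.z
    rw [show M1 *ᵥ b0 = x from funext fun i => by
      rw [← hcol i]; simp [hM1, b0, Matrix.mulVec, dotProduct, Fin.sum_univ_three]]
    exact hx
  obtain ⟨g, hg⟩ := P.L.surj dt
  set t0 := g ^ 27 with ht0
  have hgsq : (g : G) * g ∈ P.L.A := (P.L.ker (g * g)).1 (by rw [map_mul, hg, dt_facts.2.1])
  have ht0sq : t0 * t0 = 1 := by
    obtain ⟨y, hy⟩ := P.L.exists_v hgsq
    refine Subtype.ext ?_
    rw [ht0, ← pow_add, SubgroupClass.coe_pow, show (27 + 27) = 2 * 27 from rfl, pow_mul, pow_two, ← hy,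
      show 27 = 3 * 9 from rfl, pow_mul, P.L.v_cube, one_pow]
    rfl
  have ht0π : P.L.π t0 = dt := by
    rw [ht0, map_pow, hg, show 27 = 2 * 13 + 1 from rfl, pow_succ, pow_mul, pow_two, dt_facts.2.1, one_pow, one_mul]
  set t : G := (t0 : G) with ht
  have tt : t * t = 1 := congrArg Subtype.val ht0sq
  have tC : t ∈ Subgroup.centralizer ({P.z} : Set G) := (P.fix_iff hz t0).2 (by rw [ht0π]; exact dt_facts.1)
  have tzt : ∀ i : ℕ, t * P.z ^ i * t = P.z ^ i := fun i => by
    rw [((show Commute t P.z from P.mem_C.1 tC).pow_right i).eq, mul_assoc, tt, mul_one]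
  have tinv : t⁻¹ = t := inv_eq_of_mul_eq_one_right tt
  obtain ⟨hsub, hsur⟩ := P.radical hz
  have hR : ∀ w : ZMod 3 × ZMod 3, ∃ r : P.L.M, (r : G) ∈ P.R.A ∧ P.L.π r = uu w.1 w.2 ∧
      t * (r : G) * t = (r : G)⁻¹ := by
    intro w
    obtain ⟨p, hp, hpπ⟩ := hsur w.1 w.2
    have hq : t * (p : G) * t ∈ P.R.A := by
      have := P.R.conj_mem (P.CR tC) hp
      rwa [tinv] at this
    set d := p * (t0 * p * t0)⁻¹ with hd
    have hdA : (d : G) ∈ P.R.A := P.R.A.mul_mem hp (P.R.A.inv_mem hq)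
    have hdinv : t * (d : G) * t = (d : G)⁻¹ := by
      show t * ((p : G) * (t * p * t)⁻¹) * t = ((p : G) * (t * p * t)⁻¹)⁻¹
      rw [_root_.mul_inv_rev _ (t * p * t)⁻¹, inv_inv]
      calc t * ((p : G) * (t * p * t)⁻¹) * t = t * (p : G) * t⁻¹ * (p : G)⁻¹ * (t⁻¹ * t) := by group
        _ = _ := by rw [tinv, tt, mul_one]
    refine ⟨d * d, P.R.A.mul_mem hdA hdA, ?_, ?_⟩
    · rw [map_mul, hd, map_mul, map_inv, map_mul, map_mul, hpπ, ht0π, dt_facts.2.2]
      exact (show ∀ a b : ZMod 3, uu a b * (uu (-a) (-b))⁻¹ * (uu a b * (uu (-a) (-b))⁻¹) = uu a b by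
        decide +kernel) _ _
    · show t * ((d : G) * d) * t = ((d : G) * d)⁻¹
      rw [_root_.mul_inv_rev, ← hdinv]
      calc t * ((d : G) * d) * t = t * (d : G) * (t * t) * d * t := by rw [tt]; group
        _ = _ := by group
  choose r hrA hrπ hrinv using hR
  have hzpow : ∀ {g : G}, g ∈ P.L.A → g ∈ P.R.A → ∃ i : ℕ, g = P.z ^ i := fun {g} h1 h2 => by
    obtain ⟨i, hi⟩ := (isOfFinOrder_of_finite P.z).mem_powers_iff_mem_zpowers.2
      (P.meet ▸ (Subgroup.mem_inf.2 ⟨h1, h2⟩) : g ∈ Subgroup.zpowers P.z)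
    exact ⟨i, hi.symm⟩
  have hr_add : ∀ w w', (r (w + w') : G) = r w * r w' := by
    intro w w'
    set e : P.L.M := (r (w + w'))⁻¹ * (r w * r w') with he
    have heA : (e : G) ∈ P.R.A := P.R.A.mul_mem (P.R.A.inv_mem (hrA _)) (P.R.A.mul_mem (hrA _) (hrA _))
    have heL : (e : G) ∈ P.L.A := (P.L.ker e).1 (by
      rw [he, map_mul, map_inv, map_mul, hrπ, hrπ, hrπ, uu_add]; exact inv_mul_cancel _)
    have heinv : t * (e : G) * t = (e : G)⁻¹ := by
      have hx : ∀ p q : G, t * (p * q) * t = (t * p * t) * (t * q * t) := fun p q => by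
        calc t * (p * q) * t = t * p * (t * t) * q * t := by rw [tt]; group
          _ = _ := by group
      show t * (((r (w + w') : P.L.M) : G)⁻¹ * ((r w : G) * r w')) * t = _
      rw [hx, hx, hrinv, hrinv, show t * ((r (w + w') : P.L.M) : G)⁻¹ * t = (r (w + w') : G) by
        rw [← hrinv, ← mul_assoc, ← mul_assoc, tt, one_mul, mul_assoc, tt, mul_one]]
      show _ = (((r (w + w') : P.L.M) : G)⁻¹ * ((r w : G) * r w'))⁻¹
      rw [_root_.mul_inv_rev, _root_.mul_inv_rev, inv_inv, P.R.A_comm (P.R.A.inv_mem (hrA w)) (P.R.A.inv_mem (hrA w')),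
        P.R.A_comm (P.R.A.mul_mem (P.R.A.inv_mem (hrA w')) (P.R.A.inv_mem (hrA w))) (hrA (w + w'))]
    obtain ⟨i, hi⟩ := hzpow heL heA
    rw [hi, tzt, eq_comm, inv_eq_iff_mul_eq_one] at heinv
    have h1 : P.z ^ i = 1 := by
      have h3 : (P.z ^ i) ^ 3 = 1 := by
        rw [← pow_mul, mul_comm, pow_mul, ← P.z_order, pow_orderOf_eq_one, one_pow]
      rwa [pow_succ, pow_two, heinv, one_mul] at h3
    rw [h1] at hi
    exact inv_mul_eq_one.1 hi
  -- new coordinates on the right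
  let zpw : ZMod 3 → G := fun a => P.z ^ a.val
  have hzadd : ∀ a b, zpw (a + b) = zpw a * zpw b := fun a b => by
    show P.z ^ (a + b).val = P.z ^ a.val * P.z ^ b.val
    rw [← pow_add, ← pow_mod_orderOf P.z (a.val + b.val), P.z_order, ZMod.val_add]
  let f : V → G := fun y => zpw (y 0) * (r (y 1, y 2) : G)
  have hfA : ∀ y, f y ∈ P.R.A := fun y => P.R.A.mul_mem (P.R.A.pow_mem P.z_R _) (hrA _)
  have hf_add : ∀ y y', f (y + y') = f y * f y' := fun y y' => by
    show zpw (y 0 + y' 0) * (r (y 1 + y' 1, y 2 + y' 2) : G) = _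
    rw [hzadd, show ((y 1 + y' 1, y 2 + y' 2) : ZMod 3 × ZMod 3) = (y 1, y 2) + (y' 1, y' 2) from rfl, hr_add,
      mul_assoc, ← mul_assoc (zpw (y' 0)), P.R.A_comm (P.R.A.pow_mem P.z_R _) (hrA _)]
    simp only [zpw, f, mul_assoc]
  choose c hc using fun y => P.R.exists_v (hfA y)
  let cl : V →ₗ[ZMod 3] V := AddMonoidHom.toZModLinearMap 3 (AddMonoidHom.mk' c fun y y' =>
    P.R.v_inj (by rw [P.R.v_add, hc, hc, hc, hf_add]))
  have hinj : Function.Injective cl := by
    refine (injective_iff_map_eq_zero cl).2 fun y hy => ?_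
    have h1 : f y = 1 := by rw [← hc, show c y = 0 from hy, P.R.v_zero]
    have hmem : zpw (y 0) ∈ P.L.M := P.L.le (P.L.A.pow_mem P.z_L _)
    have h2 := congrArg P.L.π (show (⟨zpw (y 0), hmem⟩ : P.L.M) * r (y 1, y 2) = 1 from Subtype.ext h1)
    rw [map_mul, map_one, hrπ, (P.L.ker ⟨zpw (y 0), hmem⟩).2 (P.L.A.pow_mem P.z_L _), one_mul] at h2
    obtain ⟨e1, e2⟩ := uu_inj (y 1) (y 2) 0 0 (h2.trans (show (1 : L3) = uu 0 0 by decide +kernel))
    have h3 : zpw (y 0) = 1 := by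
      have hr0 : (r (y 1, y 2) : G) = 1 := by
        have := hr_add 0 0
        rw [add_zero] at this
        rw [show ((y 1, y 2) : ZMod 3 × ZMod 3) = 0 from Prod.ext e1 e2]
        exact left_eq_mul.1 this
      rwa [show f y = zpw (y 0) * (r (y 1, y 2) : G) from rfl, hr0, mul_one] at h1
    have h4 := orderOf_dvd_of_pow_eq_one h3
    rw [P.z_order] at h4
    have h5 : y 0 = 0 := by
      have := ZMod.val_lt (y 0)
      rw [← ZMod.val_eq_zero]
      omega
    funext i
    fin_cases i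
    exacts [h5, e1, e2]
  let ce := LinearEquiv.ofBijective cl ⟨hinj, Finite.injective_iff_surjective.1 hinj⟩
  set M2 := LinearMap.toMatrix' (ce : V →ₗ[ZMod 3] V) with hM2
  set N2 := LinearMap.toMatrix' (ce.symm : V →ₗ[ZMod 3] V) with hN2
  have hMN : M2 * N2 = 1 := by
    rw [hM2, hN2, ← LinearMap.toMatrix'_comp, LinearEquiv.comp_coe, LinearEquiv.symm_trans_self]
    exact LinearMap.toMatrix'_id
  have hNM : N2 * M2 = 1 := mul_eq_one_comm.1 hMN
  have hv2 : ∀ y, (P.R.reframe M2 N2 hMN hNM).v y = f y := fun y => by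
    show P.R.v (M2 *ᵥ y) = f y
    rw [hM2, LinearMap.toMatrix'_mulVec]
    exact hc y
  refine ⟨{ L := P.L, R := P.R.reframe M2 N2 hMN hNM, z := P.z, z_order := P.z_order, meet := P.meet,
            CL := P.CL, CR := P.CR, syl := P.syl, zL := hz, zR := ?_, t := t, tC := tC, tt := tt, tL := ht0π,
            rinv := ?_, rimg := ?_ }, rfl, rfl, rfl, rfl, rfl⟩
  · rw [hv2]
    show zpw 1 * (r (0, 0) : G) = P.z
    have := hr_add 0 0
    rw [add_zero] at this
    rw [show ((0, 0) : ZMod 3 × ZMod 3) = 0 from rfl, left_eq_mul.1 this, mul_one]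
    exact pow_one _
  · intro a b
    rw [hv2]
    show t * (zpw 0 * (r (a, b) : G)) * t = (zpw 0 * (r (a, b) : G))⁻¹
    rw [show zpw 0 = 1 from pow_zero _, one_mul]
    exact hrinv _
  · intro a b h
    rw [show (⟨_, h⟩ : P.L.M) = r (a, b) from Subtype.ext (by
      refine (hv2 _).trans ?_
      show zpw 0 * (r (a, b) : G) = _
      rw [show zpw 0 = 1 from pow_zero _, one_mul])]
    exact hrπ _

end Cfsg.Agent.Spor.PSLFourThree
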