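import Cfsg.Agent.Lib.Spor.PSLFourThree.Strong
import Cfsg.Agent.Lib.Spor.PSLFourThree.PairCase
import Cfsg.Agent.Lib.Spor.PSLFourThree.JCase

/-!
# The centraliser of the first involution
-/

set_option autoImplicit false
set_option linter.unusedSectionVars false
set_option linter.style.haveILetI false
set_option maxRecDepth 100000

namespace Cfsg.Agent.Spor.PSLFourThree

open Matrix JCase

universe u

/-- The elementary subgroup of order nine in the centraliser of the first involution. -/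
def EsHom : Multiplicative (ZMod 3 × ZMod 3) →* SLF where
  toFun t := ⟨!![1, t.toAdd.1, 0, 0; 0, 1, 0, 0; 0, 0, 1, t.toAdd.2; 0, 0, 0, 1], by
    revert t
    decide +kernel⟩
  map_one' := Subtype.ext (by
    show (!![1, (0 : ZMod 3), 0, 0; 0, 1, 0, 0; 0, 0, 1, 0; 0, 0, 0, 1] : M4) = 1
    decide +kernel)
  map_mul' s t := Subtype.ext ((show ∀ s t : ZMod 3 × ZMod 3,
    (!![1, (s + t).1, 0, 0; 0, 1, 0, 0; 0, 0, 1, (s + t).2; 0, 0, 0, 1] : M4) =
      !![1, s.1, 0, 0; 0, 1, 0, 0; 0, 0, 1, s.2; 0, 0, 0, 1] *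
        !![1, t.1, 0, 0; 0, 1, 0, 0; 0, 0, 1, t.2; 0, 0, 0, 1] by decide +kernel) s.toAdd t.toAdd)

/-- The exchange of the blocks. -/
def PwS : SLF := ⟨SModel.Pw, SModel.Pw_facts.2⟩

/-- A diagonal element. -/
def dgS : SLF := ⟨!![1, 0, 0, 0; 0, -1, 0, 0; 0, 0, 1, 0; 0, 0, 0, -1], by decide +kernel⟩

theorem EsHom_spec : ∀ t : Multiplicative (ZMod 3 × ZMod 3), EsHom t * sMat = sMat * EsHom t ∧
    EsHom t * zMat = zMat * EsHom t ∧ ((EsHom t : M4) = 1 → t = 1) ∧ (EsHom t : M4) ≠ -1 := by decide +kernel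

theorem EsHom_types : ∀ t : Multiplicative (ZMod 3 × ZMod 3), t ≠ 1 →
    EsHom t = zMat ∨ EsHom t = zMat⁻¹ ∨ EsHom t = PwS * zMat * PwS⁻¹ ∨ EsHom t = PwS * zMat⁻¹ * PwS⁻¹ ∨
    EsHom t = zMat * eMat ∨ EsHom t = dgS * (zMat * eMat) * dgS⁻¹ ∨
    EsHom t = zMat * eMat⁻¹ ∨ EsHom t = dgS * (zMat * eMat⁻¹) * dgS⁻¹ := by decide +kernel

/-- The group of order nine in the centraliser of the first involution. -/
def Es : Subgroup (Subgroup.centralizer ({sP} : Set PSLF)) :=
  ((pr.comp EsHom).codRestrict _ fun t => Subgroup.mem_centralizer_singleton_iff.2 (by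
    show pr (EsHom t) * pr sMat = pr sMat * pr (EsHom t)
    rw [← map_mul, ← map_mul, (EsHom_spec t).1])).range

theorem card_Es : Nat.card Es = 9 := by
  rw [Es, ← Nat.card_congr (MonoidHom.ofInjective ?_).toEquiv,
    Nat.card_congr Multiplicative.toAdd, Nat.card_prod, Nat.card_zmod]
  refine (injective_iff_map_eq_one _).2 fun t ht => ?_
  have h : pr (EsHom t) = 1 := congrArg Subtype.val ht
  rw [show (1 : PSLF) = pr 1 from (map_one pr).symm, pr_eq_iff, Matrix.SpecialLinearGroup.coe_one] at h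
  exact h.elim (EsHom_spec t).2.2.1 fun h => absurd h (EsHom_spec t).2.2.2

/-- Elements of order three of the centraliser are conjugate into the elementary group. -/
theorem three_conj {a : PSLF} (ha : a * sP = sP * a) (ha3 : a ^ 3 = 1) :
    ∃ (c : PSLF) (t : Multiplicative (ZMod 3 × ZMod 3)), c * sP = sP * c ∧ c * a * c⁻¹ = pr (EsHom t) := by
  haveI : Fact (Nat.Prime 3) := ⟨Nat.prime_three⟩
  have hEp : IsPGroup 3 Es := IsPGroup.of_card (n := 2) (by rw [card_Es]; norm_num)
  obtain ⟨P, hP⟩ := hEp.exists_le_sylow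
  have hPE : (P : Subgroup _) = Es := by
    refine (Subgroup.eq_of_le_of_card_ge hP ?_).symm
    rw [card_Es]
    have hd : Nat.card (P : Subgroup (Subgroup.centralizer ({sP} : Set PSLF))) ∣ 1152 :=
      card_cent_sP ▸ Subgroup.card_subgroup_dvd_card _
    obtain ⟨n, hn⟩ := IsPGroup.iff_card.1 P.2
    rw [hn] at hd ⊢
    have : n ≤ 2 := by
      by_contra h
      have h27 : 3 ^ 3 ∣ 1152 := (pow_dvd_pow 3 (by omega : 3 ≤ n)).trans hd
      norm_num at h27
    exact (Nat.pow_le_pow_right (by norm_num) this).trans (by norm_num)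
  have hp : IsPGroup 3 (Subgroup.zpowers (⟨a, Subgroup.mem_centralizer_singleton_iff.2 ha⟩ :
      Subgroup.centralizer ({sP} : Set PSLF))) := by
    refine IsPGroup.of_card_dvd_pow (n := 1) ?_
    rw [Nat.card_zpowers, pow_one]
    exact orderOf_dvd_of_pow_eq_one (Subtype.ext (by rw [SubgroupClass.coe_pow]; exact ha3))
  obtain ⟨Q, hQ⟩ := hp.exists_le_sylow
  obtain ⟨c, hc⟩ := MulAction.exists_smul_eq (Subgroup.centralizer ({sP} : Set PSLF)) Q P
  have h1 : c * ⟨a, Subgroup.mem_centralizer_singleton_iff.2 ha⟩ * c⁻¹ ∈ (P : Subgroup _) := by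
    rw [← hc, Sylow.coe_subgroup_smul]
    exact ⟨_, hQ (Subgroup.mem_zpowers _), rfl⟩
  rw [hPE] at h1
  obtain ⟨t, ht⟩ := h1
  exact ⟨c, t, Subgroup.mem_centralizer_singleton_iff.1 c.2, (congrArg Subtype.val ht).symm⟩

theorem zc_three {a : PSLF} (ha : a * sP = sP * a) (ha3 : a ^ 3 = 1) : ZC a := by
  obtain ⟨c, t, -, e⟩ := three_conj ha ha3
  have h : ZC (pr (EsHom t)) := ⟨1, by
    rw [one_mul, inv_one, mul_one, Commute, SemiconjBy, zP, ← map_mul, ← map_mul, (EsHom_spec t).2.1]⟩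
  have := zc_conj h c⁻¹
  rwa [← e, show c⁻¹ * (c * a * c⁻¹) * c⁻¹⁻¹ = a by group] at this

section Group

variable {G : Type u} [Group G] [Finite G] (f : PSLF →* G) (hf : Function.Injective f)
  (hz : ∀ g : G, g * f zP * g⁻¹ ∈ f.range → g ∈ f.range)
  (hb : Subgroup.centralizer ({f (pr (zMat * eMat⁻¹))} : Set G) ≤ f.range)
  (hb' : Subgroup.centralizer ({f (pr (zMat * eMat))} : Set G) ≤ f.range)

theorem cent_conj_le {x : PSLF} (h : Subgroup.centralizer ({f x} : Set G) ≤ f.range) (c : PSLF) :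
    Subgroup.centralizer ({f (c * x * c⁻¹)} : Set G) ≤ f.range := by
  intro g hg
  have e := Subgroup.mem_centralizer_singleton_iff.1 hg
  rw [map_mul, map_mul, map_inv] at e
  have h1 : (f c)⁻¹ * g * f c ∈ f.range := h (Subgroup.mem_centralizer_singleton_iff.2 (by
    calc (f c)⁻¹ * g * f c * f x = (f c)⁻¹ * (g * (f c * f x * (f c)⁻¹)) * f c := by group
      _ = _ := by rw [e]; group))
  have := f.range.mul_mem (f.range.mul_mem ⟨c, rfl⟩ h1) (f.range.inv_mem ⟨c, rfl⟩)
  simpa [mul_assoc] using this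

include hz in
theorem cent_zP_le : Subgroup.centralizer ({f zP} : Set G) ≤ f.range := fun g hg => hz g (by
  rw [Subgroup.mem_centralizer_singleton_iff.1 hg, mul_inv_cancel_right]
  exact ⟨_, rfl⟩)

theorem cent_inv_le {x : PSLF} (h : Subgroup.centralizer ({f x} : Set G) ≤ f.range) :
    Subgroup.centralizer ({f x⁻¹} : Set G) ≤ f.range := fun g hg => h (by
  rw [Subgroup.mem_centralizer_singleton_iff] at hg ⊢
  rw [map_inv] at hg
  exact (Commute.inv_right_iff.1 hg))

include hz hb hb'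

theorem cent_three_le {a : PSLF} (ha : a * sP = sP * a) (ha3 : a ^ 3 = 1) (ha1 : a ≠ 1) :
    Subgroup.centralizer ({f a} : Set G) ≤ f.range := by
  obtain ⟨c, t, -, e⟩ := three_conj ha ha3
  rw [show a = c⁻¹ * pr (EsHom t) * c⁻¹⁻¹ by rw [← e]; group]
  refine cent_conj_le f ?_ _
  have hz1 := cent_zP_le f hz
  have ht : t ≠ 1 := by
    rintro rfl
    refine ha1 ?_
    rw [map_one, map_one, mul_inv_eq_one] at e
    exact mul_eq_left.1 e
  rcases EsHom_types t ht with h | h | h | h | h | h | h | h <;> rw [h]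
  · exact hz1
  · rw [map_inv]; exact cent_inv_le f hz1
  · simpa only [zP, map_mul, map_inv] using cent_conj_le f hz1 (pr PwS)
  · simpa only [zP, map_mul, map_inv] using cent_conj_le f (cent_inv_le f hz1) (pr PwS)
  · exact hb'
  · rw [map_mul, map_mul pr dgS, map_inv]; exact cent_conj_le f hb' _
  · exact hb
  · rw [map_mul, map_mul pr dgS, map_inv]; exact cent_conj_le f hb _

/-- Elements of order three of the centraliser are strong. -/
theorem strong_three {a : PSLF} (ha : a * sP = sP * a) (ha3 : a ^ 3 = 1) (ha1 : a ≠ 1) {g : G}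
    (hg : g ∈ Subgroup.centralizer ({f sP} : Set G)) (h : g * f a * g⁻¹ ∈ f.range) (hf' : Function.Injective f) :
    g ∈ f.range := by
  obtain ⟨a', ha'⟩ := h
  have hgs := Subgroup.mem_centralizer_singleton_iff.1 hg
  have hca' : a' * sP = sP * a' := by
    refine hf' ?_
    rw [map_mul, map_mul, ha']
    have h1 : f a * f sP = f sP * f a := by rw [← map_mul, ← map_mul, ha]
    have h2 : g⁻¹ * f sP = f sP * g⁻¹ := (show Commute g (f sP) from hgs).inv_left.eq
    calc g * f a * g⁻¹ * f sP = g * (f a * f sP) * g⁻¹ := by rw [mul_assoc (g * f a), h2]; group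
      _ = (g * f sP) * f a * g⁻¹ := by rw [h1]; group
      _ = _ := by rw [hgs]; group
  have ha'3 : a' ^ 3 = 1 := hf' (by
    rw [map_pow, ha', conj_pow, ← map_pow, ha3, map_one, mul_one, mul_inv_cancel])
  have ha'1 : a' ≠ 1 := by
    rintro rfl
    rw [map_one, eq_comm, mul_inv_eq_one, mul_eq_left, ← map_one f] at ha'
    exact ha1 (hf' ha')
  obtain ⟨c, hc, hcg⟩ := fusion f hz (zc_three ha ha3) (zc_three hca' ha'3) ha'.symm
  have hcr := cent_three_le f hz hb hb' hca' ha'3 ha'1 hc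
  simpa using f.range.mul_mem (f.range.inv_mem hcr) hcg

end Group

end Cfsg.Agent.Spor.PSLFourThree
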