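import Cfsg.Agent.Lib.Spor.PSLFourThree.JCase.Class
import Cfsg.Agent.Lib.Spor.PSLFourThree.PairModel

/-!
# The centraliser of the involution with fixed planes
-/

set_option autoImplicit false
set_option linter.unusedSectionVars false
set_option maxRecDepth 100000

namespace Cfsg.Agent.Spor.PSLFourThree.SModel

open Matrix JCase

/-- Two by two matrices. -/
abbrev M2 := Matrix (Fin 2) (Fin 2) (ZMod 3)

/-- A matrix with two blocks. -/
def D4 (A B : M2) : M4 :=
  !![A 0 0, A 0 1, 0, 0; A 1 0, A 1 1, 0, 0; 0, 0, B 0 0, B 0 1; 0, 0, B 1 0, B 1 1]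

theorem D4_mul (A B C E : M2) : D4 A B * D4 C E = D4 (A * C) (B * E) := by
  ext i j
  fin_cases i <;> fin_cases j <;> simp [D4, Matrix.mul_apply, Fin.sum_univ_four, Fin.sum_univ_two]

theorem det_D4 (A B : M2) : (D4 A B).det = A.det * B.det := by
  rw [Matrix.det_fin_two, Matrix.det_fin_two, Matrix.det_succ_row_zero]
  simp [D4, Matrix.det_fin_three, Fin.sum_univ_four, Matrix.submatrix, Fin.succAbove]
  ring

/-- The exchange of the blocks. -/
def Pw : M4 := !![0, 0, 1, 0; 0, 0, 0, 1; 1, 0, 0, 0; 0, 1, 0, 0]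

theorem Pw_facts : Pw * Pw = 1 ∧ Pw.det = 1 := by decide +kernel

theorem Pw_D4 (A B : M2) : Pw * D4 A B = D4 B A * Pw := by
  ext i j
  fin_cases i <;> fin_cases j <;> simp [D4, Pw, Matrix.mul_apply, Fin.sum_univ_four]

/-- Powers of the exchange. -/
def sw (s : Bool) : M4 := if s then Pw else 1

theorem sw_mul : ∀ s t : Bool, sw s * sw t = sw (s.xor t) := by decide +kernel

theorem sw_det : ∀ s : Bool, (sw s).det = 1 := by decide +kernel

theorem sw_D4 : ∀ (s : Bool) (A B : M2), sw s * D4 A B = D4 (bif s then B else A) (bif s then A else B) * sw s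
  | false, A, B => by simp [sw]
  | true, A, B => by simp [sw, Pw_D4]

/-- The quaternions. -/
def qv : Fin 4 → M2 :=
  ![1, !![0, 1; -1, 0], !![1, 1; 1, -1], !![1, -1; -1, -1]]

/-- Powers of the rotation. -/
def rp : Fin 3 → M2 := ![1, !![1, 1; 0, 1], !![1, -1; 0, 1]]

/-- A block. -/
def blk (v : Fin 4) (i : Fin 3) (e : Bool) : M2 := qv v * rp i * (if e then !![1, 0; 0, -1] else 1)

theorem blk_mul : ∀ (v w : Fin 4) (i j : Fin 3) (e f : Bool),
    blk v i e * blk w j f = blk (Pr.vad v (Pr.act i e w)) (i + Pr.sg e j) (e.xor f) ∨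
    blk v i e * blk w j f = -blk (Pr.vad v (Pr.act i e w)) (i + Pr.sg e j) (e.xor f) := by decide +kernel

theorem blk_det : ∀ (v : Fin 4) (i : Fin 3) (e : Bool), (blk v i e).det = if e then -1 else 1 := by decide +kernel

theorem blk_inj : ∀ (v w : Fin 4) (i j : Fin 3) (e f : Bool),
    (blk v i e = blk w j f ∨ blk v i e = -blk w j f) → v = w ∧ i = j ∧ e = f := by decide +kernel

theorem blk_surj : ∀ a b c d : ZMod 3, a * d - b * c ≠ 0 → ∃ (v : Fin 4) (i : Fin 3) (e : Bool),
    (!![a, b; c, d] : M2) = blk v i e ∨ (!![a, b; c, d] : M2) = -blk v i e := by decide +kernel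

/-- The matrix of a pair. -/
def mat (x : Pr) : M4 := D4 (blk x.v x.i x.e) (blk x.w x.j x.e) * sw x.s

theorem det_mat (x : Pr) : (mat x).det = 1 := by
  rw [mat, Matrix.det_mul, det_D4, sw_det, blk_det, blk_det, mul_one]
  cases x.e <;> decide

/-- The element of a pair. -/
def el (x : Pr) : SLF := ⟨mat x, det_mat x⟩

theorem el_coe (x : Pr) : (el x : M4) = mat x := rfl

theorem sMat_D4 : (sMat : M4) = D4 (-1) 1 := by decide +kernel

theorem neg_D4 (A B : M2) : -D4 A B = D4 (-A) (-B) := by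
  ext i j
  fin_cases i <;> fin_cases j <;> simp [D4]

theorem el_comm (x : Pr) : sP * pr (el x) = pr (el x) * sP := by
  rw [sP, ← map_mul, ← map_mul, pr_eq_iff, Matrix.SpecialLinearGroup.coe_mul, Matrix.SpecialLinearGroup.coe_mul,
    el_coe, sMat_D4, mat]
  rw [← mul_assoc, D4_mul, mul_assoc, sw_D4, ← mul_assoc, D4_mul]
  cases x.s
  · left; simp
  · right
    simp [← Matrix.neg_mul, neg_D4]

theorem pr_cases {g h : SLF} {A B C E : M2} {s : Bool} (hg : (g : M4) = D4 A B * sw s)
    (hh : (h : M4) = D4 C E * sw s) (hA : A = C ∨ A = -C) (hB : B = E ∨ B = -E) :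
    pr g = pr h ∨ pr g = sP * pr h := by
  rw [sP, ← map_mul, pr_eq_iff, pr_eq_iff, Matrix.SpecialLinearGroup.coe_mul, hg, hh, sMat_D4, ← mul_assoc, D4_mul]
  rcases hA with rfl | rfl <;> rcases hB with rfl | rfl
  · exact Or.inl (Or.inl rfl)
  · exact Or.inr (Or.inr (by simp [← Matrix.neg_mul, neg_D4]))
  · exact Or.inr (Or.inl (by simp))
  · exact Or.inl (Or.inr (by simp [← Matrix.neg_mul, neg_D4]))

theorem el_mul (x y : Pr) : pr (el x) * pr (el y) = pr (el (x * y)) ∨
    pr (el x) * pr (el y) = sP * pr (el (x * y)) := by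
  obtain ⟨xv, xw, xi, xj, xe, xs⟩ := x
  obtain ⟨yv, yw, yi, yj, ye, ys⟩ := y
  rw [← map_mul]
  refine pr_cases (s := xs.xor ys)
    (A := blk xv xi xe * blk (bif xs then yw else yv) (bif xs then yj else yi) ye)
    (B := blk xw xj xe * blk (bif xs then yv else yw) (bif xs then yi else yj) ye) ?_ rfl
    (blk_mul _ _ _ _ _ _) (blk_mul _ _ _ _ _ _)
  rw [Matrix.SpecialLinearGroup.coe_mul, el_coe, el_coe, mat, mat, mul_assoc, ← mul_assoc (sw xs), sw_D4,
    mul_assoc (D4 _ _), sw_mul, ← mul_assoc, D4_mul]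
  cases xs <;> rfl

theorem D4_ext {A B C E : M2} (h : D4 A B = D4 C E) : A = C ∧ B = E := by
  constructor
  · ext i j
    fin_cases i <;> fin_cases j
    · simpa [D4] using congrFun (congrFun h 0) 0
    · simpa [D4] using congrFun (congrFun h 0) 1
    · simpa [D4] using congrFun (congrFun h 1) 0
    · simpa [D4] using congrFun (congrFun h 1) 1
  · ext i j
    fin_cases i <;> fin_cases j
    · simpa [D4] using congrFun (congrFun h 2) 2
    · simpa [D4] using congrFun (congrFun h 2) 3
    · simpa [D4] using congrFun (congrFun h 3) 2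
    · simpa [D4] using congrFun (congrFun h 3) 3

theorem el_eq_one {x : Pr} (h : pr (el x) = 1 ∨ pr (el x) = sP) : x = 1 := by
  obtain ⟨v, w, i, j, e, s⟩ := x
  have h1 : (1 : M4) = D4 1 1 := by decide +kernel
  have key : ∀ A B : M2, (A = 1 ∨ A = -1) → (B = 1 ∨ B = -1) → D4 (blk v i e) (blk w j e) * sw s = D4 A B →
      (⟨v, w, i, j, e, s⟩ : Pr) = 1 := by
    intro A B hA hB he
    cases s
    · obtain ⟨ha, hb⟩ := D4_ext (by simpa [sw] using he)
      have hone : blk 0 0 false = 1 := by decide +kernel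
      obtain ⟨rfl, rfl, rfl⟩ := blk_inj v 0 i 0 e false (by rw [hone, ha]; exact hA)
      obtain ⟨rfl, rfl, -⟩ := blk_inj w 0 j 0 false false (by rw [hone, hb]; exact hB)
      rfl
    · exfalso
      have hd := congrArg (fun m : M4 => (m * Pw) 0 2) he
      have e0 : D4 (blk v i e) (blk w j e) * sw true * Pw = D4 (blk v i e) (blk w j e) := by
        rw [mul_assoc, show sw true = Pw from rfl, Pw_facts.1, mul_one]
      have e1 := congrFun (congrFun e0 0) 0
      have e2 := congrFun (congrFun e0 0) 1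
      rw [he] at e1 e2
      have hv := blk_det v i e
      rw [Matrix.det_fin_two] at hv
      simp [D4, Pw, Matrix.mul_apply, Fin.sum_univ_four] at e1 e2
      rw [← e1, ← e2] at hv
      cases e <;> simp at hv
  rcases h with h | h
  · rw [show (1 : PSLF) = pr 1 from (map_one pr).symm, pr_eq_iff, el_coe, mat, Matrix.SpecialLinearGroup.coe_one,
      h1, neg_D4] at h
    rcases h with h | h
    · exact key 1 1 (Or.inl rfl) (Or.inl rfl) h
    · exact key _ _ (Or.inr rfl) (Or.inr rfl) h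
  · rw [sP, pr_eq_iff, el_coe, mat, sMat_D4, neg_D4, neg_neg] at h
    rcases h with h | h
    · exact key _ _ (Or.inr rfl) (Or.inl rfl) h
    · exact key _ _ (Or.inl rfl) (Or.inr rfl) h

/-- The first block. -/
def bl1 (g : M4) : M2 := !![g 0 0, g 0 1; g 1 0, g 1 1]

/-- The second block. -/
def bl2 (g : M4) : M2 := !![g 2 2, g 2 3; g 3 2, g 3 3]

theorem double_zero : ∀ a : ZMod 3, (a = -a → a = 0) ∧ (-a = a → a = 0) := by decide

theorem eq_D4 {g : M4} (h : g * D4 (-1) 1 = D4 (-1) 1 * g) : g = D4 (bl1 g) (bl2 g) := by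
  ext i j
  have e := congrFun (congrFun h i) j
  fin_cases i <;> fin_cases j <;> simp [D4, bl1, bl2, Matrix.mul_apply, Fin.sum_univ_four] at e ⊢ <;>
    first
    | exact (double_zero _).1 e
    | exact (double_zero _).2 e

/-- Every element commuting with the involution comes from a pair. -/
theorem cover {z : PSLF} (hz : z * sP = sP * z) : ∃ x : Pr, z = pr (el x) ∨ z = sP * pr (el x) := by
  obtain ⟨g, rfl⟩ := QuotientGroup.mk'_surjective (Subgroup.center SLF) z
  change pr g * sP = sP * pr g at hz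
  show ∃ x : Pr, pr g = pr (el x) ∨ pr g = sP * pr (el x)
  rw [sP, ← map_mul, ← map_mul, pr_eq_iff, Matrix.SpecialLinearGroup.coe_mul,
    Matrix.SpecialLinearGroup.coe_mul, sMat_D4] at hz
  obtain ⟨s, hs⟩ : ∃ s : Bool, (g : M4) * sw s * D4 (-1) 1 = D4 (-1) 1 * ((g : M4) * sw s) := by
    rcases hz with h | h
    · exact ⟨false, by simpa [sw] using h⟩
    · refine ⟨true, ?_⟩
      rw [show sw true = Pw from rfl, mul_assoc, Pw_D4, ← mul_assoc, ← mul_assoc]
      congr 1
      calc (g : M4) * D4 1 (-1) = -((g : M4) * D4 (-1) 1) := by rw [← mul_neg, neg_D4, neg_neg]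
        _ = _ := by rw [h, neg_neg]
  have he := eq_D4 hs
  set A := bl1 ((g : M4) * sw s)
  set B := bl2 ((g : M4) * sw s)
  have hd : A.det * B.det = 1 := by
    rw [← det_D4, ← he, Matrix.det_mul, g.2, sw_det, one_mul]
  have hAB : A.det ≠ 0 ∧ B.det ≠ 0 := ⟨left_ne_zero_of_mul_eq_one hd, right_ne_zero_of_mul_eq_one hd⟩
  have get : ∀ C : M2, C.det ≠ 0 → ∃ (v : Fin 4) (i : Fin 3) (e : Bool), C = blk v i e ∨ C = -blk v i e := by
    intro C hC
    rw [Matrix.eta_fin_two C] at hC ⊢
    exact blk_surj _ _ _ _ (by simpa [Matrix.det_fin_two] using hC)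
  obtain ⟨v, i, e, hA⟩ := get A hAB.1
  obtain ⟨w, j, f, hB⟩ := get B hAB.2
  obtain rfl : e = f := by
    have hn : ∀ C : M2, (-C).det = C.det := fun C => by simp [Matrix.det_neg]
    have dA : A.det = (blk v i e).det := by rcases hA with h | h <;> rw [h]; exact hn _
    have dB : B.det = (blk w j f).det := by rcases hB with h | h <;> rw [h]; exact hn _
    rw [dA, dB, blk_det, blk_det] at hd
    revert hd
    cases e <;> cases f <;> decide
  refine ⟨⟨v, w, i, j, e, s⟩, pr_cases (s := s) (A := A) (B := B) ?_ rfl hA hB⟩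
  rw [← he, mul_assoc, sw_mul, Bool.xor_self]
  simp [sw]

end Cfsg.Agent.Spor.PSLFourThree.SModel
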