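import Cfsg.Agent.Lib.Spor.PSLFourThree.SCase

/-!
# The centraliser of the first involution lies inside
-/

set_option autoImplicit false
set_option linter.unusedSectionVars false
set_option linter.style.haveILetI false
set_option maxRecDepth 100000

namespace Cfsg.Agent.Spor.PSLFourThree

open Matrix JCase

universe u

theorem el_square : ∀ x : Pr, (SModel.mat x * SModel.mat x = (sMat : M4) ∨ SModel.mat x * SModel.mat x = -(sMat : M4)) →
    Pr.inV x := by decide +kernel

theorem el_v0_sq : pr (SModel.el Pr.v0) * pr (SModel.el Pr.v0) = sP := by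
  rw [sP, ← map_mul, pr_eq_iff, Matrix.SpecialLinearGroup.coe_mul, SModel.el_coe]
  decide +kernel

theorem el_sq_inV {x : Pr} (h : pr (SModel.el x) * pr (SModel.el x) = sP) : Pr.inV x := by
  rw [sP, ← map_mul, pr_eq_iff, Matrix.SpecialLinearGroup.coe_mul, SModel.el_coe] at h
  exact el_square x h

theorem el_comm' (x : Pr) : pr (SModel.el x) * sP = sP * pr (SModel.el x) := (SModel.el_comm x).symm

theorem el_pow_facts {x : Pr} (h3 : x * x * x = 1) (h1 : x ≠ 1) :
    pr (SModel.el x) ^ 12 = 1 ∧ pr (SModel.el x) ^ 4 ≠ 1 := by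
  set a := pr (SModel.el x) with ha
  have hone : pr (SModel.el 1) = 1 := by
    rw [show SModel.el 1 = 1 by decide +kernel, map_one]
  have hc : sP * a = a * sP := SModel.el_comm x
  have hp : ∀ n : ℕ, a ^ n = pr (SModel.el (x ^ n)) ∨ a ^ n = sP * pr (SModel.el (x ^ n)) := by
    intro n
    induction n with
    | zero => left; rw [pow_zero, pow_zero, hone]
    | succ n ih =>
      rw [pow_succ, pow_succ]
      rcases ih with e | e <;> rcases SModel.el_mul (x ^ n) x with e' | e' <;> rw [e]
      · exact Or.inl e'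
      · exact Or.inr e'
      · right; rw [mul_assoc, e']
      · left; rw [mul_assoc, e', ← mul_assoc, sP_sq, one_mul]
  have hx3 : x ^ 3 = 1 := by rw [pow_succ, pow_two, h3]
  constructor
  · have h6 : a ^ 3 = 1 ∨ a ^ 3 = sP := by
      rcases hp 3 with e | e <;> rw [hx3, hone] at e
      · exact Or.inl e
      · exact Or.inr (by rw [e, mul_one])
    rcases h6 with e | e <;> rw [show 12 = 3 * 4 from rfl, pow_mul, e]
    · rw [one_pow]
    · rw [pow_succ, pow_succ, pow_two, sP_sq, one_mul, sP_sq]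
  · intro h4
    have hx : x ^ 4 = x := by rw [pow_succ, hx3, one_mul]
    refine h1 (SModel.el_eq_one ?_)
    rcases hp 4 with e | e <;> rw [h4, hx] at e
    · exact Or.inl e.symm
    · refine Or.inr ?_
      have := congrArg (fun y => sP * y) e
      simpa [← mul_assoc, sP_sq] using this.symm

variable {G : Type u} [Group G] [Finite G] (f : PSLF →* G) (hf : Function.Injective f)
  (hz : ∀ g : G, g * f zP * g⁻¹ ∈ f.range → g ∈ f.range)
  (hb : Subgroup.centralizer ({f (pr (zMat * eMat⁻¹))} : Set G) ≤ f.range)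
  (hb' : Subgroup.centralizer ({f (pr (zMat * eMat))} : Set G) ≤ f.range)

include hf hz hb hb'

theorem cent_sP_le : Subgroup.centralizer ({f sP} : Set G) ≤ f.range := by
  set C := Subgroup.centralizer ({f sP} : Set G) with hC
  set s : C := ⟨f sP, Subgroup.mem_centralizer_singleton_iff.2 rfl⟩ with hs
  have hscomm : ∀ g : C, g * s = s * g := fun g => Subtype.ext (Subgroup.mem_centralizer_singleton_iff.1 g.2)
  have hs2 : s * s = 1 := Subtype.ext (by show f sP * f sP = 1; rw [← map_mul, sP_sq, map_one])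
  set Z : Subgroup C := Subgroup.zpowers s with hZ
  haveI : Z.Normal := ⟨fun z hzz g => by
    obtain ⟨k, rfl⟩ := Subgroup.mem_zpowers_iff.1 hzz
    rw [← conj_zpow, hscomm g, mul_inv_cancel_right]
    exact _root_.zpow_mem (Subgroup.mem_zpowers _) k⟩
  set π : C →* C ⧸ Z := QuotientGroup.mk' Z with hπ
  have hπs : π s = 1 := (QuotientGroup.eq_one_iff s).2 (Subgroup.mem_zpowers _)
  have hker : ∀ {z : C}, π z = 1 → z = 1 ∨ z = s := by
    intro z hzz
    obtain ⟨k, rfl⟩ := Subgroup.mem_zpowers_iff.1 ((QuotientGroup.eq_one_iff z).1 hzz)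
    rcases Int.even_or_odd k with ⟨r, rfl⟩ | ⟨r, rfl⟩
    · left; rw [← two_mul, _root_.zpow_mul, zpow_two, hs2, _root_.one_zpow]
    · right; rw [_root_.zpow_add, _root_.zpow_mul, zpow_two, hs2, _root_.one_zpow, one_mul, _root_.zpow_one]
  let σ : Pr → C := fun x => ⟨f (pr (SModel.el x)), Subgroup.mem_centralizer_singleton_iff.2 (by
    rw [← map_mul, ← map_mul, el_comm'])⟩
  have hσ : ∀ x, (σ x : G) = f (pr (SModel.el x)) := fun _ => rfl
  let φ : Pr →* C ⧸ Z := MonoidHom.mk' (fun x => π (σ x)) fun x y => by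
    rcases SModel.el_mul x y with e | e
    · rw [← map_mul]
      exact congrArg π (Subtype.ext (by rw [Subgroup.coe_mul, hσ, hσ, hσ, ← map_mul, e]))
    · rw [show π (σ (x * y)) = π (s * σ (x * y)) by rw [map_mul, hπs, one_mul], ← map_mul]
      refine congrArg π (Subtype.ext ?_)
      rw [Subgroup.coe_mul, Subgroup.coe_mul, hσ, hσ, hσ, ← map_mul f (pr (SModel.el x)), e, map_mul f sP]
  have hφ : ∀ x, φ x = π (σ x) := fun _ => rfl
  have hinj : Function.Injective φ := (injective_iff_map_eq_one φ).2 fun x hx => by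
    refine SModel.el_eq_one ?_
    rcases hker (hφ x ▸ hx) with e | e
    · exact Or.inl (hf ((congrArg Subtype.val e).trans f.map_one.symm))
    · exact Or.inr (hf (congrArg Subtype.val e))
  have hlift : ∀ {g : C} {x : Pr}, π g = φ x → (g : G) ∈ f.range := by
    intro g x h
    rcases hker (z := (σ x)⁻¹ * g) (by rw [map_mul, map_inv, h, hφ, inv_mul_cancel]) with e | e
    · rw [inv_mul_eq_one] at e
      exact ⟨_, congrArg Subtype.val e⟩
    · rw [inv_mul_eq_iff_eq_mul] at e
      exact ⟨pr (SModel.el x) * sP, by rw [e, map_mul]; rfl⟩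
  have hin : ∀ {g : C}, (g : G) ∈ f.range → π g ∈ φ.range := by
    intro g hg
    obtain ⟨y, hy⟩ := hg
    have hys : y * sP = sP * y := hf (by
      rw [map_mul, map_mul, hy]; exact Subgroup.mem_centralizer_singleton_iff.1 g.2)
    obtain ⟨x, e | e⟩ := SModel.cover hys
    · exact ⟨x, (congrArg π (Subtype.ext (by rw [← hy, e, hσ]) : g = σ x)).symm⟩
    · refine ⟨x, ?_⟩
      rw [show g = s * σ x from Subtype.ext (by rw [Subgroup.coe_mul, ← hy, e, hσ, map_mul]), map_mul, hπs,
        one_mul]
      rfl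
  let T : PairCfg (C ⧸ Z) :=
    { φ := φ
      inj := hinj
      key := fun x h3 h1 Y hY => by
        obtain ⟨g, rfl⟩ := QuotientGroup.mk'_surjective Z Y
        obtain ⟨hp12, hp4⟩ := el_pow_facts h3 h1
        refine hin (strong_three f hz hb hb' (a := pr (SModel.el x) ^ 4) ?_ (by rw [← pow_mul]; exact hp12) hp4
          g.2 ?_ hf)
        · exact ((show Commute (pr (SModel.el x)) sP from el_comm' x).pow_left 4).eq
        · obtain ⟨x', hx'⟩ := hY
          have := hlift (g := g * σ x * g⁻¹) (x := x') (by rw [map_mul, map_mul, map_inv, ← hφ]; exact hx'.symm)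
          have h4 := f.range.pow_mem this 4
          rw [map_pow]
          convert h4 using 1
          rw [Subgroup.coe_mul, Subgroup.coe_mul, InvMemClass.coe_inv, conj_pow, hσ]
      hv := fun Y x hY => by
        obtain ⟨g, rfl⟩ := QuotientGroup.mk'_surjective Z Y
        refine el_sq_inV (hf ?_)
        have hsv : σ Pr.v0 * σ Pr.v0 = s := Subtype.ext (by
          rw [Subgroup.coe_mul, hσ, ← map_mul, el_v0_sq])
        have hsq : g * s * g⁻¹ = s := by rw [hscomm g, mul_inv_cancel_right]
        have h2 : g * σ Pr.v0 * g⁻¹ * (g * σ Pr.v0 * g⁻¹) = s := by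
          rw [show g * σ Pr.v0 * g⁻¹ * (g * σ Pr.v0 * g⁻¹) = g * (σ Pr.v0 * σ Pr.v0) * g⁻¹ by group, hsv, hsq]
        have hgx : σ x * σ x = s := by
          rcases hker (z := (σ x)⁻¹ * (g * σ Pr.v0 * g⁻¹)) (by
            rw [map_mul, map_inv, ← hφ, ← hY, map_mul, map_mul, map_inv, hφ, inv_mul_cancel]) with e | e
          · rw [inv_mul_eq_one] at e
            rwa [← e] at h2
          · rw [inv_mul_eq_iff_eq_mul] at e
            rwa [e, mul_assoc, ← mul_assoc s (σ x) s, ← hscomm (σ x), mul_assoc (σ x) s s, hs2, mul_one] at h2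
        rw [map_mul]
        exact congrArg Subtype.val hgx }
  intro g hg
  have h : π ⟨g, hg⟩ ∈ T.φ.range := T.range_eq_top ▸ Subgroup.mem_top _
  obtain ⟨x, hx⟩ := h
  exact hlift (g := ⟨g, hg⟩) hx.symm

end Cfsg.Agent.Spor.PSLFourThree
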