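import Cfsg.Agent.Lib.Spor.PSLFourThree.Line
import Mathlib.GroupTheory.Sylow

/-!
The abelian subgroup of order `81` and its automorphisms; the middle blocks agree.
-/

set_option autoImplicit false
set_option linter.unusedSectionVars false
set_option linter.style.haveILetI false
set_option maxRecDepth 100000

namespace Cfsg.Agent.Spor.PSLFourThree

open Cfsg.Agent.Lie.CTA Matrix

local notation "SL2" => Matrix.SpecialLinearGroup (Fin 2) (ZMod 3)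
local notation "F4" => Fin 4 → ZMod 3
local notation "M4" => Matrix (Fin 4) (Fin 4) (ZMod 3)

/-- A unipotent element in the last column. -/
def ww (c d : ZMod 3) : L3 := ⟨!![1, 0, c; 0, 1, d; 0, 0, 1], by revert c d; decide⟩

theorem ww_add : ∀ a b c d : ZMod 3, ww a b * ww c d = ww (a + c) (b + d) := by decide +kernel

theorem ww_inj : ∀ a b c d : ZMod 3, ww a b = ww c d → a = c ∧ b = d := by decide +kernel

theorem ww_fix : ∀ c d a b : ZMod 3, (ww c d).1 *ᵥ ![a, b, 0] = ![a, b, 0] := by decide +kernel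

theorem ww_uu : ∀ c : ZMod 3, ww c 0 = uu 0 c := by decide +kernel

theorem ww_mid : ww 0 1 = b23 (ue 1) := by decide +kernel

/-- An upper unitriangular element. -/
def ug (a b c : ZMod 3) : L3 := ⟨!![1, a, b; 0, 1, c; 0, 0, 1], by rw [det_fin_three]; simp⟩

/-- The action of the outer left block. -/
def hl (g : SL2) : M4 := !![g.1 0 0, g.1 0 1, 0, 0; g.1 1 0, g.1 1 1, 0, 0; 0, 0, g.1 0 0, g.1 0 1; 0, 0, g.1 1 0, g.1 1 1]

/-- The action of the outer right block. -/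
def hr (g : SL2) (m : ZMod 3) : M4 :=
  let H := (theta g).1
  !![H 1 1, m * H 0 1, H 1 0, m * (H 0 0 - H 1 1); 0, H 1 1, 0, H 1 0; H 0 1, 0, H 0 0, -m * H 0 1; 0, H 0 1, 0, H 0 0]

theorem hl_facts : ∀ (g : SL2) (a b : ZMod 3),
    (b12 g).1 *ᵥ ![a, b, 0] = ![g.1 0 0 * a + g.1 0 1 * b, g.1 1 0 * a + g.1 1 1 * b, 0] ∧
    b12 g * ww a b * (b12 g)⁻¹ = ww (g.1 0 0 * a + g.1 0 1 * b) (g.1 1 0 * a + g.1 1 1 * b) := by decide +kernel

theorem hr_z : ∀ (g : SL2),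
    (th (b23 g)).1 *ᵥ b0 = ![(theta g).1 1 1, 0, (theta g).1 0 1] ∧
    (th (b23 g)).1 *ᵥ ![0, 0, 1] = ![(theta g).1 1 0, 0, (theta g).1 0 0] := by decide +kernel

theorem hr_uu : ∀ (g : SL2) (a b : ZMod 3),
    b23 g * uu a b * (b23 g)⁻¹ =
      uu ((theta g).1 0 0 * a + (theta g).1 0 1 * b) ((theta g).1 1 0 * a + (theta g).1 1 1 * b) := by decide +kernel

theorem word_nine : ∀ m : ZMod 3, m ≠ 0 →
    let M := hr (ue 1) m * hr (ue 1) m * hr (le' 1) m * hl (le' 1) * hr (le' 1) m * hl (le' 1)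
    (M * M) ^ 9 = 1 ∧ (M * M) ^ 3 ≠ 1 := by decide +kernel

theorem ut_normal : ∀ a b c x2 c' d' : ZMod 3, ∀ x : V, x 2 = x2 →
    (ww c' d').1 *ᵥ x = ![c' * x2, d' * x2, 0] + x ∧
    (!![1, a, b; 0, 1, c; 0, 0, 1] : Matrix (Fin 3) (Fin 3) (ZMod 3)) *ᵥ ![c', d', 0] = ![c' + a * d', d', 0] ∧
    (!![1, a, b; 0, 1, c; 0, 0, 1] : Matrix (Fin 3) (Fin 3) (ZMod 3)) * (ww c' d').1 =
      (ww (c' + a * d') d').1 * !![1, a, b; 0, 1, c; 0, 0, 1] := by
  intro a b c x2 c' d' x hx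
  subst hx
  refine ⟨?_, ?_, ?_⟩
  · ext i; fin_cases i <;> simp [ww, Matrix.mulVec, dotProduct, Fin.sum_univ_three] <;> ring
  · ext i; fin_cases i <;> simp [Matrix.mulVec, dotProduct, Fin.sum_univ_three]
  · ext i j; fin_cases i <;> fin_cases j <;> simp [ww, Matrix.mul_apply, Fin.sum_univ_three] <;> ring

theorem ut_cube : ∀ a b c : ZMod 3, ∀ x : V,
    let u : Matrix (Fin 3) (Fin 3) (ZMod 3) := !![1, a, b; 0, 1, c; 0, 0, 1]
    u * u * u = 1 ∧ ((1 + u + u * u) *ᵥ x) = ((1 + u + u * u) *ᵥ x) 0 • b0 := by decide +kernel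

theorem vec_combo : ∀ (m : ZMod 3) (v : F4), v =
    (v 0 - m * v 3).val • ![1, 0, 0, 0] + (v 1).val • ![0, 1, 0, 0] + (v 2).val • ![0, 0, 1, 0] +
      (v 3).val • ![m, 0, 0, 1] := by decide +kernel

theorem hr_cols : ∀ (g : SL2) (m : ZMod 3),
    hr g m *ᵥ ![1, 0, 0, 0] = ![(theta g).1 1 1, 0, (theta g).1 0 1, 0] ∧
    hr g m *ᵥ ![0, 1, 0, 0] = ![m * (theta g).1 0 1, (theta g).1 1 1, 0, (theta g).1 0 1] ∧
    hr g m *ᵥ ![0, 0, 1, 0] = ![(theta g).1 1 0, 0, (theta g).1 0 0, 0] ∧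
    hr g m *ᵥ ![m, 0, 0, 1] = ![m * (theta g).1 0 0, (theta g).1 1 0, 0, (theta g).1 0 0] := by decide +kernel

theorem sl2_words : ∀ g : SL2, ∃ a b c d : Fin 3,
    g = ue 1 ^ a.val * le' 1 ^ b.val * ue 1 ^ c.val * le' 1 ^ d.val := by decide +kernel

/-- The Weyl element of the block. -/
def wz : SL2 := ⟨!![0, 1; -1, 0], by decide⟩

theorem le_conj : (le' 1 : SL2) = wz * (ue (1 : ZMod 3))⁻¹ * wz⁻¹ := by decide +kernel

theorem Side.π_v {G : Type*} [Group G] (S : Side G) (x : V) (h : S.v x ∈ S.M) : S.π ⟨S.v x, h⟩ = 1 :=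
  (S.ker _).2 (S.v_mem x)

namespace Levis

variable {G : Type*} [Group G] [Finite G] {F : Frame G} (S : Levis F)

/-- Coordinates of the subgroup of order `81`. -/
def bv (v : F4) : G := F.L.v ![v 0, v 1, 0] * S.sL (ww (v 2) (v 3))

theorem ww_commute (a b c d : ZMod 3) : S.sL (ww c d) * F.L.v ![a, b, 0] = F.L.v ![a, b, 0] * S.sL (ww c d) := by
  have h := S.actL (ww c d) ![a, b, 0]
  rw [ww_fix] at h
  exact mul_inv_eq_iff_eq_mul.1 h

theorem bv_add (v w : F4) : S.bv (v + w) = S.bv v * S.bv w := by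
  show F.L.v ![v 0 + w 0, v 1 + w 1, 0] * S.sL (ww (v 2 + w 2) (v 3 + w 3)) =
    F.L.v ![v 0, v 1, 0] * S.sL (ww (v 2) (v 3)) * (F.L.v ![w 0, w 1, 0] * S.sL (ww (w 2) (w 3)))
  rw [← ww_add, map_mul, show (![v 0 + w 0, v 1 + w 1, 0] : V) = ![v 0, v 1, 0] + ![w 0, w 1, 0] by
      funext i; fin_cases i <;> simp, F.L.v_add, mul_assoc (F.L.v ![v 0, v 1, 0]) (S.sL _),
    ← mul_assoc (S.sL (ww (v 2) (v 3))), S.ww_commute]
  group

/-- The same as a homomorphism. -/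
def bb : Multiplicative F4 →* G := MonoidHom.mk' (fun v => S.bv v.toAdd) fun v w => S.bv_add v.toAdd w.toAdd

theorem bv_nsmul (n : ℕ) (v : F4) : S.bv (n • v) = S.bv v ^ n := by
  show S.bb (Multiplicative.ofAdd (n • v)) = _
  rw [ofAdd_nsmul, map_pow]
  rfl

theorem bv_comm (v w : F4) : S.bv v * S.bv w = S.bv w * S.bv v := by rw [← S.bv_add, add_comm, S.bv_add]

theorem bv_inj {v w : F4} (h : S.bv v = S.bv w) : v = w := by
  obtain ⟨p, hp⟩ := S.πL (ww (v 2) (v 3))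
  obtain ⟨q, hq⟩ := S.πL (ww (w 2) (w 3))
  have h1 := congrArg F.L.π (show (⟨F.L.v ![v 0, v 1, 0], F.L.le (F.L.v_mem _)⟩ : F.L.M) * ⟨_, p⟩ =
    ⟨F.L.v ![w 0, w 1, 0], F.L.le (F.L.v_mem _)⟩ * ⟨_, q⟩ from Subtype.ext h)
  rw [map_mul, map_mul, F.L.π_v, F.L.π_v, one_mul, one_mul, hp, hq] at h1
  obtain ⟨e2, e3⟩ := ww_inj _ _ _ _ h1
  rw [bv, bv, e2, e3] at h
  have h2 := F.L.v_inj (mul_right_cancel h)
  funext i
  fin_cases i
  exacts [congrFun h2 0, congrFun h2 1, e2, e3]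

theorem bv_z : S.bv ![1, 0, 0, 0] = F.z := by
  show F.L.v b0 * S.sL (ww 0 0) = F.z
  rw [show ww 0 0 = 1 by decide +kernel, map_one, mul_one, F.zL]

theorem bv_L (a b : ZMod 3) : S.bv ![a, b, 0, 0] = F.L.v ![a, b, 0] := by
  show F.L.v ![a, b, 0] * S.sL (ww 0 0) = _
  rw [show ww 0 0 = 1 by decide +kernel, map_one, mul_one]

theorem bv_R (p q : ZMod 3) : S.bv ![p, 0, q, 0] = F.R.v ![p, 0, q] := by
  show F.L.v ![p, 0, 0] * S.sL (ww q 0) = _
  rw [ww_uu, S.uL, show (![p, 0, 0] : V) = p • b0 by funext i; fin_cases i <;> simp [b0], F.zv, ← F.R.v_add]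
  exact congrArg F.R.v (funext fun i => by fin_cases i <;> simp [b0])

/-- An element acting on the subgroup by a matrix. -/
def Acts (n : G) (M : M4) : Prop := ∀ v, n * S.bv v * n⁻¹ = S.bv (M *ᵥ v)

variable {S}

theorem Acts.mul {a b : G} {A B : M4} (ha : S.Acts a A) (hb : S.Acts b B) : S.Acts (a * b) (A * B) := fun v => by
  rw [← mulVec_mulVec, ← ha, ← hb]
  group

theorem Acts.pow {a : G} {A : M4} (ha : S.Acts a A) : ∀ n : ℕ, S.Acts (a ^ n) (A ^ n)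
  | 0 => fun v => by rw [pow_zero, pow_zero, one_mulVec, one_mul, inv_one, mul_one]
  | n + 1 => by rw [pow_succ, pow_succ]; exact (Acts.pow ha n).mul ha

theorem Acts.unique {a : G} {A B : M4} (ha : S.Acts a A) (hb : S.Acts a B) : A = B := by
  refine Matrix.ext_iff_mulVec.2 fun v => S.bv_inj ?_
  rw [← ha, ← hb]

theorem Acts.of_cols {n : G} {M : M4} {m : ZMod 3}
    (h0 : n * S.bv ![1, 0, 0, 0] * n⁻¹ = S.bv (M *ᵥ ![1, 0, 0, 0]))
    (h1 : n * S.bv ![0, 1, 0, 0] * n⁻¹ = S.bv (M *ᵥ ![0, 1, 0, 0]))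
    (h2 : n * S.bv ![0, 0, 1, 0] * n⁻¹ = S.bv (M *ᵥ ![0, 0, 1, 0]))
    (h3 : n * S.bv ![m, 0, 0, 1] * n⁻¹ = S.bv (M *ᵥ ![m, 0, 0, 1])) : S.Acts n M := by
  intro v
  have e := vec_combo m v
  rw [e]
  simp only [mulVec_add, mulVec_smul, S.bv_add, S.bv_nsmul, ← h0, ← h1, ← h2, ← h3, conj_pow]
  group

theorem Acts.mem_normalizer {n : G} {M : M4} (h : S.Acts n M) :
    n ∈ Subgroup.normalizer (S.bb.range : Set G) := by
  rw [Subgroup.mem_normalizer_iff_map_conj_eq]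
  refine Subgroup.eq_of_le_of_card_ge ?_ (by rw [Subgroup.card_map_of_injective (MulEquiv.injective _)])
  rintro _ ⟨g, ⟨v, rfl⟩, rfl⟩
  exact ⟨Multiplicative.ofAdd (M *ᵥ v.toAdd), (h v.toAdd).symm⟩

variable (S)

theorem acts_hl (g : SL2) : S.Acts (S.sL (b12 g)) (hl g) := by
  intro v
  have e : hl g *ᵥ v = ![g.1 0 0 * v 0 + g.1 0 1 * v 1, g.1 1 0 * v 0 + g.1 1 1 * v 1,
      g.1 0 0 * v 2 + g.1 0 1 * v 3, g.1 1 0 * v 2 + g.1 1 1 * v 3] := by
    funext i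
    fin_cases i <;> simp [hl, Matrix.mulVec, dotProduct, Fin.sum_univ_four]
  rw [e]
  show S.sL (b12 g) * (F.L.v ![v 0, v 1, 0] * S.sL (ww (v 2) (v 3))) * (S.sL (b12 g))⁻¹ =
    F.L.v ![g.1 0 0 * v 0 + g.1 0 1 * v 1, g.1 1 0 * v 0 + g.1 1 1 * v 1, 0] *
      S.sL (ww (g.1 0 0 * v 2 + g.1 0 1 * v 3) (g.1 1 0 * v 2 + g.1 1 1 * v 3))
  rw [conj_mul.symm, S.actL, (hl_facts g _ _).1, ← (hl_facts g (v 2) (v 3)).2, map_mul, map_mul, map_inv]

theorem acts_hr_of (m : ZMod 3) (hy : S.ψ (uu 1 0) = S.bv ![m, 0, 0, 1]) (g : SL2) :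
    S.Acts (S.ψ (b23 g)) (hr g m) := by
  have hu : ∀ a b : ZMod 3, S.ψ (uu a b) = S.bv ![m * a, b, 0, a] := by
    intro a b
    rw [uu_gen a b, map_mul, map_pow, map_pow, hy, S.ψ_uu0, ← S.bv_L, ← S.bv_nsmul, ← S.bv_nsmul, ← S.bv_add]
    exact congrArg S.bv ((show ∀ m a b : ZMod 3,
      (a.val • ![m, 0, 0, 1] + b.val • ![0, 1, 0, 0] : F4) = ![m * a, b, 0, a] by decide +kernel) m a b)
  have cu : ∀ a b : ZMod 3, S.ψ (b23 g) * S.ψ (uu a b) * (S.ψ (b23 g))⁻¹ =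
      S.ψ (uu ((theta g).1 0 0 * a + (theta g).1 0 1 * b) ((theta g).1 1 0 * a + (theta g).1 1 1 * b)) := fun a b => by
    rw [← hr_uu, map_mul, map_mul, map_inv]
  obtain ⟨c0, c1, c2, c3⟩ := hr_cols g m
  refine Acts.of_cols (m := m) ?_ ?_ ?_ ?_
  · rw [c0, S.bv_R, S.bv_R, ← (hr_z g).1]
    exact S.actψ _ b0
  · rw [c1, ← hu]
    have e : S.bv ![0, 1, 0, 0] = S.ψ (uu 0 1) := by rw [hu, mul_zero]
    rw [e, cu, mul_zero, mul_zero, mul_one, mul_one, zero_add, zero_add]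
  · rw [c2, S.bv_R, S.bv_R, ← (hr_z g).2]
    exact S.actψ _ _
  · rw [c3, ← hu, ← hy, cu, mul_zero, mul_zero, mul_one, mul_one, add_zero, add_zero]

/-- No element induces an automorphism of order nine. -/
theorem no_nine {n : G} {M : M4} (hn : S.Acts n M) (h9 : M ^ 9 = 1) (h3 : M ^ 3 ≠ 1) : False := by
  classical
  haveI : Fact (Nat.Prime 3) := ⟨Nat.prime_three⟩
  set N := Subgroup.normalizer (S.bb.range : Set G) with hN
  let P0 : Subgroup G := (UT.comap F.L.π).map F.L.M.subtype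
  have hform : ∀ p ∈ P0, ∃ (x : V) (a b c : ZMod 3) (u : L3),
      u.1 = !![1, a, b; 0, 1, c; 0, 0, 1] ∧ p = F.L.v x * S.sL u := by
    rintro _ ⟨p, hp, rfl⟩
    obtain ⟨h1, h2, h4, h5, h6, h7⟩ := (show F.L.π p ∈ UT from hp)
    obtain ⟨hs, hπ⟩ := S.πL (F.L.π p)
    obtain ⟨x, hx⟩ := F.L.eq_mul_v (g := p) (h := ⟨_, hs⟩) hπ.symm
    refine ⟨x, (F.L.π p).1 0 1, (F.L.π p).1 0 2, (F.L.π p).1 1 2, F.L.π p, ?_, hx⟩
    ext i j
    fin_cases i <;> fin_cases j <;> simp [h1, h2, h4, h5, h6, h7]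
  have hPN : P0 ≤ N := by
    intro p hp
    obtain ⟨x, a, b, c, u, hu, rfl⟩ := hform p hp
    refine mul_mem ?_ ?_
    · refine Acts.mem_normalizer (S := S) (M := !![1, 0, -x 2, 0; 0, 1, 0, -x 2; 0, 0, 1, 0; 0, 0, 0, 1]) fun v => ?_
      have e : (!![1, 0, -x 2, 0; 0, 1, 0, -x 2; 0, 0, 1, 0; 0, 0, 0, 1] : M4) *ᵥ v =
          ![v 0 + -(x 2 * v 2), v 1 + -(x 2 * v 3), v 2, v 3] := by
        funext i
        fin_cases i <;> simp [Matrix.mulVec, dotProduct, Fin.sum_univ_four]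
      rw [e]
      show F.L.v x * (F.L.v ![v 0, v 1, 0] * S.sL (ww (v 2) (v 3))) * (F.L.v x)⁻¹ =
        F.L.v ![v 0 + -(x 2 * v 2), v 1 + -(x 2 * v 3), 0] * S.sL (ww (v 2) (v 3))
      have h1 := S.actL (ww (v 2) (v 3)) (-x)
      rw [← F.L.v_neg]
      calc F.L.v x * (F.L.v ![v 0, v 1, 0] * S.sL (ww (v 2) (v 3))) * F.L.v (-x)
          = F.L.v x * F.L.v ![v 0, v 1, 0] * (S.sL (ww (v 2) (v 3)) * F.L.v (-x) * (S.sL (ww (v 2) (v 3)))⁻¹) *
              S.sL (ww (v 2) (v 3)) := by group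
        _ = _ := by
          rw [h1, mulVec_neg, (ut_normal 0 0 0 (x 2) (v 2) (v 3) x rfl).1, ← F.L.v_add, ← F.L.v_add]
          congr 2
          funext i
          fin_cases i <;> simp <;> ring
    · refine Acts.mem_normalizer (S := S) (M := !![1, a, 0, 0; 0, 1, 0, 0; 0, 0, 1, a; 0, 0, 0, 1]) fun v => ?_
      have e : (!![1, a, 0, 0; 0, 1, 0, 0; 0, 0, 1, a; 0, 0, 0, 1] : M4) *ᵥ v =
          ![v 0 + a * v 1, v 1, v 2 + a * v 3, v 3] := by
        funext i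
        fin_cases i <;> simp [Matrix.mulVec, dotProduct, Fin.sum_univ_four]
      rw [e]
      show S.sL u * (F.L.v ![v 0, v 1, 0] * S.sL (ww (v 2) (v 3))) * (S.sL u)⁻¹ =
        F.L.v ![v 0 + a * v 1, v 1, 0] * S.sL (ww (v 2 + a * v 3) (v 3))
      have hc : u * ww (v 2) (v 3) * u⁻¹ = ww (v 2 + a * v 3) (v 3) := mul_inv_eq_iff_eq_mul.2 (Subtype.ext (by
        rw [Matrix.SpecialLinearGroup.coe_mul, Matrix.SpecialLinearGroup.coe_mul, hu]
        exact (ut_normal a b c 0 (v 2) (v 3) 0 rfl).2.2))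
      rw [conj_mul.symm, S.actL, hu, (ut_normal a b c 0 (v 0) (v 1) 0 rfl).2.1, ← hc, map_mul, map_mul, map_inv]
  have hcube : ∀ p ∈ P0, ∃ k : ZMod 3, p ^ 3 = F.L.v (k • b0) := by
    intro p hp
    obtain ⟨x, a, b, c, u, hu, rfl⟩ := hform p hp
    obtain ⟨hu3, hk⟩ := ut_cube a b c x
    refine ⟨((1 + u.1 + u.1 * u.1) *ᵥ x) 0, ?_⟩
    have hs3 : S.sL u * S.sL u * S.sL u = 1 := by
      rw [← map_mul, ← map_mul, show u * u * u = 1 from Subtype.ext (by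
        rw [Matrix.SpecialLinearGroup.coe_mul, Matrix.SpecialLinearGroup.coe_mul, hu]; exact hu3), map_one]
    have h1 : (F.L.v x * S.sL u) ^ 3 = F.L.v x * (S.sL u * F.L.v x * (S.sL u)⁻¹) *
        (S.sL u * (S.sL u * F.L.v x * (S.sL u)⁻¹) * (S.sL u)⁻¹) * (S.sL u * S.sL u * S.sL u) := by
      simp only [pow_succ, pow_zero, one_mul]
      group
    rw [h1, hs3, mul_one, S.actL, S.actL, mulVec_mulVec, ← F.L.v_add, ← F.L.v_add]
    refine congrArg F.L.v (Eq.trans ?_ (hu ▸ hk))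
    rw [add_mulVec, add_mulVec, one_mulVec]
  have hP3 : IsPGroup 3 P0 := fun p => ⟨2, by
    obtain ⟨k, hk⟩ := hcube _ p.2
    refine Subtype.ext ?_
    rw [SubgroupClass.coe_pow, show 3 ^ 2 = 3 * 3 from rfl, pow_mul, hk, F.L.v_cube]
    rfl⟩
  have hPc : 729 ≤ Nat.card P0 := by
    let f : V × (Fin 3 → ZMod 3) → P0 := fun w =>
      ⟨F.L.v w.1 * S.sL (ug (w.2 0) (w.2 1) (w.2 2)), by
        obtain ⟨hs, hπ⟩ := S.πL (ug (w.2 0) (w.2 1) (w.2 2))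
        refine ⟨⟨F.L.v w.1, F.L.le (F.L.v_mem _)⟩ * ⟨_, hs⟩, ?_, rfl⟩
        show F.L.π _ ∈ UT
        rw [map_mul, F.L.π_v, one_mul, hπ]
        exact ⟨rfl, rfl, rfl, rfl, rfl, rfl⟩⟩
    have hf : Function.Injective f := by
      intro w w' e
      have e' := congrArg Subtype.val e
      obtain ⟨p, hp⟩ := S.πL (ug (w.2 0) (w.2 1) (w.2 2))
      obtain ⟨q, hq⟩ := S.πL (ug (w'.2 0) (w'.2 1) (w'.2 2))
      have h1 := congrArg F.L.π (show (⟨F.L.v w.1, F.L.le (F.L.v_mem _)⟩ : F.L.M) * ⟨_, p⟩ =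
        ⟨F.L.v w'.1, F.L.le (F.L.v_mem _)⟩ * ⟨_, q⟩ from Subtype.ext e')
      rw [map_mul, map_mul, F.L.π_v, F.L.π_v, one_mul, one_mul, hp, hq] at h1
      have h2 := congrArg Subtype.val h1
      have h4 : w.2 = w'.2 := by
        funext i
        fin_cases i
        · simpa [ug] using congrFun (congrFun h2 0) 1
        · simpa [ug] using congrFun (congrFun h2 0) 2
        · simpa [ug] using congrFun (congrFun h2 1) 2
      refine Prod.ext ?_ h4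
      exact F.L.v_inj (mul_right_cancel (e'.trans (congrArg (F.L.v w'.1 * ·) (congrArg S.sL h1).symm)))
    refine le_trans (le_of_eq ?_) (Nat.card_le_card_of_injective f hf)
    rw [Nat.card_eq_fintype_card]
    rfl
  obtain ⟨e, r, hr, hord⟩ := Nat.exists_eq_pow_mul_and_not_dvd (orderOf_pos n).ne' 3 (by norm_num)
  have hnN : n ∈ N := hn.mem_normalizer
  set n' : N := ⟨n ^ r, pow_mem hnN r⟩ with hn'
  have hn'3 : IsPGroup 3 (Subgroup.zpowers n') := by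
    refine IsPGroup.iff_orderOf.2 fun x => ?_
    have h1 : n' ^ 3 ^ e = 1 := Subtype.ext (by
      show (n ^ r) ^ 3 ^ e = 1
      rw [← pow_mul, mul_comm, ← hord, pow_orderOf_eq_one])
    have h2 : orderOf x ∣ 3 ^ e := by
      refine (Subgroup.orderOf_dvd_natCard _ x.2).trans ?_ |> fun h => by simpa [Subgroup.orderOf_coe] using h
      rw [Nat.card_zpowers]
      exact orderOf_dvd_of_pow_eq_one h1
    obtain ⟨j, -, hj⟩ := (Nat.dvd_prime_pow Nat.prime_three).1 h2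
    exact ⟨j, hj⟩
  obtain ⟨Q, hQ⟩ := (hP3.comap_of_injective N.subtype N.subtype_injective).exists_le_sylow
  obtain ⟨Q', hQ'⟩ := hn'3.exists_le_sylow
  have hQeq : P0.comap N.subtype = Q := by
    refine Subgroup.eq_of_le_of_card_ge hQ ?_
    have h1 := F.syl _ (Q.2.map N.subtype)
    rw [Subgroup.card_map_of_injective N.subtype_injective] at h1
    refine h1.trans (le_trans hPc (le_of_eq ?_))
    exact (Nat.card_congr (Subgroup.subgroupOfEquivOfLe hPN).toEquiv).symm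
  obtain ⟨g, hg⟩ := MulAction.exists_smul_eq N Q Q'
  have h5 : n' ∈ (g • Q : Sylow 3 N).toSubgroup := hg ▸ hQ' (Subgroup.mem_zpowers n')
  rw [Sylow.coe_subgroup_smul, Subgroup.mem_pointwise_smul_iff_inv_smul_mem, ← hQeq] at h5
  have h6 : (g : G)⁻¹ * n ^ r * (g : G) ∈ P0 := by
    simpa [MulAut.conj_apply, Subgroup.mem_subgroupOf, hn'] using h5
  obtain ⟨k, hk⟩ := hcube _ h6
  have hk' : ((g : G)⁻¹ * n ^ r * (g : G)) ^ 3 = (g : G)⁻¹ * (n ^ r) ^ 3 * (g : G) := by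
    rw [show (g : G)⁻¹ * n ^ r * (g : G) = (g : G)⁻¹ * n ^ r * ((g : G)⁻¹)⁻¹ by rw [inv_inv], conj_pow, inv_inv]
  have h7 : (n ^ r) ^ 3 ∈ S.bb.range := by
    have h8 : S.bv ![k, 0, 0, 0] = (g : G)⁻¹ * (n ^ r) ^ 3 * (g : G) := by
      rw [← hk', hk, S.bv_L]
      exact congrArg F.L.v (funext fun i => by fin_cases i <;> simp [b0])
    have h9' := (Subgroup.mem_normalizer_iff.1 g.2 (S.bv ![k, 0, 0, 0])).1 ⟨Multiplicative.ofAdd ![k, 0, 0, 0], rfl⟩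
    rw [h8] at h9'
    simpa [mul_assoc] using h9'
  obtain ⟨w, hw⟩ := h7
  have hone : (M ^ r) ^ 3 = 1 := by
    refine ((hn.pow r).pow 3).unique fun v => ?_
    rw [← hw, one_mulVec]
    show S.bv w.toAdd * S.bv v * (S.bv w.toAdd)⁻¹ = S.bv v
    rw [S.bv_comm, mul_inv_cancel_right]
  rw [← pow_mul, mul_comm, pow_mul, ← Nat.mod_add_div r 3, pow_add, pow_mul (M ^ 3) 3, ← pow_mul M 3 3, h9,
    one_pow, mul_one] at hone
  have hr3 : r % 3 = 1 ∨ r % 3 = 2 := by omega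
  rcases hr3 with h | h <;> rw [h] at hone
  · exact h3 (by rwa [pow_one] at hone)
  · refine h3 ?_
    have h10 : (M ^ 3) ^ 3 = 1 := by rw [← pow_mul]; exact h9
    rwa [pow_succ, hone, one_mul] at h10

/-- The middle blocks agree. -/
theorem mid_eq : ∀ g : SL2, S.sL (b23 g) = S.ψ (b12 g) := by
  obtain ⟨c, hc⟩ := S.mid (ue 1)
  have hy : S.ψ (uu 1 0) = S.bv ![-c, 0, 0, 1] := by
    show _ = F.L.v ![-c, 0, 0] * S.sL (ww 0 1)
    rw [ww_mid, hc, show (![-c, 0, 0] : V) = (-c) • b0 by funext i; fin_cases i <;> simp [b0], F.zv, ← mul_assoc,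
      ← F.R.v_add, ← add_smul, neg_add_cancel, zero_smul, F.R.v_zero, one_mul,
      show b12 (ue (1 : ZMod 3)) = uu 1 0 by decide +kernel]
  have hc0 : c = 0 := by
    by_contra hne
    have hA : S.Acts _ _ := (((((S.acts_hr_of (-c) hy (ue 1)).mul (S.acts_hr_of (-c) hy (ue 1))).mul
      (S.acts_hr_of (-c) hy (le' 1))).mul (S.acts_hl (le' 1))).mul (S.acts_hr_of (-c) hy (le' 1))).mul
      (S.acts_hl (le' 1))
    obtain ⟨h9, h3⟩ := word_nine (-c) (neg_ne_zero.2 hne)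
    exact S.no_nine (hA.mul hA) h9 h3
  have he : S.sL (b23 (ue 1)) = S.ψ (b12 (ue 1)) := by rw [hc, hc0, zero_smul, F.R.v_zero, one_mul]
  have hl : S.sL (b23 (le' 1)) = S.ψ (b12 (le' 1)) := by
    obtain ⟨d, hd⟩ := S.mid wz
    rw [le_conj, map_mul, map_mul, map_mul, map_mul, map_inv, map_inv, map_inv, map_inv, map_mul, map_mul,
      map_inv, map_inv, map_mul, map_mul, map_inv, map_inv, he, hd]
    set p := S.ψ (b12 wz)
    set q := S.ψ (b12 (ue 1))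
    have hcomm : ∀ g : SL2, S.ψ (b12 g) * F.R.v (d • b0) * (S.ψ (b12 g))⁻¹ = F.R.v (d • b0) := by
      intro g
      rw [S.actψ, th_b12, mulVec_smul, (b23_fix_dt (theta g)).1]
    have h1 : Commute q (F.R.v (d • b0)) := mul_inv_eq_iff_eq_mul.1 (hcomm _)
    have h2 : Commute p (F.R.v (d • b0)) := mul_inv_eq_iff_eq_mul.1 (hcomm _)
    have h3 : Commute (p * q⁻¹ * p⁻¹) (F.R.v (d • b0)) := (h2.mul_left h1.inv_left).mul_left h2.inv_left
    calc F.R.v (d • b0) * p * q⁻¹ * (F.R.v (d • b0) * p)⁻¹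
        = F.R.v (d • b0) * (p * q⁻¹ * p⁻¹) * (F.R.v (d • b0))⁻¹ := by group
      _ = _ := by rw [← h3.eq, mul_inv_cancel_right]
  intro g
  obtain ⟨a, b, c', d, rfl⟩ := sl2_words g
  simp only [map_mul, map_pow, he, hl]

end Levis

end Cfsg.Agent.Spor.PSLFourThree
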