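import Cfsg.Agent.Lib.Spor.PSLFourThree.SModel
import Cfsg.Agent.Lib.Fusion.Basic

/-!
# Consequences of a strong transvection
-/

set_option autoImplicit false
set_option linter.unusedSectionVars false
set_option linter.style.haveILetI false
set_option maxRecDepth 100000

namespace Cfsg.Agent.Spor.PSLFourThree

open Matrix JCase

/-- Commuting with a conjugate of the transvection. -/
def ZC (x : PSLF) : Prop := ∃ k : PSLF, Commute x (k * zP * k⁻¹)

theorem zP_cube : zP * zP * zP = 1 ∧ zP ≠ 1 := by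
  constructor
  · rw [zP, ← map_mul, ← map_mul, show zMat * zMat * zMat = 1 by decide +kernel, map_one]
  · intro h
    rw [zP, show (1 : PSLF) = pr 1 from (map_one pr).symm, pr_eq_iff] at h
    revert h
    decide +kernel

theorem zc_sP : ZC sP := ⟨1, by
  rw [one_mul, inv_one, mul_one, Commute, SemiconjBy, sP, zP, ← map_mul, ← map_mul,
    show sMat * zMat = zMat * sMat by decide +kernel]⟩

theorem zc_conj {x : PSLF} (h : ZC x) (a : PSLF) : ZC (a * x * a⁻¹) := by
  obtain ⟨k, hk⟩ := h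
  refine ⟨a * k, ?_⟩
  have := hk.map (MulAut.conj a).toMonoidHom
  simpa [MulAut.conj_apply, mul_assoc] using this

/-- The translations commuting with the second involution. -/
def EjHom : Multiplicative (ZMod 3 × ZMod 3) →* SLF where
  toFun t := ⟨!![1, 0, t.toAdd.1, t.toAdd.2; 0, 1, -t.toAdd.2, t.toAdd.1; 0, 0, 1, 0; 0, 0, 0, 1], by
    revert t
    decide +kernel⟩
  map_one' := Subtype.ext (by
    show (!![1, 0, (0 : ZMod 3), 0; 0, 1, -0, 0; 0, 0, 1, 0; 0, 0, 0, 1] : M4) = 1
    decide +kernel)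
  map_mul' s t := Subtype.ext ((show ∀ s t : ZMod 3 × ZMod 3,
    (!![1, 0, (s + t).1, (s + t).2; 0, 1, -(s + t).2, (s + t).1; 0, 0, 1, 0; 0, 0, 0, 1] : M4) =
      !![1, 0, s.1, s.2; 0, 1, -s.2, s.1; 0, 0, 1, 0; 0, 0, 0, 1] *
        !![1, 0, t.1, t.2; 0, 1, -t.2, t.1; 0, 0, 1, 0; 0, 0, 0, 1] by decide +kernel) s.toAdd t.toAdd)

theorem EjHom_spec : ∀ t : Multiplicative (ZMod 3 × ZMod 3), EjHom t * jMat = jMat * EjHom t ∧
    ((EjHom t : M4) = 1 → t = 1) ∧ (EjHom t : M4) ≠ -1 := by decide +kernel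

/-- The group of order nine in the centraliser of the second involution. -/
def Ej : Subgroup PSLF := (pr.comp EjHom).range

theorem card_Ej : Nat.card Ej = 9 := by
  rw [Ej, ← Nat.card_congr (MonoidHom.ofInjective (f := pr.comp EjHom) ?_).toEquiv,
    Nat.card_congr Multiplicative.toAdd, Nat.card_prod, Nat.card_zmod]
  refine (injective_iff_map_eq_one _).2 fun t ht => ?_
  rw [MonoidHom.comp_apply, show (1 : PSLF) = pr 1 from (map_one pr).symm, pr_eq_iff,
    Matrix.SpecialLinearGroup.coe_one] at ht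
  exact ht.elim (EjHom_spec t).2.1 fun h => absurd h (EjHom_spec t).2.2

theorem Ej_comm {x : PSLF} (h : x ∈ Ej) : x * jP = jP * x := by
  obtain ⟨t, rfl⟩ := h
  show pr (EjHom t) * pr jMat = pr jMat * pr (EjHom t)
  rw [← map_mul, ← map_mul, (EjHom_spec t).1]

theorem sum_neg : ∀ a : ZMod 3, a * a ≠ -1 := by decide

theorem neg_eq_zero' : ∀ a : ZMod 3, a = -a → a = 0 := by decide

/-- A square root of minus one does not commute with the transvection. -/
theorem comm_false (M : M4) (hsq : M * M = -1) (e : M * (zMat : M4) = (zMat : M4) * M) : False := by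
  have e00 := congrFun (congrFun e 0) 1
  have e10 := congrFun (congrFun e 1) 1
  have e20 := congrFun (congrFun e 2) 1
  have e30 := congrFun (congrFun e 3) 1
  have s00 := congrFun (congrFun hsq 0) 0
  simp [zMat, Matrix.mul_apply, Fin.sum_univ_four] at e00 e10 e20 e30 s00
  rw [e10, e20, e30] at s00
  simp at s00
  exact sum_neg _ s00

/-- An invertible matrix is not sent to its negative by the transvection. -/
theorem anti_false (M : M4) (hd : M.det ≠ 0) (e : M * (zMat : M4) = -((zMat : M4) * M)) : False := by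
  refine hd (Matrix.det_eq_zero_of_row_eq_zero 3 fun j => ?_)
  have a0 := congrFun (congrFun e 3) 0
  have a1 := congrFun (congrFun e 3) 1
  have a2 := congrFun (congrFun e 3) 2
  have a3 := congrFun (congrFun e 3) 3
  simp [zMat, Matrix.mul_apply, Matrix.vecMul, dotProduct, Fin.sum_univ_four] at a0 a1 a2 a3
  have h0 := neg_eq_zero' _ a0
  rw [h0, zero_add] at a1
  fin_cases j
  · exact h0
  · exact neg_eq_zero' _ a1
  · exact neg_eq_zero' _ a2
  · exact neg_eq_zero' _ a3

/-- No transvection commutes with the second involution. -/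
theorem not_zc_jP : ¬ ZC jP := by
  rintro ⟨k, hk⟩
  obtain ⟨Q, hQ⟩ : ∃ Q : SLF, pr Q = k := QuotientGroup.mk'_surjective _ k
  have hk' : Commute (k⁻¹ * jP * k) zP := by
    have := hk.map (MulAut.conj k⁻¹).toMonoidHom
    simpa [MulAut.conj_apply, mul_assoc] using this
  have hj : ((jMat * jMat : SLF) : M4) = -1 := by decide +kernel
  have hsq : ((Q⁻¹ * jMat * Q : SLF) : M4) * ((Q⁻¹ * jMat * Q : SLF) : M4) = -1 := by
    rw [← Matrix.SpecialLinearGroup.coe_mul,
      show Q⁻¹ * jMat * Q * (Q⁻¹ * jMat * Q) = Q⁻¹ * (jMat * jMat) * Q by group,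
      Matrix.SpecialLinearGroup.coe_mul, Matrix.SpecialLinearGroup.coe_mul, hj, mul_neg, mul_one, neg_mul,
      ← Matrix.SpecialLinearGroup.coe_mul, inv_mul_cancel, Matrix.SpecialLinearGroup.coe_one]
  generalize hM : (Q⁻¹ * jMat * Q : SLF) = H at hsq
  have hc : pr (H * zMat) = pr (zMat * H) := by
    have e : pr H = k⁻¹ * jP * k := by rw [← hM, map_mul, map_mul, map_inv, hQ]; rfl
    rw [map_mul, map_mul, e]
    exact hk'.eq
  rw [pr_eq_iff, Matrix.SpecialLinearGroup.coe_mul, Matrix.SpecialLinearGroup.coe_mul] at hc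
  rcases hc with e | e
  · exact comm_false _ hsq e
  · exact anti_false _ (by rw [H.2]; exact one_ne_zero) e

theorem sP_sq : sP * sP = 1 := by
  rw [sP, ← map_mul, show sMat * sMat = 1 by decide +kernel, map_one]

theorem sP_ne : sP ≠ 1 := by
  rw [sP, show (1 : PSLF) = pr 1 from (map_one pr).symm, Ne, pr_eq_iff]
  decide +kernel

/-- The parametrisation of the centraliser of the first involution. -/
def elB (p : Pr × Bool) : PSLF := (if p.2 then sP else 1) * pr (SModel.el p.1)

theorem elB_inj : Function.Injective elB := by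
  rintro ⟨x, b⟩ ⟨y, c⟩ h
  have hs : ∀ x, sP * pr (SModel.el x) = pr (SModel.el x) * sP := SModel.el_comm
  obtain ⟨t, ht⟩ : ∃ t : PSLF, t = (if b then sP else 1) * (if c then sP else 1) := ⟨_, rfl⟩
  have h' : pr (SModel.el y) = t * pr (SModel.el x) := by
    simp only [elB] at h
    rw [ht]
    cases b <;> cases c <;> simp only [Bool.false_eq_true, if_false, if_true, one_mul, mul_one] at h ⊢
    · exact h.symm
    · rw [h, ← mul_assoc, sP_sq, one_mul]
    · exact h.symm
    · rw [sP_sq, one_mul]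
      exact (mul_left_cancel h).symm
  have hone : pr (SModel.el 1) = 1 := by
    rw [show SModel.el 1 = 1 by decide +kernel, map_one]
  have ht' : t = 1 ∨ t = sP := by
    rw [ht]; cases b <;> cases c <;> simp [sP_sq]
  have hxy : y * x⁻¹ = 1 := by
    refine SModel.el_eq_one ?_
    have e := SModel.el_mul (y * x⁻¹) x
    rw [inv_mul_cancel_right, h'] at e
    rcases e with e | e <;> rcases ht' with rfl | rfl
    · exact Or.inl (mul_right_cancel (b := pr (SModel.el x)) (by rw [e, one_mul]))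
    · exact Or.inr (mul_right_cancel (b := pr (SModel.el x)) e)
    · refine Or.inr (mul_right_cancel (b := pr (SModel.el x)) (by rw [e, one_mul]))
    · refine Or.inl (mul_right_cancel (b := pr (SModel.el x)) ?_)
      rw [e, ← mul_assoc, sP_sq]
  obtain rfl := mul_inv_eq_one.1 hxy
  have ht1 : t = 1 := mul_eq_right.1 h'.symm
  rw [ht] at ht1
  have := sP_ne
  cases b <;> cases c <;> simp_all

theorem card_cent_sP : Nat.card (Subgroup.centralizer ({sP} : Set PSLF)) = 1152 := by
  have hm : ∀ p, elB p ∈ Subgroup.centralizer ({sP} : Set PSLF) := fun p => by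
    rw [Subgroup.mem_centralizer_singleton_iff, elB]
    split_ifs
    · rw [mul_assoc, ← SModel.el_comm]
    · rw [one_mul, SModel.el_comm]
  let e : Pr × Bool → Subgroup.centralizer ({sP} : Set PSLF) := fun p => ⟨elB p, hm p⟩
  have hb : Function.Bijective e := by
    refine ⟨fun p q h => elB_inj (congrArg Subtype.val h), fun z => ?_⟩
    obtain ⟨x, hx | hx⟩ := SModel.cover (Subgroup.mem_centralizer_singleton_iff.1 z.2)
    · exact ⟨(x, false), Subtype.ext (by simp [e, elB, hx])⟩
    · exact ⟨(x, true), Subtype.ext (by simp [e, elB, hx])⟩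
  rw [← Nat.card_congr (Equiv.ofBijective e hb), Nat.card_prod, Nat.card_eq_fintype_card, Pr.card_pr,
    Nat.card_eq_fintype_card, Fintype.card_bool]

section Group

variable {G : Type*} [Group G] [Finite G] (f : PSLF →* G) (hf : Function.Injective f)
  (hz : ∀ g : G, g * f zP * g⁻¹ ∈ f.range → g ∈ f.range)

include hz

/-- Conjugates of the transvection are strong. -/
theorem strong_conj {k : PSLF} {g : G} (h : g * f (k * zP * k⁻¹) * g⁻¹ ∈ f.range) : g ∈ f.range := by
  have h1 : g * f k ∈ f.range := hz _ (by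
    convert h using 1
    rw [map_mul, map_mul, map_inv]
    group)
  simpa using f.range.mul_mem h1 (f.range.inv_mem ⟨k, rfl⟩)

/-- A Sylow subgroup of the centraliser lies inside. -/
theorem exists_sylow {x : PSLF} (hx : ZC x) : ∃ P : Sylow 3 (Subgroup.centralizer ({f x} : Set G)),
    (P : Subgroup _).map (Subgroup.centralizer ({f x} : Set G)).subtype ≤ f.range ∧
    ∃ k : PSLF, f (k * zP * k⁻¹) ∈ (P : Subgroup _).map (Subgroup.centralizer ({f x} : Set G)).subtype := by
  haveI : Fact (Nat.Prime 3) := ⟨Nat.prime_three⟩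
  obtain ⟨k, hk⟩ := hx
  set z' := f (k * zP * k⁻¹) with hz'
  have hzc : z' ∈ Subgroup.centralizer ({f x} : Set G) :=
    Subgroup.mem_centralizer_singleton_iff.2 (hk.map f).eq.symm
  have hz3 : z' ^ 3 = 1 := by
    rw [hz', ← map_pow, conj_pow, pow_succ, pow_two, zP_cube.1, mul_one, mul_inv_cancel, map_one]
  have h3 : (⟨z', hzc⟩ : Subgroup.centralizer ({f x} : Set G)) ^ 3 = 1 :=
    Subtype.ext (by rw [SubgroupClass.coe_pow]; exact hz3)
  have hp : IsPGroup 3 (Subgroup.zpowers (⟨z', hzc⟩ : Subgroup.centralizer ({f x} : Set G))) := fun a =>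
    ⟨1, Subtype.ext (by
      obtain ⟨n, hn⟩ := Subgroup.mem_zpowers_iff.1 a.2
      rw [SubgroupClass.coe_pow, ← hn, pow_one, OneMemClass.coe_one, ← zpow_natCast, ← _root_.zpow_mul,
        mul_comm n, _root_.zpow_mul, zpow_natCast, h3, _root_.one_zpow])⟩
  obtain ⟨P, hP⟩ := hp.exists_le_sylow
  have hzP : (⟨z', hzc⟩ : Subgroup.centralizer ({f x} : Set G)) ∈ (P : Subgroup _) := hP (Subgroup.mem_zpowers _)
  refine ⟨P, ?_, k, ⟨⟨z', hzc⟩, hzP, rfl⟩⟩
  rw [Subgroup.map_le_iff_le_comap]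
  by_contra hne
  set W := f.range.comap (Subgroup.centralizer ({f x} : Set G)).subtype with hW
  haveI : Group.IsNilpotent (P : Subgroup (Subgroup.centralizer ({f x} : Set G))) := P.2.isNilpotent
  have hlt : W.subgroupOf (P : Subgroup _) < ⊤ := lt_top_iff_ne_top.2 fun h =>
    hne (Subgroup.subgroupOf_eq_top.1 h)
  obtain ⟨g, hg, hgW⟩ := SetLike.exists_of_lt ((Group.normalizerCondition_of_isNilpotent
    (G := (P : Subgroup (Subgroup.centralizer ({f x} : Set G))))) _ hlt)
  refine hgW (strong_conj f hz (k := k) (g := ((g : Subgroup.centralizer ({f x} : Set G)) : G)) ?_)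
  exact (Subgroup.mem_normalizer_iff.1 hg ⟨⟨z', hzc⟩, hzP⟩).1 (show z' ∈ f.range from ⟨_, rfl⟩)

/-- The subgroup controls the fusion of elements commuting with transvections. -/
theorem fusion {x x' : PSLF} (hx : ZC x) (hx' : ZC x') {g : G} (hg : g * f x * g⁻¹ = f x') :
    ∃ c ∈ Subgroup.centralizer ({f x'} : Set G), c * g ∈ f.range := by
  haveI : Fact (Nat.Prime 3) := ⟨Nat.prime_three⟩
  obtain ⟨P, -, k, hk⟩ := exists_sylow f hz hx
  obtain ⟨P', hP', -⟩ := exists_sylow f hz hx'
  set S := ((P : Subgroup _).map (Subgroup.centralizer ({f x} : Set G)).subtype).map (MulAut.conj g).toMonoidHom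
  have hSC : S ≤ Subgroup.centralizer ({f x'} : Set G) := by
    rintro _ ⟨_, ⟨z, -, rfl⟩, rfl⟩
    rw [Subgroup.mem_centralizer_singleton_iff, ← hg]
    show g * (z : G) * g⁻¹ * (g * f x * g⁻¹) = g * f x * g⁻¹ * (g * (z : G) * g⁻¹)
    calc g * (z : G) * g⁻¹ * (g * f x * g⁻¹) = g * ((z : G) * f x) * g⁻¹ := by group
      _ = g * (f x * z) * g⁻¹ := by rw [Subgroup.mem_centralizer_singleton_iff.1 z.2]
      _ = _ := by group
  obtain ⟨Q, hQ⟩ := (((P.2.map _).map (MulAut.conj g).toMonoidHom).of_equiv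
    (Subgroup.subgroupOfEquivOfLe hSC).symm).exists_le_sylow
  obtain ⟨c, hc⟩ := MulAction.exists_smul_eq (Subgroup.centralizer ({f x'} : Set G)) Q P'
  have hS : g * f (k * zP * k⁻¹) * g⁻¹ ∈ S := ⟨_, hk, rfl⟩
  have h1 : c * (⟨_, hSC hS⟩ : Subgroup.centralizer ({f x'} : Set G)) * c⁻¹ ∈ (P' : Subgroup _) := by
    rw [← hc, Sylow.coe_subgroup_smul]
    exact ⟨_, hQ hS, rfl⟩
  refine ⟨c, c.2, strong_conj f hz (k := k) ?_⟩
  have h2 := hP' ⟨_, h1, rfl⟩
  convert h2 using 1
  simp [mul_assoc]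

include hf

theorem cent_sP_card {P : Subgroup G} (hP : IsPGroup 3 P) (hPr : P ≤ f.range)
    (hPc : P ≤ Subgroup.centralizer ({f sP} : Set G)) : Nat.card P ≤ 9 := by
  haveI : Fact (Nat.Prime 3) := ⟨Nat.prime_three⟩
  have hle : P ≤ (Subgroup.centralizer ({sP} : Set PSLF)).map f := by
    intro z hz'
    obtain ⟨y, rfl⟩ := hPr hz'
    refine ⟨y, Subgroup.mem_centralizer_singleton_iff.2 (hf ?_), rfl⟩
    rw [map_mul, map_mul]
    exact Subgroup.mem_centralizer_singleton_iff.1 (hPc hz')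
  have hd := Subgroup.card_dvd_of_le hle
  rw [Subgroup.card_map_of_injective hf, card_cent_sP] at hd
  obtain ⟨n, hn⟩ := IsPGroup.iff_card.1 hP
  rw [hn] at hd ⊢
  have : n ≤ 2 := by
    by_contra h
    have h27 : 3 ^ 3 ∣ 1152 := (pow_dvd_pow 3 (by omega : 3 ≤ n)).trans hd
    norm_num at h27
  exact (Nat.pow_le_pow_right (by norm_num) this).trans (by norm_num)

/-- The two classes of involutions are not fused. -/
theorem not_fused (g : G) : g * f sP * g⁻¹ ≠ f jP := by
  haveI : Fact (Nat.Prime 3) := ⟨Nat.prime_three⟩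
  intro hg
  obtain ⟨P, hPr, k, hk⟩ := exists_sylow f hz zc_sP
  set S := (Ej.map f).map (MulAut.conj g⁻¹).toMonoidHom
  have hSC : S ≤ (Subgroup.centralizer ({f sP} : Set G)) := by
    rintro _ ⟨_, ⟨e, he, rfl⟩, rfl⟩
    rw [Subgroup.mem_centralizer_singleton_iff]
    show g⁻¹ * f e * g⁻¹⁻¹ * f sP = f sP * (g⁻¹ * f e * g⁻¹⁻¹)
    have hs : f sP = g⁻¹ * f jP * g := by rw [← hg]; group
    rw [inv_inv, hs]
    calc g⁻¹ * f e * g * (g⁻¹ * f jP * g) = g⁻¹ * (f e * f jP) * g := by group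
      _ = g⁻¹ * (f jP * f e) * g := by rw [← map_mul, Ej_comm he, map_mul]
      _ = _ := by group
  have hS9 : Nat.card S = 9 := by
    rw [Subgroup.card_map_of_injective (MulEquiv.injective _), Subgroup.card_map_of_injective hf, card_Ej]
  have hSp : IsPGroup 3 (S.subgroupOf (Subgroup.centralizer ({f sP} : Set G))) :=
    IsPGroup.of_card (n := 2) (by rw [Nat.card_congr (Subgroup.subgroupOfEquivOfLe hSC).toEquiv, hS9]; norm_num)
  obtain ⟨Q, hQ⟩ := hSp.exists_le_sylow
  obtain ⟨c, hc⟩ := MulAction.exists_smul_eq (Subgroup.centralizer ({f sP} : Set G)) Q P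
  set PG := (P : Subgroup (Subgroup.centralizer ({f sP} : Set G))).map (Subgroup.centralizer ({f sP} : Set G)).subtype with hPG
  set S' := S.map (MulAut.conj (c : G)).toMonoidHom
  have hle : S' ≤ PG := by
    rintro _ ⟨z, hzS, rfl⟩
    refine ⟨c * ⟨z, hSC hzS⟩ * c⁻¹, ?_, rfl⟩
    rw [← hc, Sylow.coe_subgroup_smul]
    exact ⟨_, hQ hzS, rfl⟩
  have heq : S' = PG := by
    refine Subgroup.eq_of_le_of_card_ge hle ?_
    rw [show Nat.card S' = 9 from (Subgroup.card_map_of_injective (MulEquiv.injective _)).trans hS9]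
    exact cent_sP_card f hf hz (P.2.map _) hPr (Subgroup.map_subtype_le _)
  have hk' : f (k * zP * k⁻¹) ∈ PG := hk
  rw [← heq] at hk'
  obtain ⟨_, ⟨_, ⟨e, he, rfl⟩, rfl⟩, hek⟩ := hk'
  have hek' : (c : G) * g⁻¹ * f e * ((c : G) * g⁻¹)⁻¹ = f (k * zP * k⁻¹) := by
    rw [← hek]
    show _ = (c : G) * (g⁻¹ * f e * g⁻¹⁻¹) * (c : G)⁻¹
    group
  have hr : ((c : G) * g⁻¹)⁻¹ ∈ f.range := by
    refine strong_conj f hz (k := k) ⟨e, ?_⟩
    rw [← hek']
    group
  obtain ⟨w, hw⟩ := hr
  refine not_zc_jP ⟨w * k, ?_⟩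
  have : e = w * (k * zP * k⁻¹) * w⁻¹ := hf (by
    rw [map_mul f (w * (k * zP * k⁻¹)), map_mul f w, map_inv, hw, ← hek']
    group)
  rw [show w * k * zP * (w * k)⁻¹ = e by rw [this]; group]
  exact (Ej_comm he).symm

end Group

end Cfsg.Agent.Spor.PSLFourThree
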